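/-
Calculus in a group `Rel σ τ G`: the torus part `kap`, the right hand part `gam` of
`w U(p) w = U(τ p) w h(kap p) U(gam p)`, and the rules for inverse, torus, `τ` and products;
the agreement set of two such groups.
-/
import Cfsg.Agent.ReeUniq.Law

set_option autoImplicit false

namespace Cfsg.Agent.ReeUniq

variable {K : Type*} [Field K]

section Law

variable (σ : K →+* K)

theorem inv_inv' (h3 : (3 : K) = 0) (p : K × K × K) : inv σ (inv σ p) = p := by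
  have h1 : mul σ (inv σ (inv σ p)) (inv σ p) = 0 := inv_mul' σ _
  calc inv σ (inv σ p) = mul σ (inv σ (inv σ p)) (mul σ (inv σ p) p) := by rw [inv_mul', mul_zero']
    _ = mul σ (mul σ (inv σ (inv σ p)) (inv σ p)) p := (mul_assoc' h3 σ _ _ _).symm
    _ = p := by rw [h1, zero_mul']

theorem inv_zero' : inv σ (0 : K × K × K) = 0 := by simp [inv]

theorem dil_zero' (k : K) : dil σ k (0 : K × K × K) = 0 := by simp [dil]

theorem one_dil (p : K × K × K) : dil σ 1 p = p := by simp [dil]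

theorem dil_dil (a b : K) (p : K × K × K) : dil σ a (dil σ b p) = dil σ (a * b) p := by
  obtain ⟨x, y, z⟩ := p
  simp only [dil, map_mul, Prod.mk.injEq]
  refine ⟨by ring, by ring, by ring⟩

theorem dil_inv (a : K) (p : K × K × K) : dil σ a (inv σ p) = inv σ (dil σ a p) := by
  obtain ⟨x, y, z⟩ := p
  simp only [dil, inv, map_mul, Prod.mk.injEq]
  refine ⟨by ring, by ring, by ring⟩

theorem inv_mul_rev (h3 : (3 : K) = 0) (p q : K × K × K) : inv σ (mul σ p q) = mul σ (inv σ q) (inv σ p) := by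
  have h1 : mul σ (mul σ p q) (mul σ (inv σ q) (inv σ p)) = 0 := by
    rw [mul_assoc' h3, ← mul_assoc' h3 σ q, mul_inv' h3, zero_mul', mul_inv' h3]
  calc inv σ (mul σ p q) = mul σ (inv σ (mul σ p q)) (mul σ (mul σ p q) (mul σ (inv σ q) (inv σ p))) := by
        rw [h1, mul_zero']
    _ = mul σ (mul σ (inv σ (mul σ p q)) (mul σ p q)) (mul σ (inv σ q) (inv σ p)) := (mul_assoc' h3 σ _ _ _).symm
    _ = _ := by rw [inv_mul', zero_mul']

theorem inv_ne_zero' (h3 : (3 : K) = 0) {p : K × K × K} (hp : p ≠ 0) : inv σ p ≠ 0 := by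
  intro h
  apply hp
  rw [← inv_inv' σ h3 p, h, inv_zero']

theorem dil_ne_zero' (a : Kˣ) {p : K × K × K} (hp : p ≠ 0) : dil σ (a : K) p ≠ 0 := by
  intro h
  apply hp
  have : dil σ ((a⁻¹ : Kˣ) : K) (dil σ (a : K) p) = 0 := by rw [h, dil_zero']
  rwa [dil_dil, Units.inv_mul, one_dil] at this

end Law

namespace Rel

variable {σ : K →+* K} {τ : K × K × K → K × K × K} {G : Type*} [Group G] (R : Rel σ τ G)
include R

theorem U_h (a : Kˣ) (p : K × K × K) : R.U p * R.h a = R.h a * R.U (dil σ ((a⁻¹ : Kˣ) : K) p) := by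
  rw [R.h_U, dil_dil, Units.mul_inv, one_dil]

theorem h_w (a : Kˣ) : R.h a * R.w = R.w * R.h a⁻¹ := by rw [R.w_h, inv_inv]

theorem h_injective (h3 : (3 : K) = 0) : Function.Injective R.h := by
  intro a b hab
  have h1 := R.rep_h h3 a (some (1, 0, 0))
  rw [hab, R.rep_h h3 b] at h1
  have h2 : dil σ (b : K) (1, 0, 0) = dil σ (a : K) (1, 0, 0) := Option.some_injective _ h1
  have h4 := congrArg Prod.fst h2
  simp only [dil, mul_one] at h4
  exact Units.ext h4.symm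

theorem wUw_not_mem (h3 : (3 : K) = 0) {p : K × K × K} (hp : p ≠ 0) : R.w * R.U p * R.w ∉ R.B h3 := by
  intro h
  obtain ⟨a, q, h'⟩ := R.rel p hp
  rw [h'] at h
  apply R.w_not_mem h3
  have h1 := (R.B h3).mul_mem ((R.B h3).inv_mem (R.U_mem h3 (τ p)))
    ((R.B h3).mul_mem h ((R.B h3).inv_mem ((R.B h3).mul_mem (R.h_mem h3 a) (R.U_mem h3 q))))
  have e2 : (R.U (τ p))⁻¹ * (R.U (τ p) * R.w * R.h a * R.U q * (R.h a * R.U q)⁻¹) = R.w := by group
  rwa [e2] at h1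

/-- uniqueness of the Bruhat normal form -/
theorem unique (h3 : (3 : K) = 0) {p p' q q' : K × K × K} {a a' : Kˣ}
    (h : R.U p * R.w * R.h a * R.U q = R.U p' * R.w * R.h a' * R.U q') : p = p' ∧ a = a' ∧ q = q' := by
  have hp : p = p' := by
    have h1 : R.pt h3 (some p) = R.pt h3 (some p') := by
      show (QuotientGroup.mk (R.U p * R.w) : G ⧸ R.B h3) = QuotientGroup.mk (R.U p' * R.w)
      rw [QuotientGroup.eq]
      have e : (R.U p * R.w)⁻¹ * (R.U p' * R.w) = R.h a * R.U q * (R.h a' * R.U q')⁻¹ := by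
        rw [inv_mul_eq_iff_eq_mul, ← mul_assoc, ← mul_assoc, h]; group
      rw [e]
      exact (R.B h3).mul_mem ((R.B h3).mul_mem (R.h_mem h3 a) (R.U_mem h3 q))
        ((R.B h3).inv_mem ((R.B h3).mul_mem (R.h_mem h3 a') (R.U_mem h3 q')))
    exact Option.some_injective _ (R.pt_injective h3 h1)
  subst hp
  have h1 : R.h a * R.U q = R.h a' * R.U q' := by
    have : R.U p * R.w * (R.h a * R.U q) = R.U p * R.w * (R.h a' * R.U q') := by
      rw [← mul_assoc, ← mul_assoc, h]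
    exact mul_left_cancel this
  have h2 : R.U (mul σ q (inv σ q')) = R.h (a⁻¹ * a') := by
    rw [R.U_mul, ← R.U_inv h3, R.h_mul, ← R.h_inv]
    rw [mul_inv_eq_iff_eq_mul, mul_assoc, ← h1, inv_mul_cancel_left]
  have h4 : mul σ q (inv σ q') = 0 := by
    by_contra hne
    apply R.wUw_not_mem h3 hne
    rw [h2, R.w_h, mul_assoc, R.w_w, mul_one]
    exact R.h_mem h3 _
  have h5 : q = q' := by
    calc q = mul σ q (mul σ (inv σ q') q') := by rw [inv_mul', mul_zero']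
      _ = mul σ (mul σ q (inv σ q')) q' := (mul_assoc' h3 σ _ _ _).symm
      _ = q' := by rw [h4, zero_mul']
  subst h5
  refine ⟨rfl, ?_, rfl⟩
  rw [mul_left_inj] at h1
  exact R.h_injective h3 h1

/-- the torus part of `w U(p) w` -/
noncomputable def kap (p : K × K × K) : Kˣ := by
  classical exact if hp : p ≠ 0 then (R.rel p hp).choose else 1

/-- the right hand part of `w U(p) w` -/
noncomputable def gam (p : K × K × K) : K × K × K := by
  classical exact if hp : p ≠ 0 then (R.rel p hp).choose_spec.choose else 0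

theorem rel' {p : K × K × K} (hp : p ≠ 0) :
    R.w * R.U p * R.w = R.U (τ p) * R.w * R.h (R.kap p) * R.U (R.gam p) := by
  unfold kap gam
  rw [dif_pos hp, dif_pos hp]
  exact (R.rel p hp).choose_spec.choose_spec

theorem eq_of_rel (h3 : (3 : K) = 0) {p : K × K × K} (hp : p ≠ 0) {p' q' : K × K × K} {a' : Kˣ}
    (h : R.w * R.U p * R.w = R.U p' * R.w * R.h a' * R.U q') : τ p = p' ∧ R.kap p = a' ∧ R.gam p = q' :=
  R.unique h3 ((R.rel' hp).symm.trans h)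

theorem inv_rules (h3 : (3 : K) = 0) {p : K × K × K} (hp : p ≠ 0) :
    τ (inv σ p) = inv σ (R.gam p) ∧ R.kap (inv σ p) = R.kap p ∧ R.gam (inv σ p) = inv σ (τ p) := by
  apply R.eq_of_rel h3 (inv_ne_zero' σ h3 hp)
  have h1 : R.w * R.U (inv σ p) * R.w = (R.w * R.U p * R.w)⁻¹ := by
    rw [← R.U_inv h3, mul_inv_rev, mul_inv_rev, R.w_inv, mul_assoc]
  rw [h1, R.rel' hp, mul_inv_rev, mul_inv_rev, mul_inv_rev, R.w_inv, R.U_inv h3, R.U_inv h3, R.h_inv]
  rw [← mul_assoc, ← mul_assoc, mul_assoc (R.U (inv σ (R.gam p))), R.h_w, inv_inv]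
  group

theorem gam_eq (h3 : (3 : K) = 0) {p : K × K × K} (hp : p ≠ 0) : R.gam p = inv σ (τ (inv σ p)) := by
  rw [(R.inv_rules h3 hp).1, inv_inv' σ h3]

theorem tau_ne_zero (h3 : (3 : K) = 0) {p : K × K × K} (hp : p ≠ 0) : τ p ≠ 0 := by
  intro h
  have h1 := R.rel' hp
  rw [h, R.U_zero, one_mul] at h1
  have h2 : R.U p * R.w = R.h (R.kap p) * R.U (R.gam p) := by
    have : R.w * (R.U p * R.w) = R.w * (R.h (R.kap p) * R.U (R.gam p)) := by
      rw [← mul_assoc, h1, mul_assoc]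
    exact mul_left_cancel this
  apply R.w_not_mem h3
  have h4 : R.w = (R.U p)⁻¹ * (R.h (R.kap p) * R.U (R.gam p)) := by rw [← h2]; group
  rw [h4]
  exact (R.B h3).mul_mem ((R.B h3).inv_mem (R.U_mem h3 p)) ((R.B h3).mul_mem (R.h_mem h3 _) (R.U_mem h3 _))

theorem tau_rules (h3 : (3 : K) = 0) {p : K × K × K} (hp : p ≠ 0) :
    τ (τ p) = p ∧ R.kap (τ p) = (R.kap p)⁻¹ ∧ R.gam (τ p) = dil σ (R.kap p : K) (inv σ (R.gam p)) := by
  apply R.eq_of_rel h3 (R.tau_ne_zero h3 hp)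
  have h1 : R.w * R.U (τ p) * R.w = R.U p * R.w * (R.U (R.gam p))⁻¹ * (R.h (R.kap p))⁻¹ := by
    have h := R.rel' hp
    have h2 : R.U p * R.w = R.w * (R.U (τ p) * R.w * R.h (R.kap p) * R.U (R.gam p)) := by
      rw [← h, mul_assoc, ← mul_assoc, R.w_w, one_mul]
    rw [h2]; group
  rw [h1, R.U_inv h3, R.h_inv, mul_assoc, R.U_h, inv_inv, ← mul_assoc]

theorem dil_rules (h3 : (3 : K) = 0) (a : Kˣ) {p : K × K × K} (hp : p ≠ 0) :
    τ (dil σ (a : K) p) = dil σ ((a⁻¹ : Kˣ) : K) (τ p) ∧ R.kap (dil σ (a : K) p) = a * R.kap p * a ∧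
      R.gam (dil σ (a : K) p) = dil σ ((a⁻¹ : Kˣ) : K) (R.gam p) := by
  apply R.eq_of_rel h3 (dil_ne_zero' σ a hp)
  have h1 : R.U (dil σ (a : K) p) = R.h a * R.U p * R.h a⁻¹ := by
    rw [R.h_U, mul_assoc, ← R.h_mul, mul_inv_cancel, R.h_one, mul_one]
  rw [h1]
  calc R.w * (R.h a * R.U p * R.h a⁻¹) * R.w = (R.w * R.h a) * R.U p * (R.h a⁻¹ * R.w) := by group
    _ = (R.h a⁻¹ * R.w) * R.U p * (R.w * R.h a) := by
        rw [R.w_h a, show R.h a⁻¹ * R.w = R.w * R.h a by rw [R.h_w, inv_inv]]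
    _ = R.h a⁻¹ * (R.w * R.U p * R.w) * R.h a := by group
    _ = (R.h a⁻¹ * R.U (τ p)) * R.w * R.h (R.kap p) * (R.U (R.gam p) * R.h a) := by rw [R.rel' hp]; group
    _ = R.U (dil σ ((a⁻¹ : Kˣ) : K) (τ p)) * (R.h a⁻¹ * R.w) * R.h (R.kap p) *
          (R.h a * R.U (dil σ ((a⁻¹ : Kˣ) : K) (R.gam p))) := by
        rw [R.h_U a⁻¹ (τ p), R.U_h a (R.gam p)]; group
    _ = R.U (dil σ ((a⁻¹ : Kˣ) : K) (τ p)) * R.w * (R.h a * R.h (R.kap p) * R.h a) *
          R.U (dil σ ((a⁻¹ : Kˣ) : K) (R.gam p)) := by rw [R.h_w, inv_inv]; group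
    _ = _ := by rw [R.h_mul, R.h_mul]

/-- the middle factor of the product rule -/
theorem mul_aux {p q : K × K × K} (hp : p ≠ 0) (hq : q ≠ 0) :
    R.w * R.U (mul σ p q) * R.w = R.U (τ p) * (R.w * (R.h (R.kap p) * R.U (mul σ (R.gam p) (τ q))) * R.w) *
      R.h (R.kap q) * R.U (R.gam q) := by
  calc R.w * R.U (mul σ p q) * R.w = (R.w * R.U p * R.w) * (R.w * R.U q * R.w) := by
        rw [R.U_mul]
        calc _ = R.w * R.U p * 1 * R.U q * R.w := by group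
          _ = _ := by rw [← R.w_w]; group
    _ = _ := by rw [R.rel' hp, R.rel' hq, R.U_mul]; group

/-- **Product rule.** -/
theorem mul_rules (h3 : (3 : K) = 0) {p q : K × K × K} (hp : p ≠ 0) (hq : q ≠ 0) (hpq : mul σ p q ≠ 0)
    (hk : mul σ (R.gam p) (τ q) ≠ 0) :
    τ (mul σ p q) = mul σ (τ p) (dil σ (((R.kap p)⁻¹ : Kˣ) : K) (τ (mul σ (R.gam p) (τ q)))) ∧
      R.kap (mul σ p q) = R.kap p * R.kap (mul σ (R.gam p) (τ q)) * R.kap q ∧
      R.gam (mul σ p q) = mul σ (dil σ (((R.kap q)⁻¹ : Kˣ) : K) (R.gam (mul σ (R.gam p) (τ q)))) (R.gam q) := by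
  apply R.eq_of_rel h3 hpq
  rw [R.mul_aux hp hq]
  generalize mul σ (R.gam p) (τ q) = k at hk
  have h1 : R.w * (R.h (R.kap p) * R.U k) * R.w =
      R.U (dil σ (((R.kap p)⁻¹ : Kˣ) : K) (τ k)) * R.w * R.h (R.kap p * R.kap k) * R.U (R.gam k) := by
    calc R.w * (R.h (R.kap p) * R.U k) * R.w = (R.w * R.h (R.kap p)) * R.U k * R.w := by group
      _ = R.h (R.kap p)⁻¹ * (R.w * R.U k * R.w) := by rw [R.w_h]; group
      _ = (R.h (R.kap p)⁻¹ * R.U (τ k)) * R.w * R.h (R.kap k) * R.U (R.gam k) := by rw [R.rel' hk]; group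
      _ = R.U (dil σ (((R.kap p)⁻¹ : Kˣ) : K) (τ k)) * (R.h (R.kap p)⁻¹ * R.w) * R.h (R.kap k) * R.U (R.gam k) := by
          rw [R.h_U]; group
      _ = _ := by rw [R.h_w, inv_inv, R.h_mul]; group
  rw [h1]
  calc R.U (τ p) * (R.U (dil σ (((R.kap p)⁻¹ : Kˣ) : K) (τ k)) * R.w * R.h (R.kap p * R.kap k) * R.U (R.gam k)) *
        R.h (R.kap q) * R.U (R.gam q)
      = (R.U (τ p) * R.U (dil σ (((R.kap p)⁻¹ : Kˣ) : K) (τ k))) * R.w * R.h (R.kap p * R.kap k) *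
        (R.U (R.gam k) * R.h (R.kap q)) * R.U (R.gam q) := by group
    _ = _ := by rw [R.U_h, ← R.U_mul, R.h_mul (R.kap p * R.kap k), R.U_mul _ (R.gam q)]; group

theorem mul_ne_zero_iff (h3 : (3 : K) = 0) {p q : K × K × K} (hp : p ≠ 0) (hq : q ≠ 0) :
    mul σ p q = 0 ↔ mul σ (R.gam p) (τ q) = 0 := by
  have h1 := R.mul_aux hp hq
  constructor
  · intro h
    by_contra hk
    rw [h, R.U_zero, mul_one, R.w_w] at h1
    have h2 : R.w * R.U (dil σ ((R.kap p : Kˣ) : K) (mul σ (R.gam p) (τ q))) * R.w ∈ R.B h3 := by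
      have e1 : R.w * R.U (dil σ ((R.kap p : Kˣ) : K) (mul σ (R.gam p) (τ q))) * R.w =
          (R.w * (R.h (R.kap p) * R.U (mul σ (R.gam p) (τ q))) * R.w) * R.h (R.kap p) := by
        rw [R.h_U]
        calc _ = R.w * R.U (dil σ ((R.kap p : Kˣ) : K) (mul σ (R.gam p) (τ q))) * (R.h (R.kap p) * R.h (R.kap p)⁻¹) * R.w := by
              rw [← R.h_mul, mul_inv_cancel, R.h_one, mul_one]
          _ = R.w * R.U (dil σ ((R.kap p : Kˣ) : K) (mul σ (R.gam p) (τ q))) * R.h (R.kap p) * (R.h (R.kap p)⁻¹ * R.w) := by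
              group
          _ = _ := by rw [R.h_w, inv_inv]; group
      rw [e1]
      have e2 : R.w * (R.h (R.kap p) * R.U (mul σ (R.gam p) (τ q))) * R.w =
          (R.U (τ p))⁻¹ * (R.h (R.kap q) * R.U (R.gam q))⁻¹ := by
        calc _ = (R.U (τ p))⁻¹ * (R.U (τ p) * (R.w * (R.h (R.kap p) * R.U (mul σ (R.gam p) (τ q))) * R.w) *
              R.h (R.kap q) * R.U (R.gam q)) * (R.h (R.kap q) * R.U (R.gam q))⁻¹ := by group
          _ = (R.U (τ p))⁻¹ * (R.h (R.kap q) * R.U (R.gam q))⁻¹ := by rw [← h1, mul_one]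
      rw [e2]
      exact (R.B h3).mul_mem ((R.B h3).mul_mem ((R.B h3).inv_mem (R.U_mem h3 _))
        ((R.B h3).inv_mem ((R.B h3).mul_mem (R.h_mem h3 _) (R.U_mem h3 _)))) (R.h_mem h3 _)
    exact R.wUw_not_mem h3 (dil_ne_zero' σ (R.kap p) hk) h2
  · intro hk
    by_contra hpq
    rw [hk, R.U_zero, mul_one, R.w_h] at h1
    apply R.wUw_not_mem h3 hpq
    rw [h1, mul_assoc _ R.w R.w, R.w_w, mul_one]
    exact (R.B h3).mul_mem ((R.B h3).mul_mem ((R.B h3).mul_mem (R.U_mem h3 _) (R.h_mem h3 _)) (R.h_mem h3 _))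
      (R.U_mem h3 _)

end Rel

/-! ### The agreement set of two groups -/

/-- two groups with the same `σ` agree at `p` -/
def Agree {σ : K →+* K} {τ τ' : K × K × K → K × K × K} {G G' : Type*} [Group G] [Group G']
    (R : Rel σ τ G) (R' : Rel σ τ' G') (p : K × K × K) : Prop :=
  p ≠ 0 ∧ τ p = τ' p ∧ R.kap p = R'.kap p ∧ R.gam p = R'.gam p

namespace Agree

variable {σ : K →+* K} {τ τ' : K × K × K → K × K × K} {G G' : Type*} [Group G] [Group G']
variable {R : Rel σ τ G} {R' : Rel σ τ' G'} {p q : K × K × K}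

theorem inv (h3 : (3 : K) = 0) (h : Agree R R' p) : Agree R R' (ReeUniq.inv σ p) := by
  obtain ⟨hp, h1, h2, h4⟩ := h
  refine ⟨inv_ne_zero' σ h3 hp, ?_, ?_, ?_⟩
  · rw [(R.inv_rules h3 hp).1, (R'.inv_rules h3 hp).1, h4]
  · rw [(R.inv_rules h3 hp).2.1, (R'.inv_rules h3 hp).2.1, h2]
  · rw [(R.inv_rules h3 hp).2.2, (R'.inv_rules h3 hp).2.2, h1]

theorem tau (h3 : (3 : K) = 0) (h : Agree R R' p) : Agree R R' (τ p) := by
  obtain ⟨hp, h1, h2, h4⟩ := h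
  have e1 := R.tau_rules h3 hp
  have e2 := R'.tau_rules h3 hp
  rw [← h1] at e2
  refine ⟨R.tau_ne_zero h3 hp, ?_, ?_, ?_⟩
  · rw [e1.1, e2.1]
  · rw [e1.2.1, e2.2.1, h2]
  · rw [e1.2.2, e2.2.2, h2, h4]

theorem dil (h3 : (3 : K) = 0) (a : Kˣ) (h : Agree R R' p) : Agree R R' (ReeUniq.dil σ (a : K) p) := by
  obtain ⟨hp, h1, h2, h4⟩ := h
  have e1 := R.dil_rules h3 a hp
  have e2 := R'.dil_rules h3 a hp
  refine ⟨dil_ne_zero' σ a hp, ?_, ?_, ?_⟩
  · rw [e1.1, e2.1, h1]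
  · rw [e1.2.1, e2.2.1, h2]
  · rw [e1.2.2, e2.2.2, h4]

/-- triangle rule -/
theorem mul (h3 : (3 : K) = 0) (hp : Agree R R' p) (hq : Agree R R' q) (hpq : ReeUniq.mul σ p q ≠ 0)
    (hk : Agree R R' (ReeUniq.mul σ (R.gam p) (τ q))) : Agree R R' (ReeUniq.mul σ p q) := by
  have hk' : ReeUniq.mul σ (R.gam p) (τ q) = ReeUniq.mul σ (R'.gam p) (τ' q) := by
    rw [hp.2.2.2, hq.2.1]
  have e1 := R.mul_rules h3 hp.1 hq.1 hpq hk.1
  have e2 := R'.mul_rules h3 hp.1 hq.1 hpq (hk' ▸ hk.1)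
  rw [← hk'] at e2
  refine ⟨hpq, ?_, ?_, ?_⟩
  · rw [e1.1, e2.1, hp.2.1, hp.2.2.1, hk.2.1]
  · rw [e1.2.1, e2.2.1, hp.2.2.1, hq.2.2.1, hk.2.2.1]
  · rw [e1.2.2, e2.2.2, hq.2.2.1, hq.2.2.2, hk.2.2.2]

/-- triangle rule, second form -/
theorem mid (h3 : (3 : K) = 0) (hp : Agree R R' p) (hq : Agree R R' q)
    (hpq : Agree R R' (ReeUniq.mul σ p q)) (hk : ReeUniq.mul σ (R.gam p) (τ q) ≠ 0) :
    Agree R R' (ReeUniq.mul σ (R.gam p) (τ q)) := by
  have hk' : ReeUniq.mul σ (R.gam p) (τ q) = ReeUniq.mul σ (R'.gam p) (τ' q) := by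
    rw [hp.2.2.2, hq.2.1]
  have e1 := R.mul_rules h3 hp.1 hq.1 hpq.1 hk
  have e2 := R'.mul_rules h3 hp.1 hq.1 hpq.1 (hk' ▸ hk)
  rw [← hk'] at e2
  have cancel : ∀ x y z : K × K × K, ReeUniq.mul σ x y = ReeUniq.mul σ x z → y = z := by
    intro x y z h
    have : ReeUniq.mul σ (ReeUniq.inv σ x) (ReeUniq.mul σ x y) =
        ReeUniq.mul σ (ReeUniq.inv σ x) (ReeUniq.mul σ x z) := by rw [h]
    rwa [← mul_assoc' h3, ← mul_assoc' h3, inv_mul', zero_mul', zero_mul'] at this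
  have cancel' : ∀ x y z : K × K × K, ReeUniq.mul σ y x = ReeUniq.mul σ z x → y = z := by
    intro x y z h
    have : ReeUniq.mul σ (ReeUniq.mul σ y x) (ReeUniq.inv σ x) =
        ReeUniq.mul σ (ReeUniq.mul σ z x) (ReeUniq.inv σ x) := by rw [h]
    rwa [mul_assoc' h3, mul_assoc' h3, mul_inv' h3, mul_zero', mul_zero'] at this
  have dcancel : ∀ (a : Kˣ) (y z : K × K × K), ReeUniq.dil σ (a : K) y = ReeUniq.dil σ (a : K) z → y = z := by
    intro a y z h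
    have : ReeUniq.dil σ ((a⁻¹ : Kˣ) : K) (ReeUniq.dil σ (a : K) y) =
        ReeUniq.dil σ ((a⁻¹ : Kˣ) : K) (ReeUniq.dil σ (a : K) z) := by rw [h]
    rwa [dil_dil, dil_dil, Units.inv_mul, one_dil, one_dil] at this
  refine ⟨hk, ?_, ?_, ?_⟩
  · have := e1.1.symm.trans (hpq.2.1.trans e2.1)
    rw [hp.2.1, hp.2.2.1] at this
    exact dcancel _ _ _ (cancel _ _ _ this)
  · have := e1.2.1.symm.trans (hpq.2.2.1.trans e2.2.1)
    rw [hp.2.2.1, hq.2.2.1] at this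
    exact mul_left_cancel (mul_right_cancel this)
  · have := e1.2.2.symm.trans (hpq.2.2.2.trans e2.2.2)
    rw [hq.2.2.1, hq.2.2.2] at this
    exact dcancel _ _ _ (cancel' _ _ _ this)

end Agree

end Cfsg.Agent.ReeUniq
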