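/-
Functional equations for the action of `w` on the points `(0, b, c)` in a group of Ree type
(general `σ`).
-/
import Cfsg.Agent.ReeUniq.Rules

set_option autoImplicit false

namespace Cfsg.Agent.ReeUniq

variable {K : Type*} [Field K]

theorem dil_one (σ : K →+* K) (p : K × K × K) : dil σ 1 p = p := by
  obtain ⟨a, b, c⟩ := p
  simp [dil]

theorem dil_inj (σ : K →+* K) (k : Kˣ) {p q : K × K × K} (h : dil σ k p = dil σ k q) : p = q := by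
  have := congrArg (dil σ (k⁻¹ : Kˣ)) h
  rwa [dil_dil, dil_dil, Units.inv_mul, dil_one, dil_one] at this

namespace Rel

variable {σ : K →+* K} {τ : K × K × K → K × K × K} {G : Type*} [Group G] (R : Rel σ τ G)
include R

theorem rel_B (h3 : (3 : K) = 0) {p : K × K × K} (hp : p ≠ 0) :
    ∃ b ∈ R.B h3, R.w * R.U p * R.w = R.U (τ p) * R.w * b := by
  obtain ⟨a, q, h⟩ := R.rel p hp
  exact ⟨R.h a * R.U q, (R.B h3).mul_mem (R.h_mem h3 a) (R.U_mem h3 q), by rw [h]; group⟩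

theorem tau_eq (h3 : (3 : K) = 0) {p q : K × K × K} (hp : p ≠ 0) {b : G} (hb : b ∈ R.B h3)
    (h : R.w * R.U p * R.w = R.U q * R.w * b) : τ p = q := by
  obtain ⟨c, hc, h'⟩ := R.rel_B h3 hp
  have h1 : R.pt h3 (some (τ p)) = R.pt h3 (some q) := by
    show (QuotientGroup.mk (R.U (τ p) * R.w) : G ⧸ R.B h3) = QuotientGroup.mk (R.U q * R.w)
    rw [QuotientGroup.eq]
    have e : (R.U (τ p) * R.w)⁻¹ * (R.U q * R.w) = c * b⁻¹ := by
      rw [h'] at h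
      rw [inv_mul_eq_iff_eq_mul, eq_comm, ← mul_assoc, h]
      group
    rw [e]
    exact (R.B h3).mul_mem hc ((R.B h3).inv_mem hb)
  exact Option.some.inj (R.pt_injective h3 h1)

theorem w_h' (a : Kˣ) : R.h a * R.w = R.w * R.h a⁻¹ := by
  rw [R.w_h, inv_inv]

theorem tau_dil (h3 : (3 : K) = 0) (k : Kˣ) {p : K × K × K} (hp : p ≠ 0) :
    τ (dil σ k p) = dil σ (k⁻¹ : Kˣ) (τ p) := by
  have hp' : dil σ k p ≠ 0 := fun h => hp (dil_inj σ k (by rw [h, dil_zero']))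
  obtain ⟨c, hc, h⟩ := R.rel_B h3 hp
  refine R.tau_eq h3 hp' (b := R.h k * c * R.h k) ?_ ?_
  · exact (R.B h3).mul_mem ((R.B h3).mul_mem (R.h_mem h3 k) hc) (R.h_mem h3 k)
  · have e1 : R.U (dil σ k p) = R.h k * R.U p * (R.h k)⁻¹ := by
      rw [R.h_U]; group
    have e2 : R.U (dil σ (k⁻¹ : Kˣ) (τ p)) = (R.h k)⁻¹ * R.U (τ p) * R.h k := by
      rw [R.h_inv, R.h_U, mul_assoc, ← R.h_inv, inv_mul_cancel, mul_one]
    calc R.w * R.U (dil σ k p) * R.w = R.w * R.h k * R.U p * ((R.h k)⁻¹ * R.w) := by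
          rw [e1]; group
      _ = R.h k⁻¹ * R.w * R.U p * (R.w * R.h k) := by
          rw [R.w_h, R.h_inv, R.w_h' k⁻¹, inv_inv]
      _ = R.h k⁻¹ * (R.w * R.U p * R.w) * R.h k := by group
      _ = (R.h k)⁻¹ * (R.U (τ p) * R.w * c) * R.h k := by rw [h, R.h_inv]
      _ = (R.h k)⁻¹ * R.U (τ p) * R.h k * ((R.h k)⁻¹ * R.w) * c * R.h k := by group
      _ = (R.h k)⁻¹ * R.U (τ p) * R.h k * (R.w * R.h k) * c * R.h k := by
          rw [R.h_inv, R.w_h' k⁻¹, inv_inv]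
      _ = _ := by rw [e2]; group

end Rel

/-- The starting information (part B): the action of `w` on the root group `(0, *, 0)` and on one
further element `(0, 1, -1)`. -/
structure Start (σ : K →+* K) (τ : K × K × K → K × K × K) {G : Type*} [Group G] (R : Rel σ τ G)
    (M : K → K) (d : K) : Prop where
  M_norm : ∀ b, M b * σ (M b) = b ^ 2
  relY : ∀ (b : K) (m : Kˣ), b ≠ 0 → (m : K) = M b →
    R.w * R.U (0, b, 0) * R.w = R.U (0, -b⁻¹, 0) * R.w * R.h m * R.U (0, -b⁻¹, 0)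
  relC : R.w * R.U (0, 1, -1) * R.w = R.U (0, 1, -1) * R.w * R.h (-1) * (R.U (1, 1, -d))⁻¹

namespace Start

theorem mul_Y (σ : K →+* K) (x y z v : K) : mul σ (0, v, 0) (x, y, z) = (x, v + y, z - v * x) := by
  simp only [mul, Prod.mk.injEq]
  refine ⟨by ring, by ring, by ring⟩

theorem mul_Z (σ : K →+* K) (y z y' z' : K) : mul σ (0, y, z) (0, y', z') = (0, y + y', z + z') := by
  simp only [mul, map_zero, Prod.mk.injEq]
  refine ⟨by ring, by ring, by ring⟩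

theorem ne_zero_of_last {x y z : K} (hz : z ≠ 0) : ((x, y, z) : K × K × K) ≠ 0 := by
  intro h
  exact hz (congrArg (fun p : K × K × K => p.2.2) h)

variable {σ : K →+* K} {τ : K × K × K → K × K × K} {G : Type*} [Group G] {R : Rel σ τ G}
  {M : K → K} {d : K} (S : Start σ τ R M d)

theorem U_Z (R : Rel σ τ G) (y z y' z' : K) :
    R.U (0, y, z) * R.U (0, y', z') = R.U (0, y + y', z + z') := by
  rw [← R.U_mul, mul_Z]

include S

theorem M_ne {b : K} (hb : b ≠ 0) : M b ≠ 0 := by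
  intro h
  have := S.M_norm b
  rw [h, zero_mul] at this
  exact pow_ne_zero 2 hb this.symm

/-- `w c₀⁻¹ w = p' t w c₀⁻¹` -/
theorem relC' : R.w * R.U (0, -1, 1) * R.w =
    R.U (1, 1, -d) * R.h (-1) * R.w * R.U (0, -1, 1) := by
  have h := congrArg (fun g => g⁻¹) S.relC
  simp only [mul_inv_rev, inv_inv, R.w_inv, R.h_inv] at h
  have e : (R.U (0, 1, -1))⁻¹ = R.U (0, -1, 1) := by
    rw [inv_eq_iff_mul_eq_one, U_Z]
    rw [add_neg_cancel, neg_add_cancel]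
    exact R.U_zero
  rw [e, inv_neg_one] at h
  rw [mul_assoc, h]
  group

/-- **(W)** -/
theorem eqW (h3 : (3 : K) = 0) {s : K} (hs : s ≠ 0) :
    τ (0, 1 + s, -1) = mul σ (0, -s⁻¹, 0) (dil σ (M s)⁻¹ (τ (0, 1 - s⁻¹, -1))) := by
  set m : Kˣ := Units.mk0 (M s) (S.M_ne hs) with hm
  have hY := S.relY s m hs rfl
  have hne : ∀ x : K, ((0, x, -1) : K × K × K) ≠ 0 := fun x =>
    ne_zero_of_last (neg_ne_zero.2 one_ne_zero)
  obtain ⟨c, hc, h⟩ := R.rel_B h3 (hne (1 - s⁻¹))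
  have e0 : (M s)⁻¹ = ((m⁻¹ : Kˣ) : K) := by rw [Units.val_inv_eq_inv_val]; rfl
  rw [e0]
  refine R.tau_eq h3 (hne _) (b := R.h m * c * (R.h (-1) * (R.U (1, 1, -d))⁻¹)) ?_ ?_
  · exact (R.B h3).mul_mem ((R.B h3).mul_mem (R.h_mem h3 m) hc)
      ((R.B h3).mul_mem (R.h_mem h3 _) ((R.B h3).inv_mem (R.U_mem h3 _)))
  · have e1 : R.U (0, 1 + s, -1) = R.U (0, s, 0) * R.U (0, 1, -1) := by
      rw [U_Z, add_comm, zero_add]
    have e2 : R.U (0, -s⁻¹, 0) * R.U (0, 1, -1) = R.U (0, 1 - s⁻¹, -1) := by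
      rw [U_Z, zero_add, neg_add_eq_sub]
    calc R.w * R.U (0, 1 + s, -1) * R.w
        = (R.w * R.U (0, s, 0) * R.w) * (R.w * R.U (0, 1, -1) * R.w) := by
          rw [e1]
          have : R.w * R.U (0, s, 0) * R.w * (R.w * R.U (0, 1, -1) * R.w) =
            R.w * R.U (0, s, 0) * (R.w * R.w) * R.U (0, 1, -1) * R.w := by group
          rw [this, R.w_w, mul_one]
          group
      _ = R.U (0, -s⁻¹, 0) * (R.w * R.h m) * (R.U (0, -s⁻¹, 0) * R.U (0, 1, -1)) * R.w *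
            (R.h (-1) * (R.U (1, 1, -d))⁻¹) := by
          rw [hY, S.relC]; group
      _ = R.U (0, -s⁻¹, 0) * R.h m⁻¹ * (R.w * R.U (0, 1 - s⁻¹, -1) * R.w) *
            (R.h (-1) * (R.U (1, 1, -d))⁻¹) := by
          rw [e2, R.w_h]; group
      _ = R.U (0, -s⁻¹, 0) * (R.h m⁻¹ * R.U (τ (0, 1 - s⁻¹, -1))) * R.w * c *
            (R.h (-1) * (R.U (1, 1, -d))⁻¹) := by
          rw [h]; group
      _ = R.U (0, -s⁻¹, 0) * R.U (dil σ (m⁻¹ : Kˣ) (τ (0, 1 - s⁻¹, -1))) * (R.h m⁻¹ * R.w) * c *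
            (R.h (-1) * (R.U (1, 1, -d))⁻¹) := by
          rw [R.h_U]; group
      _ = _ := by
          rw [R.w_h', inv_inv, R.U_mul]; group

/-- **(SS)** -/
theorem eqSS (h3 : (3 : K) = 0) {b : K} (hb : b ≠ 0) :
    dil σ (-1) (τ (0, b - 1, -1)) = mul σ (1, 1, -d) (τ (0, -b⁻¹ - 1, -1)) := by
  set m : Kˣ := Units.mk0 (M b) (S.M_ne hb) with hm
  have hY := S.relY b m hb rfl
  have hne : ∀ x : K, ((0, x, 1) : K × K × K) ≠ 0 := fun x => ne_zero_of_last one_ne_zero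
  have hne' : ∀ x : K, ((0, x, -1) : K × K × K) ≠ 0 := fun x =>
    ne_zero_of_last (neg_ne_zero.2 one_ne_zero)
  have ht : ∀ x : K, τ (0, x, 1) = dil σ (-1) (τ (0, x, -1)) := by
    intro x
    have h := R.tau_dil h3 (-1) (hne' x)
    have e : dil σ ((-1 : Kˣ) : K) ((0, x, -1) : K × K × K) = (0, x, 1) := by
      simp only [dil, Units.val_neg, Units.val_one, map_neg, map_one, Prod.mk.injEq]
      refine ⟨by ring, by ring, by ring⟩
    rw [e] at h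
    rw [h, inv_neg_one]
    simp
  obtain ⟨c, hc, h⟩ := R.rel_B h3 (hne (-b⁻¹ - 1))
  have key : τ (0, b - 1, 1) = mul σ (1, 1, -d) (dil σ (-1) (τ (0, -b⁻¹ - 1, 1))) := by
    have e0 : (-1 : K) = ((-1 : Kˣ) : K) := by simp
    rw [show dil σ (-1) (τ (0, -b⁻¹ - 1, 1)) = dil σ ((-1 : Kˣ) : K) (τ (0, -b⁻¹ - 1, 1)) by
      rw [← e0]]
    refine R.tau_eq h3 (hne _) (b := (R.h (-1))⁻¹ * c * (R.h m * R.U (0, -b⁻¹, 0))) ?_ ?_
    · exact (R.B h3).mul_mem ((R.B h3).mul_mem ((R.B h3).inv_mem (R.h_mem h3 _)) hc)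
        ((R.B h3).mul_mem (R.h_mem h3 _) (R.U_mem h3 _))
    · have e1 : R.U (0, b - 1, 1) = R.U (0, -1, 1) * R.U (0, b, 0) := by
        rw [U_Z, neg_add_eq_sub, add_zero]
      have e2 : R.U (0, -1, 1) * R.U (0, -b⁻¹, 0) = R.U (0, -b⁻¹ - 1, 1) := by
        rw [U_Z, add_zero, neg_add_eq_sub]
      calc R.w * R.U (0, b - 1, 1) * R.w
          = (R.w * R.U (0, -1, 1) * R.w) * (R.w * R.U (0, b, 0) * R.w) := by
            rw [e1]
            have : (R.w * R.U (0, -1, 1) * R.w) * (R.w * R.U (0, b, 0) * R.w) =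
              R.w * R.U (0, -1, 1) * (R.w * R.w) * R.U (0, b, 0) * R.w := by group
            rw [this, R.w_w, mul_one]
            group
        _ = R.U (1, 1, -d) * R.h (-1) * (R.w * (R.U (0, -1, 1) * R.U (0, -b⁻¹, 0)) * R.w) *
              (R.h m * R.U (0, -b⁻¹, 0)) := by
            rw [hY, S.relC']; group
        _ = R.U (1, 1, -d) * (R.h (-1) * R.U (τ (0, -b⁻¹ - 1, 1))) * R.w * c *
              (R.h m * R.U (0, -b⁻¹, 0)) := by
            rw [e2, h]; group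
        _ = R.U (1, 1, -d) * R.U (dil σ ((-1 : Kˣ) : K) (τ (0, -b⁻¹ - 1, 1))) * (R.h (-1) * R.w) * c *
              (R.h m * R.U (0, -b⁻¹, 0)) := by
            rw [R.h_U]; group
        _ = _ := by
            rw [R.w_h', ← R.h_inv, R.U_mul]; group
  rw [← ht, key, ht, dil_dil, neg_mul_neg, one_mul, dil_one]

/-- the conjugates of `relC` under the torus -/
theorem relCa (a : Kˣ) : R.w * R.U (dil σ a (0, 1, -1)) * R.w =
    R.U (dil σ (a⁻¹ : Kˣ) (0, 1, -1)) * R.w * R.h (-(a * a)) * (R.U (dil σ (a⁻¹ : Kˣ) (1, 1, -d)))⁻¹ := by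
  have e1 : R.U (dil σ a (0, 1, -1)) = R.h a * R.U (0, 1, -1) * (R.h a)⁻¹ := by
    rw [R.h_U]; group
  have e2 : ∀ p, R.U (dil σ (a⁻¹ : Kˣ) p) = (R.h a)⁻¹ * R.U p * R.h a := by
    intro p
    rw [R.h_inv, R.h_U, mul_assoc, ← R.h_inv, inv_mul_cancel, mul_one]
  have e3 : R.h (-(a * a)) = R.h a * R.h (-1) * R.h a := by
    rw [← R.h_mul, ← R.h_mul]
    congr 1
    rw [mul_neg, mul_one, neg_mul]
  have e4 : (R.h a)⁻¹ * R.w = R.w * R.h a := by rw [R.h_inv, R.w_h', inv_inv]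
  have e5 : R.w * R.h a = (R.h a)⁻¹ * R.w := e4.symm
  calc R.w * R.U (dil σ a (0, 1, -1)) * R.w
      = (R.w * R.h a) * R.U (0, 1, -1) * ((R.h a)⁻¹ * R.w) := by rw [e1]; group
    _ = ((R.h a)⁻¹ * R.w) * R.U (0, 1, -1) * (R.w * R.h a) :=
        congrArg₂ (fun x y => x * R.U (0, 1, -1) * y) e5 e4
    _ = (R.h a)⁻¹ * (R.w * R.U (0, 1, -1) * R.w) * R.h a := by group
    _ = (R.h a)⁻¹ * R.U (0, 1, -1) * R.w * R.h (-1) * (R.U (1, 1, -d))⁻¹ * R.h a := by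
        rw [S.relC]; group
    _ = ((R.h a)⁻¹ * R.U (0, 1, -1) * R.h a) * ((R.h a)⁻¹ * R.w) * R.h (-1) * R.h a *
          ((R.h a)⁻¹ * R.U (1, 1, -d) * R.h a)⁻¹ := by group
    _ = _ := by rw [e4, e2, e2, e3]; group

/-- **(E)**, raw form. -/
theorem eqE' (h3 : (3 : K) = 0) (a b : Kˣ) (hab : (a : K) ^ 2 * σ a ≠ (b : K) ^ 2 * σ b) :
    τ (0, (a : K) * σ a - b * σ b, -((a : K) ^ 2 * σ a - b ^ 2 * σ b)) =
      mul σ (dil σ (b⁻¹ : Kˣ) (1, 1, -d)) (dil σ ((-(b * b))⁻¹ : Kˣ)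
        (τ (0, ((a⁻¹ : Kˣ) : K) * σ (a⁻¹ : Kˣ) - (b⁻¹ : Kˣ) * σ (b⁻¹ : Kˣ),
          -(((a⁻¹ : Kˣ) : K) ^ 2 * σ (a⁻¹ : Kˣ) - (b⁻¹ : Kˣ) ^ 2 * σ (b⁻¹ : Kˣ))))) := by
  have hd : ∀ u : Kˣ, dil σ u (0, 1, -1) = ((0, (u : K) * σ u, -((u : K) ^ 2 * σ u)) : K × K × K) := by
    intro u
    simp only [dil, Prod.mk.injEq]
    refine ⟨by ring, by ring, by ring⟩
  have hU : ∀ u v : Kˣ, (R.U (dil σ u (0, 1, -1)))⁻¹ * R.U (dil σ v (0, 1, -1)) =
      R.U (0, (v : K) * σ v - u * σ u, -((v : K) ^ 2 * σ v - u ^ 2 * σ u)) := by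
    intro u v
    rw [inv_mul_eq_iff_eq_mul, hd, hd, U_Z]
    congr 1
    simp only [Prod.mk.injEq]
    refine ⟨trivial, by ring, by ring⟩
  have hsub : (a : K) ^ 2 * σ a - b ^ 2 * σ b ≠ 0 := sub_ne_zero.2 hab
  have hne : ((0, (a : K) * σ a - b * σ b, -((a : K) ^ 2 * σ a - b ^ 2 * σ b)) : K × K × K) ≠ 0 :=
    ne_zero_of_last (neg_ne_zero.2 hsub)
  have hne' : ((0, ((a⁻¹ : Kˣ) : K) * σ (a⁻¹ : Kˣ) - (b⁻¹ : Kˣ) * σ (b⁻¹ : Kˣ),
      -(((a⁻¹ : Kˣ) : K) ^ 2 * σ (a⁻¹ : Kˣ) - (b⁻¹ : Kˣ) ^ 2 * σ (b⁻¹ : Kˣ))) : K × K × K) ≠ 0 := by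
    apply ne_zero_of_last
    apply neg_ne_zero.2
    intro h
    apply hsub
    have ha : (a : K) ≠ 0 := a.ne_zero
    have hb : (b : K) ≠ 0 := b.ne_zero
    have ha' : σ (a : K) ≠ 0 := by rwa [Ne, map_eq_zero]
    have hb' : σ (b : K) ≠ 0 := by rwa [Ne, map_eq_zero]
    rw [Units.val_inv_eq_inv_val, Units.val_inv_eq_inv_val, map_inv₀, map_inv₀] at h
    field_simp at h
    linear_combination -h
  obtain ⟨c, hc, h⟩ := R.rel_B h3 hne'
  refine R.tau_eq h3 hne (b := (R.h (-(b * b))) * c * (R.h (-(a * a)) *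
    (R.U (dil σ (a⁻¹ : Kˣ) (1, 1, -d)))⁻¹)) ?_ ?_
  · exact (R.B h3).mul_mem ((R.B h3).mul_mem (R.h_mem h3 _) hc)
      ((R.B h3).mul_mem (R.h_mem h3 _) ((R.B h3).inv_mem (R.U_mem h3 _)))
  · have hA := S.relCa a
    have hB := congrArg (fun g => g⁻¹) (S.relCa b)
    simp only [mul_inv_rev, inv_inv, R.w_inv] at hB
    calc R.w * R.U (0, (a : K) * σ a - b * σ b, -((a : K) ^ 2 * σ a - b ^ 2 * σ b)) * R.w
        = (R.w * ((R.U (dil σ b (0, 1, -1)))⁻¹ * R.w)) * (R.w * R.U (dil σ a (0, 1, -1)) * R.w) := by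
          rw [← hU]
          have : (R.w * ((R.U (dil σ b (0, 1, -1)))⁻¹ * R.w)) * (R.w * R.U (dil σ a (0, 1, -1)) * R.w) =
            R.w * (R.U (dil σ b (0, 1, -1)))⁻¹ * (R.w * R.w) * R.U (dil σ a (0, 1, -1)) * R.w := by group
          rw [this, R.w_w, mul_one]
          group
      _ = R.U (dil σ (b⁻¹ : Kˣ) (1, 1, -d)) * (R.h (-(b * b)))⁻¹ *
            (R.w * ((R.U (dil σ (b⁻¹ : Kˣ) (0, 1, -1)))⁻¹ * R.U (dil σ (a⁻¹ : Kˣ) (0, 1, -1))) * R.w) *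
            (R.h (-(a * a)) * (R.U (dil σ (a⁻¹ : Kˣ) (1, 1, -d)))⁻¹) := by
          rw [hB, hA]; group
      _ = R.U (dil σ (b⁻¹ : Kˣ) (1, 1, -d)) * (R.h (-(b * b))⁻¹ * R.U (τ (0, ((a⁻¹ : Kˣ) : K) * σ (a⁻¹ : Kˣ) - (b⁻¹ : Kˣ) * σ (b⁻¹ : Kˣ),
          -(((a⁻¹ : Kˣ) : K) ^ 2 * σ (a⁻¹ : Kˣ) - (b⁻¹ : Kˣ) ^ 2 * σ (b⁻¹ : Kˣ))))) * R.w * c *
            (R.h (-(a * a)) * (R.U (dil σ (a⁻¹ : Kˣ) (1, 1, -d)))⁻¹) := by
          rw [hU, h, R.h_inv]; group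
      _ = _ := by
          rw [R.h_U, R.U_mul]
          have e4 : R.h (-(b * b))⁻¹ * R.w = R.w * R.h (-(b * b)) := by rw [R.w_h', inv_inv]
          simp only [mul_assoc]
          rw [← mul_assoc (R.h (-(b * b))⁻¹), e4]
          simp only [mul_assoc]

/-- **(E)**: if `l² σ l = a² σ a - b² σ b ≠ 0` and `B l σ l = a σ a - b σ b`, then
`[b / l] F(B) = p' [a / l] F(-B)` where `F(B) = τ (0, B, -1)`. -/
theorem eqE (h3 : (3 : K) = 0) (a b l : Kˣ) (B : K)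
    (hl : (l : K) ^ 2 * σ l = (a : K) ^ 2 * σ a - b ^ 2 * σ b)
    (hB : B * (l * σ l) = (a : K) * σ a - b * σ b) :
    dil σ ((b : K) / l) (τ (0, B, -1)) =
      mul σ (1, 1, -d) (dil σ ((a : K) / l) (τ (0, -B, -1))) := by
  have ha : (a : K) ≠ 0 := a.ne_zero
  have hb : (b : K) ≠ 0 := b.ne_zero
  have hl0 : (l : K) ≠ 0 := l.ne_zero
  have ha' : σ (a : K) ≠ 0 := by rwa [Ne, map_eq_zero]
  have hb' : σ (b : K) ≠ 0 := by rwa [Ne, map_eq_zero]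
  have hl' : σ (l : K) ≠ 0 := by rwa [Ne, map_eq_zero]
  have hne' : ∀ x : K, ((0, x, -1) : K × K × K) ≠ 0 := fun x =>
    ne_zero_of_last (neg_ne_zero.2 one_ne_zero)
  have hab : (a : K) ^ 2 * σ a ≠ (b : K) ^ 2 * σ b := by
    intro h
    rw [h, sub_self] at hl
    exact mul_ne_zero (pow_ne_zero 2 hl0) hl' hl
  have h := S.eqE' h3 a b hab
  have e1 : ((0, (a : K) * σ a - b * σ b, -((a : K) ^ 2 * σ a - b ^ 2 * σ b)) : K × K × K) =
      dil σ l (0, B, -1) := by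
    simp only [dil, Prod.mk.injEq]
    refine ⟨by ring, ?_, ?_⟩
    · rw [← hB]; ring
    · rw [← hl]; ring
  set l' : Kˣ := -(l * (a * b)⁻¹) with hl'def
  have hlv : (l' : K) = -(l / (a * b)) := by
    rw [hl'def, Units.val_neg, Units.val_mul, Units.val_inv_eq_inv_val, Units.val_mul, div_eq_mul_inv]
  have e2 : ((0, ((a⁻¹ : Kˣ) : K) * σ (a⁻¹ : Kˣ) - (b⁻¹ : Kˣ) * σ (b⁻¹ : Kˣ),
          -(((a⁻¹ : Kˣ) : K) ^ 2 * σ (a⁻¹ : Kˣ) - (b⁻¹ : Kˣ) ^ 2 * σ (b⁻¹ : Kˣ))) : K × K × K) =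
      dil σ l' (0, -B, -1) := by
    simp only [dil, Prod.mk.injEq]
    rw [hlv, Units.val_inv_eq_inv_val, Units.val_inv_eq_inv_val, map_inv₀, map_inv₀, map_neg, map_div₀,
      map_mul]
    refine ⟨by ring, ?_, ?_⟩
    · field_simp
      linear_combination hB
    · field_simp
      linear_combination -hl
  rw [e1, e2, R.tau_dil h3 l (hne' B), R.tau_dil h3 l' (hne' (-B))] at h
  have h' := congrArg (dil σ b) h
  rw [dil_mul, dil_dil, dil_dil, dil_dil, dil_dil, Units.mul_inv, dil_one] at h'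
  have e3 : (b : K) * ((l⁻¹ : Kˣ) : K) = b / l := by
    rw [Units.val_inv_eq_inv_val, div_eq_mul_inv]
  have e4 : (b : K) * ((-(b * b))⁻¹ : Kˣ) * ((l'⁻¹ : Kˣ) : K) = a / l := by
    rw [Units.val_inv_eq_inv_val, Units.val_inv_eq_inv_val, hlv, Units.val_neg, Units.val_mul]
    field_simp
  rw [e3, e4] at h'
  exact h'

end Start

end Cfsg.Agent.ReeUniq
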