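/-
Groups of Ree type: the action of `w` on the points `(0, b, -1)` in closed form, and the
quadrilateral equations (I), (II), (III), in coordinates in which no `σ` of an unknown occurs.
-/
import Cfsg.Agent.ReeUniq.Funct

set_option autoImplicit false

namespace Cfsg.Agent.ReeUniq

variable {K : Type*} [Field K]

/-- the map `x ↦ x ^ (2 / (1 + σ))` -/
structure IsM (σ : K →+* K) (M : K → K) : Prop where
  mul : ∀ x y, M (x * y) = M x * M y
  pow : ∀ x, M x * σ (M x) = x ^ 2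
  neg_one : M (-1) = 1

namespace IsM

variable {σ : K →+* K} {M : K → K} (hM : IsM σ M)
include hM

theorem eq_zero {x : K} (h : M x = 0) : x = 0 := by
  have h1 := hM.pow x
  rw [h, zero_mul] at h1
  exact pow_eq_zero_iff (two_ne_zero) |>.1 h1.symm

theorem ne_zero {x : K} (h : x ≠ 0) : M x ≠ 0 := fun h' => h (hM.eq_zero h')

theorem one : M 1 = 1 := by
  have h := hM.mul (-1) (-1)
  rw [hM.neg_one] at h
  simpa using h

theorem zero : M 0 = 0 := by
  have h := hM.pow 0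
  rw [zero_pow two_ne_zero] at h
  rcases mul_eq_zero.1 h with h | h
  · exact h
  · exact (map_eq_zero σ).1 h

theorem neg (x : K) : M (-x) = M x := by
  rw [← neg_one_mul, hM.mul, hM.neg_one, one_mul]

theorem inv (x : K) : M x⁻¹ = (M x)⁻¹ := by
  rcases eq_or_ne x 0 with rfl | hx
  · rw [inv_zero, hM.zero, inv_zero]
  · apply eq_inv_of_mul_eq_one_left
    rw [← hM.mul, inv_mul_cancel₀ hx, hM.one]

theorem div (x y : K) : M (x / y) = M x / M y := by
  rw [div_eq_mul_inv, hM.mul, hM.inv, div_eq_mul_inv]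

theorem σM {x : K} : σ (M x) = x ^ 2 / M x := by
  rcases eq_or_ne x 0 with rfl | hx
  · rw [hM.zero, map_zero, div_zero]
  · rw [eq_div_iff (hM.ne_zero hx), mul_comm, hM.pow]

theorem sq_eq_of_eq {x y : K} (h : M x = M y) : x ^ 2 = y ^ 2 := by
  rw [← hM.pow, ← hM.pow, h]

theorem sq_eq_one {x : K} (h : M x = 1) : x ^ 2 = 1 := by
  rw [← hM.pow, h, map_one, mul_one]

/-- the denominator of `al` does not vanish -/
theorem den_ne_zero (h3 : (3 : K) = 0) (hsq : ∀ x : K, x ^ 2 ≠ -1) (b : K) :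
    M (b - 1) * M (b + 1) - M b ≠ 0 := by
  intro h
  have h1 : M ((b - 1) * (b + 1)) = M b := by rw [hM.mul]; exact sub_eq_zero.1 h
  have h2 := hM.sq_eq_of_eq h1
  have h5 : ((b ^ 2 - 1 - b)) * (b ^ 2 - 1 + b) = 0 := by linear_combination h2
  rcases mul_eq_zero.1 h5 with h | h
  · apply hsq (b + 1)
    linear_combination h + (b + 1) * h3
  · apply hsq (b - 1)
    linear_combination h + (1 - b) * h3

omit hM in
/-- the denominator of `be` does not vanish -/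
theorem den2_ne_zero (hsq : ∀ x : K, x ^ 2 ≠ -1) (b : K) : b ^ 4 + 1 ≠ 0 := by
  intro h
  apply hsq (b ^ 2)
  linear_combination h

/-- the denominator of `ga` does not vanish -/
theorem den3_ne_zero (h3 : (3 : K) = 0) (hsq : ∀ x : K, x ^ 2 ≠ -1)
    (hinj : ∀ x : K, x ^ 2 * σ x = 1 → x = 1) (b : K) :
    M (b - 1) * M (b + 1) * (b ^ 2 - 1) ^ 2 - M b * b ^ 2 ≠ 0 := by
  intro h
  have h1 : M (b ^ 2 - 1) * (b ^ 2 - 1) ^ 2 = M b * b ^ 2 := by
    rw [show b ^ 2 - 1 = (b - 1) * (b + 1) by ring, hM.mul]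
    linear_combination h
  rcases eq_or_ne b 0 with rfl | hb
  · apply (one_ne_zero : (1 : K) ≠ 0)
    rw [show (0 : K) ^ 2 - 1 = -1 by ring, hM.neg_one] at h1
    linear_combination h1
  have hu : b ^ 2 - 1 ≠ 0 := by
    intro hu
    rw [hu] at h1
    have : M b * b ^ 2 = 0 := by rw [← h1]; ring
    rcases mul_eq_zero.1 this with h | h
    · exact hb (hM.eq_zero h)
    · exact hb (pow_eq_zero_iff (two_ne_zero) |>.1 h)
  have hv : M ((b ^ 2 - 1) / b) * ((b ^ 2 - 1) / b) ^ 2 = 1 := by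
    rw [hM.div, div_pow, div_mul_div_comm, h1, div_self]
    exact mul_ne_zero (hM.ne_zero hb) (pow_ne_zero 2 hb)
  set v := (b ^ 2 - 1) / b with hvdef
  have hv0 : v ≠ 0 := div_ne_zero hu hb
  have h4 : (v ^ 2 * σ v) ^ 2 = 1 := by
    have e1 := hM.pow v
    have e2 : M v * v ^ 2 * σ (M v * v ^ 2) = 1 := by rw [hv, map_one, one_mul]
    rw [map_mul, map_pow] at e2
    linear_combination e2 - v ^ 2 * σ v ^ 2 * e1
  have h5 : v = 1 ∨ v = -1 := by
    have : (v ^ 2 * σ v - 1) * (v ^ 2 * σ v + 1) = 0 := by linear_combination h4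
    rcases mul_eq_zero.1 this with h | h
    · left
      exact hinj v (sub_eq_zero.1 h)
    · right
      have := hinj (-v) (by rw [map_neg]; linear_combination -h)
      rw [← this, neg_neg]
  have h6 : b ^ 2 - 1 = v * b := by rw [hvdef, div_mul_cancel₀ _ hb]
  rcases h5 with h5 | h5
  · rw [h5] at h6
    apply hsq (b + 1)
    linear_combination h6 + (b + 1) * h3
  · rw [h5] at h6
    apply hsq (b - 1)
    linear_combination h6 + (1 - b) * h3

end IsM

/-- the change of coordinates -/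
def phi (σ : K →+* K) (p : K × K × K) : K × K × K :=
  (p.1, p.2.1 + p.1 * σ p.1, p.1 * p.2.1 - p.2.2)

theorem phi_mul (h3 : (3 : K) = 0) (σ : K →+* K) (p q : K × K × K) :
    phi σ (mul σ p q) = ((phi σ p).1 + (phi σ q).1,
      (phi σ p).2.1 + (phi σ q).2.1 + σ (phi σ p).1 * (phi σ q).1,
      (phi σ p).2.2 + (phi σ q).2.2 + (phi σ p).1 * (phi σ q).2.1 - (phi σ p).2.1 * (phi σ q).1 +
        (phi σ p).1 * σ (phi σ p).1 * (phi σ q).1) := by
  obtain ⟨a, b, c⟩ := p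
  obtain ⟨a', b', c'⟩ := q
  simp only [phi, mul, map_add, Prod.mk.injEq]
  refine ⟨trivial, by ring, ?_⟩
  linear_combination (b * a' - a * a' * σ a') * h3

theorem phi_dil (σ : K →+* K) (k : K) (p : K × K × K) : phi σ (dil σ k p) = dil σ k (phi σ p) := by
  obtain ⟨a, b, c⟩ := p
  simp only [phi, dil, map_mul, Prod.mk.injEq]
  refine ⟨trivial, by ring, by ring⟩

theorem phi_injective (σ : K →+* K) : Function.Injective (phi σ) := by
  rintro ⟨a, b, c⟩ ⟨a', b', c'⟩ h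
  simp only [phi, Prod.mk.injEq] at h
  obtain ⟨h1, h2, h3⟩ := h
  subst h1
  have h2' : b = b' := by linear_combination h2
  subst h2'
  have h3' : c = c' := by linear_combination -h3
  rw [h3']

/-- the first coordinate of `w (0, b, -1)` -/
def al (τ : K × K × K → K × K × K) (b : K) : K := (τ (0, b, -1)).1

/-- the second coordinate of `w (0, b, -1)` -/
def be (σ : K →+* K) (τ : K × K × K → K × K × K) (b : K) : K := (phi σ (τ (0, b, -1))).2.1

/-- the third coordinate of `w (0, b, -1)` -/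
def ga (σ : K →+* K) (τ : K × K × K → K × K × K) (b : K) : K := (phi σ (τ (0, b, -1))).2.2

theorem phi_tau (σ : K →+* K) (τ : K × K × K → K × K × K) (b : K) :
    phi σ (τ (0, b, -1)) = (al τ b, be σ τ b, ga σ τ b) := rfl

theorem tau_eq_of (σ : K →+* K) (τ : K × K × K → K × K × K) (b : K) :
    τ (0, b, -1) = (al τ b, be σ τ b - al τ b * σ (al τ b),
      al τ b * (be σ τ b - al τ b * σ (al τ b)) - ga σ τ b) := by
  simp only [be, ga, al, phi]
  ext
  · rfl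
  · simp
  · simp

namespace Start

variable {σ : K →+* K} {τ : K × K × K → K × K × K} {G : Type*} [Group G] {R : Rel σ τ G}
  {M : K → K} {d : K} (S : Start σ τ R M d)
include S

/-- `w` fixes `(0, 1, -1)` -/
theorem tau_c (h3 : (3 : K) = 0) : τ (0, 1, -1) = (0, 1, -1) := by
  refine R.tau_eq h3 (ne_zero_of_last (neg_ne_zero.2 one_ne_zero))
    (b := R.h (-1) * (R.U (1, 1, -d))⁻¹) ?_ ?_
  · exact (R.B h3).mul_mem (R.h_mem h3 _) ((R.B h3).inv_mem (R.U_mem h3 _))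
  · rw [S.relC]; group

theorem eqW_al (h3 : (3 : K) = 0) {s : K} (hs : s ≠ 0) :
    al τ (1 + s) = (M s)⁻¹ * al τ (1 - s⁻¹) := by
  have h := congrArg (phi σ) (S.eqW h3 hs)
  rw [phi_mul h3, phi_dil, phi_tau, phi_tau] at h
  simp only [phi, dil, Prod.mk.injEq] at h
  rw [h.1]; ring

theorem eqW_be (h3 : (3 : K) = 0) {s : K} (hs : s ≠ 0) :
    be σ τ (1 + s) = (s⁻¹) ^ 2 * be σ τ (1 - s⁻¹) - s⁻¹ := by
  have h := congrArg (phi σ) (S.eqW h3 hs)
  rw [phi_mul h3, phi_dil, phi_tau, phi_tau] at h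
  simp only [phi, dil, Prod.mk.injEq, map_zero, map_inv₀] at h
  rw [h.2.1]
  have : (M s)⁻¹ * (σ (M s))⁻¹ = (s⁻¹) ^ 2 := by
    rw [← mul_inv, S.M_norm, inv_pow]
  linear_combination be σ τ (1 - s⁻¹) * this

theorem eqW_ga (h3 : (3 : K) = 0) {s : K} (hs : s ≠ 0) :
    ga σ τ (1 + s) = (M s)⁻¹ * (s⁻¹) ^ 2 * ga σ τ (1 - s⁻¹) + s⁻¹ * al τ (1 + s) := by
  have h := congrArg (phi σ) (S.eqW h3 hs)
  rw [phi_mul h3, phi_dil, phi_tau, phi_tau] at h
  simp only [phi, dil, Prod.mk.injEq, map_zero, map_inv₀] at h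
  rw [h.2.2, h.1]
  have : (M s)⁻¹ * (σ (M s))⁻¹ = (s⁻¹) ^ 2 := by
    rw [← mul_inv, S.M_norm, inv_pow]
  linear_combination (M s)⁻¹ * ga σ τ (1 - s⁻¹) * this

theorem eqSS_al (h3 : (3 : K) = 0) {b : K} (hb : b ≠ 0) :
    -al τ (b - 1) = 1 + al τ (-b⁻¹ - 1) := by
  have h := congrArg (phi σ) (S.eqSS h3 hb)
  rw [phi_mul h3, phi_dil, phi_tau, phi_tau] at h
  simp only [phi, dil, Prod.mk.injEq, map_one, map_neg] at h
  linear_combination h.1

theorem eqSS_be (h3 : (3 : K) = 0) {b : K} (hb : b ≠ 0) :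
    be σ τ (b - 1) = be σ τ (-b⁻¹ - 1) + al τ (-b⁻¹ - 1) - 1 := by
  have h := congrArg (phi σ) (S.eqSS h3 hb)
  rw [phi_mul h3, phi_dil, phi_tau, phi_tau] at h
  simp only [phi, dil, Prod.mk.injEq, map_one, map_neg] at h
  linear_combination h.2.1 + h3

theorem eqSS_ga (h3 : (3 : K) = 0) {b : K} (hb : b ≠ 0) :
    -ga σ τ (b - 1) = 1 + d + ga σ τ (-b⁻¹ - 1) + be σ τ (-b⁻¹ - 1) - al τ (-b⁻¹ - 1) := by
  have h := congrArg (phi σ) (S.eqSS h3 hb)
  rw [phi_mul h3, phi_dil, phi_tau, phi_tau] at h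
  simp only [phi, dil, Prod.mk.injEq, map_one, map_neg] at h
  linear_combination h.2.2

section Special

variable (h3 : (3 : K) = 0)
include h3

theorem al_one : al τ 1 = 0 := by rw [al, S.tau_c h3]

theorem be_one : be σ τ 1 = 1 := by rw [be, S.tau_c h3]; simp [phi]

theorem ga_one : ga σ τ 1 = 1 := by rw [ga, S.tau_c h3]; simp [phi]

omit S in
theorem aux_two : -(1 : K)⁻¹ - 1 = 1 := by rw [inv_one]; linear_combination -h3

theorem al_zero : al τ 0 = -1 := by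
  have h := S.eqSS_al h3 (b := 1) one_ne_zero
  rw [aux_two h3, S.al_one h3, sub_self] at h
  linear_combination -h

theorem be_zero : be σ τ 0 = 0 := by
  have h := S.eqSS_be h3 (b := 1) one_ne_zero
  rw [aux_two h3, S.al_one h3, S.be_one h3, sub_self] at h
  linear_combination h

theorem ga_zero : ga σ τ 0 = -d := by
  have h := S.eqSS_ga h3 (b := 1) one_ne_zero
  rw [aux_two h3, S.al_one h3, S.be_one h3, S.ga_one h3, sub_self] at h
  linear_combination -h - h3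

omit S in
theorem aux_two' : (1 : K) + 1 = -1 := by linear_combination h3

omit S h3 in
theorem aux_zero : (1 : K) - 1⁻¹ = 0 := by rw [inv_one, sub_self]

theorem al_neg_one (hM : IsM σ M) : al τ (-1) = -1 := by
  have h := S.eqW_al h3 (s := 1) one_ne_zero
  rw [aux_zero, aux_two' h3, S.al_zero h3, hM.one] at h
  linear_combination h

theorem be_neg_one : be σ τ (-1) = -1 := by
  have h := S.eqW_be h3 (s := 1) one_ne_zero
  rw [aux_zero, aux_two' h3, S.be_zero h3] at h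
  linear_combination h

theorem ga_neg_one (hM : IsM σ M) : ga σ τ (-1) = -1 - d := by
  have h := S.eqW_ga h3 (s := 1) one_ne_zero
  rw [aux_zero, aux_two' h3, S.ga_zero h3, hM.one, S.al_neg_one h3 hM] at h
  linear_combination h

end Special

section Recursion

variable (h3 : (3 : K) = 0)
include h3

omit S in
theorem aux_point {b : K} (hb0 : b ≠ 0) (hb1 : b ≠ 1) :
    ∃ c : K, c ≠ 0 ∧ c - 1 = 1 - (b - 1)⁻¹ ∧ -c⁻¹ - 1 = -b⁻¹ := by
  have hb : b - 1 ≠ 0 := sub_ne_zero.2 hb1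
  refine ⟨-(b / (b - 1)), neg_ne_zero.2 (div_ne_zero hb0 hb), ?_, ?_⟩
  · field_simp
    linear_combination -(b - 1) * h3
  · field_simp
    ring

theorem rec_al (hM : IsM σ M) {b : K} (hb0 : b ≠ 0) (hb1 : b ≠ 1) :
    M (b - 1) * al τ b = -(1 + al τ (-b⁻¹)) := by
  have hb : b - 1 ≠ 0 := sub_ne_zero.2 hb1
  obtain ⟨c, hc0, hc1, hc2⟩ := aux_point h3 hb0 hb1
  have h1 := S.eqW_al h3 hb
  have h2 := S.eqSS_al h3 hc0
  rw [hc1, hc2] at h2
  rw [add_sub_cancel] at h1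
  rw [h1, mul_inv_cancel_left₀ (hM.ne_zero hb)]
  linear_combination -h2

theorem rec_be {b : K} (hb0 : b ≠ 0) (hb1 : b ≠ 1) :
    (b - 1) ^ 2 * be σ τ b = be σ τ (-b⁻¹) + al τ (-b⁻¹) - b := by
  have hb : b - 1 ≠ 0 := sub_ne_zero.2 hb1
  obtain ⟨c, hc0, hc1, hc2⟩ := aux_point h3 hb0 hb1
  have h1 := S.eqW_be h3 hb
  have h2 := S.eqSS_be h3 hc0
  rw [hc1, hc2] at h2
  rw [add_sub_cancel] at h1
  rw [h1, h2]
  field_simp
  ring

theorem rec_ga (hM : IsM σ M) {b : K} (hb0 : b ≠ 0) (hb1 : b ≠ 1) :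
    M (b - 1) * (b - 1) ^ 2 * ga σ τ b = -(1 + d) - ga σ τ (-b⁻¹) - be σ τ (-b⁻¹) + al τ (-b⁻¹) +
      M (b - 1) * (b - 1) * al τ b := by
  have hb : b - 1 ≠ 0 := sub_ne_zero.2 hb1
  obtain ⟨c, hc0, hc1, hc2⟩ := aux_point h3 hb0 hb1
  have h1 := S.eqW_ga h3 hb
  have h2 := S.eqSS_ga h3 hc0
  rw [hc1, hc2] at h2
  rw [add_sub_cancel] at h1
  have h4 : ga σ τ (1 - (b - 1)⁻¹) = -(1 + d + ga σ τ (-b⁻¹) + be σ τ (-b⁻¹) - al τ (-b⁻¹)) := by
    linear_combination -h2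
  have hMb := hM.ne_zero hb
  rw [h1, h4]
  field_simp
  ring

end Recursion

section Closed

variable (h3 : (3 : K) = 0)
include h3

/-- **closed form** of `al` -/
theorem al_eq (hM : IsM σ M) (b : K) :
    al τ b * (M (b - 1) * M (b + 1) - M b) = M b - M (b + 1) := by
  rcases eq_or_ne b 0 with rfl | hb0
  · rw [S.al_zero h3, zero_sub, zero_add, hM.neg_one, hM.one, hM.zero]; ring
  rcases eq_or_ne b 1 with rfl | hb1
  · rw [S.al_one h3, aux_two' h3, hM.neg_one, hM.one]; ring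
  rcases eq_or_ne b (-1) with rfl | hb2
  · rw [S.al_neg_one h3 hM, neg_add_cancel, hM.zero, hM.neg_one]; ring
  have h1 := S.rec_al h3 hM hb0 hb1
  have h2 := S.rec_al h3 hM (b := -b⁻¹) (neg_ne_zero.2 (inv_ne_zero hb0)) (by
    intro h
    apply hb2
    rw [neg_eq_iff_eq_neg] at h
    rw [← inv_inv b, h, inv_neg_one])
  have e1 : -(-b⁻¹)⁻¹ = b := by rw [inv_neg, inv_inv, neg_neg]
  have e2 : M (-b⁻¹ - 1) = M (b + 1) / M b := by
    rw [← hM.div, ← hM.neg]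
    congr 1
    field_simp
    ring
  rw [e1, e2] at h2
  have hMb := hM.ne_zero hb0
  rw [div_mul_eq_mul_div, div_eq_iff hMb] at h2
  linear_combination M (b + 1) * h1 - h2

omit S h3 in
theorem aux_inv {b : K} (hb0 : b ≠ 0) (hb2 : b ≠ -1) :
    -b⁻¹ ≠ 0 ∧ -b⁻¹ ≠ 1 ∧ -(-b⁻¹)⁻¹ = b := by
  refine ⟨neg_ne_zero.2 (inv_ne_zero hb0), ?_, by rw [inv_neg, inv_inv, neg_neg]⟩
  intro h
  apply hb2
  rw [neg_eq_iff_eq_neg] at h
  rw [← inv_inv b, h, inv_neg_one]

/-- **closed form** of `be` -/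
theorem be_eq (hM : IsM σ M) (b : K) :
    be σ τ b * (b ^ 4 + 1) = al τ b * (b ^ 2 - M (b - 1) * (1 + b) ^ 2) - (b ^ 3 - b + 1) := by
  rcases eq_or_ne b 0 with rfl | hb0
  · rw [S.be_zero h3, S.al_zero h3, zero_sub, hM.neg_one]; ring
  rcases eq_or_ne b 1 with rfl | hb1
  · rw [S.al_one h3, S.be_one h3]; linear_combination h3
  rcases eq_or_ne b (-1) with rfl | hb2
  · rw [S.al_neg_one h3 hM, S.be_neg_one h3]; ring
  obtain ⟨hc0, hc1, hc2⟩ := aux_inv hb0 hb2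
  have h0 := S.rec_al h3 hM hb0 hb1
  have h1 := S.rec_be h3 hb0 hb1
  have h2 := S.rec_be h3 hc0 hc1
  rw [hc2] at h2
  have h4 : (b + 1) ^ 2 * be σ τ (-b⁻¹) = b ^ 2 * (be σ τ b + al τ b) + b := by
    have e : (-b⁻¹ - 1) ^ 2 * b ^ 2 = (b + 1) ^ 2 := by
      field_simp
      ring
    rw [← e]
    have e2 : b⁻¹ * b = 1 := inv_mul_cancel₀ hb0
    linear_combination b ^ 2 * h2 + b * e2
  linear_combination (b + 1) ^ 2 * h1 + h4 + (b + 1) ^ 2 * h0 +
    (b ^ 2 * be σ τ b + (b + 1) ^ 2 - 1 - 3 * b - 2 * b ^ 2) * h3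

/-- **closed form** of `ga` -/
theorem ga_eq (hM : IsM σ M) (b : K) :
    ga σ τ b * (M (b - 1) * M (b + 1) * (b ^ 2 - 1) ^ 2 - M b * b ^ 2) =
      M (b + 1) * (b + 1) * (1 - (b + 1) * (1 + d + b)) +
      be σ τ b * (M b * b ^ 2 - M (b + 1) * (b ^ 2 - 1) ^ 2) +
      al τ b * (M (b - 1) * M (b + 1) * (b + 1) * b ^ 2 - M b * b ^ 2) +
      M b * b ^ 2 * (1 + d) := by
  rcases eq_or_ne b 0 with rfl | hb0
  · rw [S.be_zero h3, S.al_zero h3, S.ga_zero h3, zero_sub, hM.neg_one, zero_add, hM.one]; ring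
  rcases eq_or_ne b 1 with rfl | hb1
  · rw [S.al_one h3, S.be_one h3, S.ga_one h3, aux_two' h3, hM.neg_one, hM.one]; ring
  rcases eq_or_ne b (-1) with rfl | hb2
  · rw [S.al_neg_one h3 hM, S.be_neg_one h3, S.ga_neg_one h3 hM, neg_add_cancel, hM.zero, hM.neg_one]; ring
  obtain ⟨hc0, hc1, hc2⟩ := aux_inv hb0 hb2
  have h0 := S.rec_al h3 hM hb0 hb1
  have h1 := S.rec_be h3 hb0 hb1
  have h5 := S.rec_ga h3 hM hb0 hb1
  have h6 := S.rec_ga h3 hM hc0 hc1
  rw [hc2] at h6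
  have hMb := hM.ne_zero hb0
  have e2 : M (-b⁻¹ - 1) = M (b + 1) / M b := by
    rw [← hM.div, ← hM.neg]
    congr 1
    field_simp
    ring
  rw [e2] at h6
  have h7 : M (b + 1) * (b + 1) ^ 2 * ga σ τ (-b⁻¹) =
      M b * b ^ 2 * (-(1 + d) - ga σ τ b - be σ τ b + al τ b) -
      M (b + 1) * (b + 1) * b * al τ (-b⁻¹) := by
    have e : (-b⁻¹ - 1) ^ 2 * b ^ 2 = (b + 1) ^ 2 := by
      field_simp
      ring
    have e' : (-b⁻¹ - 1) * b = -(b + 1) := by
      field_simp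
      ring
    have e3 : M (b + 1) / M b * M b = M (b + 1) := div_mul_cancel₀ _ hMb
    linear_combination M b * b ^ 2 * h6 - (-b⁻¹ - 1) ^ 2 * ga σ τ (-b⁻¹) * b ^ 2 * e3 -
      M (b + 1) * ga σ τ (-b⁻¹) * e + b ^ 2 * (-b⁻¹ - 1) * al τ (-b⁻¹) * e3 +
      M (b + 1) * b * al τ (-b⁻¹) * e'
  linear_combination (M (b + 1) * (b + 1) ^ 2) * h5 - h7 + M (b + 1) * (b + 1) ^ 2 * h1 -
    M (b + 1) * (b + 1) * h0 + M (b + 1) * al τ (-b⁻¹) * (b + 1) ^ 2 * h3

end Closed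

section Neg

variable (h3 : (3 : K) = 0)
include h3

omit S h3 in
theorem M_neg (hM : IsM σ M) (b : K) :
    M (-b - 1) = M (b + 1) ∧ M (-b + 1) = M (b - 1) ∧ M (-b) = M b := by
  refine ⟨?_, ?_, hM.neg b⟩
  · rw [← hM.neg]; congr 1; ring
  · rw [← hM.neg]; congr 1; ring

theorem al_neg_eq (hM : IsM σ M) (b : K) :
    al τ (-b) * (M (b - 1) * M (b + 1) - M b) = M b - M (b - 1) := by
  have h := S.al_eq h3 hM (-b)
  obtain ⟨e1, e2, e3⟩ := M_neg hM b
  rw [e1, e2, e3] at h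
  linear_combination h

theorem be_neg_eq (hM : IsM σ M) (b : K) :
    be σ τ (-b) * (b ^ 4 + 1) = al τ (-b) * (b ^ 2 - M (b + 1) * (1 - b) ^ 2) + (b ^ 3 - b - 1) := by
  have h := S.be_eq h3 hM (-b)
  obtain ⟨e1, e2, e3⟩ := M_neg hM b
  rw [e1] at h
  linear_combination h

theorem ga_neg_eq (hM : IsM σ M) (b : K) :
    ga σ τ (-b) * (M (b - 1) * M (b + 1) * (b ^ 2 - 1) ^ 2 - M b * b ^ 2) =
      M (b - 1) * (1 - b) * (1 - (1 - b) * (1 + d - b)) +
      be σ τ (-b) * (M b * b ^ 2 - M (b - 1) * (b ^ 2 - 1) ^ 2) +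
      al τ (-b) * (M (b - 1) * M (b + 1) * (1 - b) * b ^ 2 - M b * b ^ 2) +
      M b * b ^ 2 * (1 + d) := by
  have h := S.ga_eq h3 hM (-b)
  obtain ⟨e1, e2, e3⟩ := M_neg hM b
  rw [e1, e2, e3] at h
  linear_combination h

end Neg

section Quad

variable (h3 : (3 : K) = 0)
include h3

theorem eqE_phi {x y z b : K} (hx : x ≠ 0) (hy : y ≠ 0) (hz : z ≠ 0)
    (h : x ^ 2 * σ x + y ^ 2 * σ y + z ^ 2 * σ z = 0) (hb : b * (z * σ z) = y * σ y - x * σ x) :
    (x / z * al τ b = 1 - y / z * al τ (-b)) ∧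
    (x * σ x / (z * σ z) * be σ τ b = -1 + y * σ y / (z * σ z) * be σ τ (-b) - y / z * al τ (-b)) ∧
    (x ^ 2 * σ x / (z ^ 2 * σ z) * ga σ τ b = 1 + d - y ^ 2 * σ y / (z ^ 2 * σ z) * ga σ τ (-b) +
      y * σ y / (z * σ z) * be σ τ (-b) + y / z * al τ (-b)) := by
  have h1 := S.eqE h3 (-Units.mk0 y hy) (Units.mk0 x hx) (Units.mk0 z hz) b
    (by simp only [Units.val_neg, Units.val_mk0, map_neg]; linear_combination h)
    (by simp only [Units.val_neg, Units.val_mk0, map_neg]; linear_combination hb)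
  have h2 := congrArg (phi σ) h1
  rw [phi_mul h3, phi_dil, phi_dil, phi_tau, phi_tau] at h2
  simp only [phi, dil, Prod.mk.injEq, map_one, map_neg, Units.val_neg, Units.val_mk0, map_div₀] at h2
  have hz' : σ z ≠ 0 := by rwa [Ne, map_eq_zero]
  refine ⟨by linear_combination h2.1, ?_, ?_⟩
  · have e1 : x * σ x / (z * σ z) = x / z * (σ x / σ z) := by rw [div_mul_div_comm]
    have e2 : y * σ y / (z * σ z) = y / z * (σ y / σ z) := by rw [div_mul_div_comm]
    rw [e1, e2]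
    linear_combination h2.2.1 + h3
  · have e1 : x ^ 2 * σ x / (z ^ 2 * σ z) = (x / z) ^ 2 * (σ x / σ z) := by
      rw [div_pow, div_mul_div_comm]
    have e2 : y ^ 2 * σ y / (z ^ 2 * σ z) = (y / z) ^ 2 * (σ y / σ z) := by
      rw [div_pow, div_mul_div_comm]
    have e3 : y * σ y / (z * σ z) = y / z * (σ y / σ z) := by rw [div_mul_div_comm]
    rw [e1, e2, e3]
    linear_combination h2.2.2

variable {x y z b : K} (hx : x ≠ 0) (hy : y ≠ 0) (hz : z ≠ 0)
  (h : x ^ 2 * σ x + y ^ 2 * σ y + z ^ 2 * σ z = 0) (hb : b * (z * σ z) = y * σ y - x * σ x)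
include hx hy hz h hb

/-- **(I)** -/
theorem eqI : x * al τ b + y * al τ (-b) = z := by
  have h1 := (S.eqE_phi h3 hx hy hz h hb).1
  field_simp at h1
  linear_combination h1

/-- **(II)** -/
theorem eqII : x * σ x * be σ τ b = -(z * σ z) + y * σ y * be σ τ (-b) - y * σ z * al τ (-b) := by
  have h1 := (S.eqE_phi h3 hx hy hz h hb).2.1
  have hz' : σ z ≠ 0 := by rwa [Ne, map_eq_zero]
  field_simp at h1
  linear_combination h1

/-- **(III)** -/
theorem eqIII : x ^ 2 * σ x * ga σ τ b = z ^ 2 * σ z * (1 + d) - y ^ 2 * σ y * ga σ τ (-b) +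
    z * (y * σ y) * be σ τ (-b) + y * (z * σ z) * al τ (-b) := by
  have h1 := (S.eqE_phi h3 hx hy hz h hb).2.2
  have hz' : σ z ≠ 0 := by rwa [Ne, map_eq_zero]
  field_simp at h1
  linear_combination h1

end Quad

end Start

end Cfsg.Agent.ReeUniq
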