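/-
Finite fields of order `3 ^ n`, `n` odd, with an endomorphism `σ`: the map `M x = x ^ (2 / (1 + σ))`;
the structure `Start` from two relations.
-/
import Cfsg.Agent.ReeUniq.Mid

set_option autoImplicit false

namespace Cfsg.Agent.ReeUniq

namespace FieldM

variable {K : Type*} [Field K] [Finite K]

theorem three_pow_mod (n : ℕ) (hn : Odd n) : 3 ^ n % 4 = 3 := by
  obtain ⟨m, rfl⟩ := hn
  rw [pow_succ, pow_mul, Nat.mul_mod, Nat.pow_mod]
  norm_num

variable {n : ℕ} (hn : Odd n) (hc : Nat.card K = 3 ^ n)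
include hn hc

theorem three_eq_zero : (3 : K) = 0 := by
  have hn0 : n ≠ 0 := by rintro rfl; exact absurd hn (by decide)
  have : Fintype K := Fintype.ofFinite K
  have h : ((3 ^ n : ℕ) : K) = 0 := by
    rw [← hc, Nat.card_eq_fintype_card]
    exact Nat.cast_card_eq_zero K
  push_cast at h
  exact (pow_eq_zero_iff hn0).1 h

theorem sq_ne (x : K) : x ^ 2 ≠ -1 := by
  intro h
  have : Fintype K := Fintype.ofFinite K
  have h1 : IsSquare (-1 : K) := ⟨x, by rw [← h, sq]⟩
  rw [FiniteField.isSquare_neg_one_iff] at h1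
  apply h1
  rw [← Nat.card_eq_fintype_card, hc]
  exact three_pow_mod n hn

theorem two_ne : (2 : K) ≠ 0 := by
  intro h
  have h3 := three_eq_zero hn hc
  apply one_ne_zero (α := K)
  linear_combination h3 - h

theorem isSquare_or (x : K) : IsSquare x ∨ IsSquare (-x) := by
  rcases eq_or_ne x 0 with rfl | hx
  · left; exact ⟨0, by simp⟩
  have : Fintype K := Fintype.ofFinite K
  have hF : ringChar K ≠ 2 := by
    intro h
    apply two_ne hn hc
    have := ringChar.Nat.cast_ringChar (R := K)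
    rw [h] at this
    exact_mod_cast this
  rw [FiniteField.isSquare_iff hF hx, FiniteField.isSquare_iff hF (neg_ne_zero.2 hx)]
  rcases FiniteField.pow_dichotomy hF hx with h | h
  · left; exact h
  · right
    rw [neg_pow, h]
    have h1 : Fintype.card K % 4 = 3 := by
      rw [← Nat.card_eq_fintype_card, hc]
      exact three_pow_mod n hn
    have h2 : Odd (Fintype.card K / 2) := by
      rw [Nat.odd_iff]; omega
    rw [h2.neg_one_pow]
    ring

theorem sigma_iterate (σ : K →+* K) (x : K) : σ^[n] x = x := by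
  have h3 := three_eq_zero hn hc
  have : Fact (Nat.Prime 3) := ⟨Nat.prime_three⟩
  have : CharP K 3 := (CharP.charP_iff_prime_eq_zero Nat.prime_three).2 (by exact_mod_cast h3)
  let _ : Algebra (ZMod 3) K := ZMod.algebra K 3
  have hcomm : σ.comp (algebraMap (ZMod 3) K) = algebraMap (ZMod 3) K := Subsingleton.elim _ _
  let f : K →ₐ[ZMod 3] K := { σ with commutes' := fun r => DFunLike.congr_fun hcomm r }
  let e : K ≃ₐ[ZMod 3] K := AlgEquiv.ofBijective f (Finite.injective_iff_bijective.1 f.toRingHom.injective)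
  have hfin : Module.finrank (ZMod 3) K = n := by
    have := Module.natCard_eq_pow_finrank (K := ZMod 3) (V := K)
    rw [hc, Nat.card_zmod] at this
    exact (Nat.pow_right_injective (le_refl 2 |>.trans (by norm_num)) this).symm
  have hcard : Nat.card (K ≃ₐ[ZMod 3] K) = n := by
    rw [← hfin]
    exact IsGalois.card_aut_eq_finrank (ZMod 3) K
  have h1 : e ^ n = 1 := by
    rw [← hcard]
    exact pow_card_eq_one'
  have h2 : ∀ m : ℕ, ∀ y, (e ^ m) y = σ^[m] y := by
    intro m
    induction m with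
    | zero => intro y; rfl
    | succ m ih =>
      intro y
      rw [pow_succ', Function.iterate_succ_apply']
      show e ((e ^ m) y) = _
      rw [ih]
      rfl
  rw [← h2, h1]
  rfl

theorem fix_of_sq (σ : K →+* K) (x : K) (h : σ (σ x) = x) : σ x = x := by
  have h1 := sigma_iterate hn hc σ x
  obtain ⟨m, rfl⟩ := hn
  have h2 : ∀ m : ℕ, σ^[2 * m] x = x := by
    intro m
    induction m with
    | zero => rfl
    | succ m ih =>
      rw [show 2 * (m + 1) = 2 * m + 1 + 1 by ring, Function.iterate_succ_apply,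
        Function.iterate_succ_apply, h, ih]
  change σ^[(2 * m).succ] x = x at h1
  rw [Function.iterate_succ_apply', h2] at h1
  exact h1

theorem sq_eq_one (σ : K →+* K) (x : K) (h : x * σ x = 1) : x ^ 2 = 1 := by
  have hx : x ≠ 0 := by
    rintro rfl
    rw [zero_mul] at h
    exact zero_ne_one h
  have h1 : σ x = x⁻¹ := eq_inv_of_mul_eq_one_right h
  have h2 : σ (σ x) = x := by rw [h1, map_inv₀, h1, inv_inv]
  have h4 := fix_of_sq hn hc σ x h2
  rw [h4] at h
  rw [sq, h]

theorem eq_of_square (σ : K →+* K) {x y : K} (hx : IsSquare x) (hy : IsSquare y)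
    (h : x * σ x = y * σ y) : x = y := by
  rcases eq_or_ne y 0 with rfl | hy0
  · rw [zero_mul] at h
    rcases mul_eq_zero.1 h with h | h
    · exact h
    · exact (map_eq_zero σ).1 h
  have hy' : σ y ≠ 0 := by rwa [Ne, map_eq_zero]
  have h1 : (x / y) * σ (x / y) = 1 := by
    rw [map_div₀, div_mul_div_comm, h, div_self (mul_ne_zero hy0 hy')]
  have h2 := sq_eq_one hn hc σ _ h1
  have h4 : x / y = 1 ∨ x / y = -1 := by
    have : (x / y - 1) * (x / y + 1) = 0 := by linear_combination h2
    rcases mul_eq_zero.1 this with h | h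
    · exact Or.inl (sub_eq_zero.1 h)
    · exact Or.inr (eq_neg_of_add_eq_zero_left h)
  rcases h4 with h4 | h4
  · exact (div_eq_one_iff_eq hy0).1 h4
  · exfalso
    obtain ⟨u, hu⟩ := hx.div hy
    apply sq_ne hn hc u
    rw [← h4, hu, sq]

theorem exists_square (σ : K →+* K) {x : K} (hx : IsSquare x) : ∃ y, IsSquare y ∧ y * σ y = x := by
  let f : {y : K // IsSquare y} → {y : K // IsSquare y} := fun y => ⟨y.1 * σ y.1, y.2.mul (y.2.map σ)⟩
  have hf : Function.Injective f := by
    intro y z h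
    exact Subtype.ext (eq_of_square hn hc σ y.2 z.2 (congrArg Subtype.val h))
  obtain ⟨y, hy⟩ := (Finite.injective_iff_surjective.1 hf) ⟨x, hx⟩
  exact ⟨y.1, y.2, congrArg Subtype.val hy⟩

theorem exists_M (σ : K →+* K) : ∃ M : K → K, IsM σ M ∧ ∀ x, M (x * σ x) = x ^ 2 := by
  have h := fun x : K => exists_square hn hc σ (x := x ^ 2) ⟨x, sq x⟩
  choose M h1 h2 using h
  refine ⟨M, ⟨fun x y => ?_, h2, ?_⟩, fun x => ?_⟩
  · refine eq_of_square hn hc σ (h1 _) ((h1 _).mul (h1 _)) ?_
    rw [h2, map_mul]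
    linear_combination -(M y * σ (M y)) * h2 x - x ^ 2 * h2 y
  · refine eq_of_square hn hc σ (h1 _) ⟨1, by ring⟩ ?_
    rw [h2, map_one]
    ring
  · refine eq_of_square hn hc σ (h1 _) ⟨x, sq x⟩ ?_
    rw [h2, map_pow]
    ring

end FieldM

namespace IsM

variable {K : Type*} [Field K] [Finite K] {n : ℕ} (hn : Odd n) (hc : Nat.card K = 3 ^ n)
  {σ : K →+* K} {M : K → K} (hM : IsM σ M)
include hn hc hM

theorem isSquare (x : K) : IsSquare (M x) := by
  have key : ∀ y, IsSquare y → IsSquare (M y) := by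
    rintro _ ⟨z, rfl⟩
    exact ⟨M z, hM.mul z z⟩
  rcases FieldM.isSquare_or hn hc x with h | h
  · exact key x h
  · rw [← hM.neg]
    exact key _ h

theorem eq_of_pow {x m : K} (hm : IsSquare m) (h : m * σ m = x ^ 2) : M x = m :=
  FieldM.eq_of_square hn hc σ (hM.isSquare hn hc x) hm (by rw [h, hM.pow])

theorem unique {M' : K → K} (hM' : IsM σ M') : M = M' := by
  funext x
  exact hM.eq_of_pow hn hc (hM'.isSquare hn hc x) (hM'.pow x)

/-- `M` is the inverse of `x ↦ x * σ x` on squares -/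
theorem mul_sigma (x : K) : M (x * σ x) = x ^ 2 :=
  hM.eq_of_pow hn hc ⟨x, sq x⟩ (by rw [map_pow]; ring)

/-- `M` of a quotient by `z * σ z` -/
theorem div_sigma (x z : K) : M (x / (z * σ z)) = M x / z ^ 2 := by
  rw [hM.div, hM.mul_sigma hn hc]

end IsM

section Two

variable {K : Type*} [Field K] [Finite K] {n : ℕ} (hn : Odd n) (hc : Nat.card K = 3 ^ n)
  {σ : K →+* K} {τ : K × K × K → K × K × K} {G : Type*} [Group G] {R : Rel σ τ G}
  {M : K → K} {d : K}
include hn hc

/-- `Start` follows from two relations. -/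
theorem Start.of_two (hM : IsM σ M)
    (hY : R.w * R.U (0, 1, 0) * R.w = R.U (0, -1, 0) * R.w * R.U (0, -1, 0))
    (hC : R.w * R.U (0, 1, -1) * R.w = R.U (0, 1, -1) * R.w * R.h (-1) * (R.U (1, 1, -d))⁻¹) :
    Start σ τ R M d where
  M_norm := hM.pow
  relC := hC
  relY := by
    -- the squares first
    have key : ∀ (k : Kˣ), R.w * R.U (0, k * σ k, 0) * R.w =
        R.U (0, -((k : K) * σ k)⁻¹, 0) * R.w * R.h (k * k) * R.U (0, -((k : K) * σ k)⁻¹, 0) := by
      intro k
      have e1 : R.U (0, k * σ k, 0) = R.h k * R.U (0, 1, 0) * (R.h k)⁻¹ := by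
        rw [R.h_U]
        have : dil σ (k : K) (0, 1, 0) = (0, k * σ k, 0) := by simp [dil]
        rw [this]; group
      have e2 : R.U (0, -((k : K) * σ k)⁻¹, 0) = (R.h k)⁻¹ * R.U (0, -1, 0) * R.h k := by
        have h1 := R.h_U k (0, -((k : K) * σ k)⁻¹, 0)
        have h0 : (k : K) * σ k ≠ 0 := mul_ne_zero k.ne_zero (by rw [Ne, map_eq_zero]; exact k.ne_zero)
        have : dil σ (k : K) (0, -((k : K) * σ k)⁻¹, 0) = (0, -1, 0) := by
          simp only [dil, mul_zero, Prod.mk.injEq, true_and, and_true]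
          rw [mul_neg, mul_inv_cancel₀ h0]
        rw [this] at h1
        rw [mul_assoc, ← h1]; group
      have e5 : R.w * R.h k = (R.h k)⁻¹ * R.w := by rw [R.w_h, R.h_inv]
      have e6 : (R.h k)⁻¹ * R.w = R.w * R.h k := e5.symm
      calc R.w * R.U (0, k * σ k, 0) * R.w
          = (R.w * R.h k) * R.U (0, 1, 0) * ((R.h k)⁻¹ * R.w) := by rw [e1]; group
        _ = ((R.h k)⁻¹ * R.w) * R.U (0, 1, 0) * (R.w * R.h k) :=
            congrArg₂ (fun x y => x * R.U (0, 1, 0) * y) e5 e6
        _ = (R.h k)⁻¹ * (R.w * R.U (0, 1, 0) * R.w) * R.h k := by group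
        _ = ((R.h k)⁻¹ * R.U (0, -1, 0) * R.h k) * ((R.h k)⁻¹ * R.w) * R.U (0, -1, 0) * R.h k := by
            rw [hY]; group
        _ = ((R.h k)⁻¹ * R.U (0, -1, 0) * R.h k) * R.w * (R.h k * R.h k) *
              ((R.h k)⁻¹ * R.U (0, -1, 0) * R.h k) := by rw [e6]; group
        _ = _ := by rw [← e2, ← R.h_mul]
    have key2 : ∀ (b : K) (m : Kˣ), b ≠ 0 → IsSquare b → (m : K) = M b →
        R.w * R.U (0, b, 0) * R.w = R.U (0, -b⁻¹, 0) * R.w * R.h m * R.U (0, -b⁻¹, 0) := by
      intro b m hb hs hm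
      obtain ⟨k, -, hk⟩ := FieldM.exists_square hn hc σ hs
      have hk0 : k ≠ 0 := by
        rintro rfl
        rw [zero_mul] at hk
        exact hb hk.symm
      have h1 := key (Units.mk0 k hk0)
      have e : Units.mk0 k hk0 * Units.mk0 k hk0 = m := by
        apply Units.ext
        rw [hm, ← hk, hM.mul_sigma hn hc, sq]
        rfl
      rw [e, Units.val_mk0, hk] at h1
      exact h1
    intro b m hb hm
    rcases FieldM.isSquare_or hn hc b with hs | hs
    · exact key2 b m hb hs hm
    · have h1 := key2 (-b) m (neg_ne_zero.2 hb) hs (by rw [hm, hM.neg])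
      have h2 := congrArg (fun g => g⁻¹) h1
      simp only [mul_inv_rev, R.w_inv] at h2
      have e : ∀ c : K, (R.U (0, c, 0))⁻¹ = R.U (0, -c, 0) := by
        intro c
        rw [inv_eq_iff_mul_eq_one, Start.U_Z, add_neg_cancel, add_zero]
        exact R.U_zero
      rw [e, e, neg_neg, inv_neg, neg_neg] at h2
      have e6 : (R.h m)⁻¹ * R.w = R.w * R.h m := by rw [R.w_h, R.h_inv]
      rw [mul_assoc, h2]
      simp only [mul_assoc]
      rw [← mul_assoc (R.h m)⁻¹, e6]
      simp only [mul_assoc]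

end Two

end Cfsg.Agent.ReeUniq
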