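/-
The small Ree group `twistedG2 K (3 ^ m)` as an instance of `Rel`, with the formula of Tits for the
action of `w` on the points.
-/
import Cfsg.Agent.LieRecognition.ReeFinal
import Cfsg.Agent.ReeUniq.Law

set_option autoImplicit false
set_option linter.unusedSectionVars false

namespace Cfsg.Agent.ReeUniq

section Tits

variable {K : Type*} [Field K]

/-- the last coordinate of the point `p` -/
def r6 (σ : K →+* K) (p : K × K × K) : K :=
  -p.2.2 ^ 2 - p.2.1 * σ p.2.1 + p.1 * σ p.2.2 - p.1 * p.2.1 * p.2.2 - p.1 ^ 3 * σ p.1 * p.2.1 +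
    p.1 ^ 4 * σ p.1 ^ 2

/-- the last but one coordinate of the point `p` -/
def r5 (σ : K →+* K) (p : K × K × K) : K :=
  σ p.2.2 - p.2.1 * p.2.2 + σ p.1 * σ p.2.1 - p.1 * σ p.1 * p.2.2 - p.1 ^ 2 * σ p.1 * p.2.1 -
    p.1 ^ 3 * σ p.1 ^ 2

/-- the fifth coordinate of the point `p` -/
def r4 (σ : K →+* K) (p : K × K × K) : K :=
  σ p.2.1 - p.1 * p.2.2 - p.1 ^ 2 * p.2.1 + p.1 ^ 3 * σ p.1

/-- the fourth coordinate of the point `p` -/
def r3 (p : K × K × K) : K := -p.2.2 + p.1 * p.2.1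

/-- first coordinate of the image of the point `p` -/
def tau1 (σ : K →+* K) (p : K × K × K) : K := -(r5 σ p / r6 σ p)

/-- second coordinate of the image of the point `p` -/
def tau2 (σ : K →+* K) (p : K × K × K) : K := r4 σ p / r6 σ p - tau1 σ p * σ (tau1 σ p)

/-- The action of `w` on the points: `w U(p) w ∈ U(tits p) w B`. -/
def tits (σ : K →+* K) (p : K × K × K) : K × K × K :=
  (tau1 σ p, tau2 σ p, tau1 σ p * tau2 σ p - r3 p / r6 σ p)

end Tits

namespace Model

open Cfsg.Lie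
open Cfsg.Agent.ChevalleyStructure.WordCheck Cfsg.Agent.ChevalleyStructure.WordEntry
open Cfsg.Agent.ChevalleyStructure.Ree.Bracket Cfsg.Agent.ChevalleyStructure.Ree.Good
open Cfsg.Agent.ChevalleyStructure.Ree.Checks Cfsg.Agent.ChevalleyStructure.Ree.Words
open Cfsg.Agent.ChevalleyStructure.Ree.Gens Cfsg.Agent.ChevalleyStructure.Ree.Bruhat
open Cfsg.Agent.ChevalleyStructure.Ree.Blocks
open Cfsg.Agent.ChevalleyStructure (ReeFixed.IsTheta ReeFixed.exists_theta)
open Cfsg.Agent.ChevalleyStructure.ReeFixed (wU1)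
open Cfsg.Agent.LieRecognition Cfsg.Agent.LieRecognition.ReeData

/-! ### The entries `(4,0)`, `(5,0)`, `(6,0)` -/

theorem check_40 : entryIs chevG2 3 0 6 wW (Sc 4) (Sc 0)
    (.add (.add (.var 2) (.neg (.mul (.var 1) (.var 5))))
      (.add (.neg (.mul (.mul (.var 1) (.var 1)) (.var 3))) (.mul (.var 0) (.pow (.var 1) 3)))) = true := by
  decide +kernel

theorem check_50 : entryIs chevG2 3 0 6 wW (Sc 5) (Sc 0)
    (.add (.add (.add (.var 4) (.neg (.mul (.var 3) (.var 5)))) (.mul (.var 0) (.var 2)))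
      (.add (.neg (.mul (.mul (.var 0) (.var 1)) (.var 5)))
        (.add (.neg (.mul (.mul (.var 0) (.pow (.var 1) 2)) (.var 3)))
          (.neg (.mul (.pow (.var 0) 2) (.pow (.var 1) 3)))))) = true := by
  decide +kernel

theorem check_60 : entryIs chevG2 3 0 6 wW (Sc 6) (Sc 0)
    (.add (.add (.add (.neg (.pow (.var 5) 2)) (.neg (.mul (.var 2) (.var 3)))) (.mul (.var 1) (.var 4)))
      (.add (.neg (.mul (.mul (.var 1) (.var 3)) (.var 5)))
        (.add (.neg (.mul (.mul (.var 0) (.pow (.var 1) 3)) (.var 3)))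
          (.mul (.pow (.var 0) 2) (.pow (.var 1) 4))))) = true := by
  decide +kernel

section entries

variable {K : Type*} [Field K] {θ : K →+* K} {e : ℕ} (h3 : (3 : K) = 0) (hθ : ReeFixed.IsTheta θ e) (t u v : K)
include h3 hθ

theorem W_40 : Mb ((wU e t u v : GL chevG2.Idx K) : Matrix chevG2.Idx chevG2.Idx K) 4 0 =
    u - θ t * θ v - θ t ^ 2 * θ u + t * θ t ^ 3 :=
  (W_entry h3 hθ t u v check_40).trans (by simp [PExpr.denote, Cfsg.Agent.ChevalleyStructure.ReeFixed.val]; ring)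

theorem W_50 : Mb ((wU e t u v : GL chevG2.Idx K) : Matrix chevG2.Idx chevG2.Idx K) 5 0 =
    v - θ u * θ v + t * u - t * θ t * θ v - t * θ t ^ 2 * θ u - t ^ 2 * θ t ^ 3 :=
  (W_entry h3 hθ t u v check_50).trans (by simp [PExpr.denote, Cfsg.Agent.ChevalleyStructure.ReeFixed.val]; ring)

theorem W_60 : Mb ((wU e t u v : GL chevG2.Idx K) : Matrix chevG2.Idx chevG2.Idx K) 6 0 =
    -θ v ^ 2 - u * θ u + θ t * v - θ t * θ u * θ v - t * θ t ^ 3 * θ u + t ^ 2 * θ t ^ 4 :=
  (W_entry h3 hθ t u v check_60).trans (by simp [PExpr.denote, Cfsg.Agent.ChevalleyStructure.ReeFixed.val]; ring)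

end entries

/-! ### The instance -/

variable {K : Type*} [Field K] [Fintype K] {m : ℕ} (hK : Fintype.card K = 3 ^ (2 * m + 1))
variable {σ : K →+* K} (hσ : ∀ x, σ x = x ^ 3 ^ (m + 1))

/-- the unipotent elements -/
def Up (m : ℕ) (σ : K →+* K) (p : K × K × K) : ↥(twistedG2 K (3 ^ m)) := ReeData.U m (σ p.1) (σ p.2.1) (σ p.2.2)

include hK in
theorem three : (3 : K) = 0 := by
  obtain ⟨h3, _⟩ := ReeFixed.exists_theta hK
  exact_mod_cast h3

include hK in
theorem pow_card' (x : K) : x ^ 3 ^ (2 * m + 1) = x := by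
  rw [← hK]; exact FiniteField.pow_card x

include hK hσ in
theorem sigma_sigma (x : K) : σ (σ x) = x ^ 3 := by
  rw [hσ, hσ, ← pow_mul, ← pow_add]
  have : m + 1 + (m + 1) = (2 * m + 1) + 1 := by ring
  rw [this, pow_succ, pow_mul, pow_card' hK]

include hK hσ in
theorem theta_sigma {θ : K →+* K} (hθ : ReeFixed.IsTheta θ (3 ^ m)) (x : K) : θ (σ x) = x := by
  rw [hθ.eq_pow, hσ, ← pow_mul, ← pow_add]
  have : m + 1 + m = 2 * m + 1 := by ring
  rw [this, pow_card' hK]

include hK hσ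

theorem bl_10 (p : K × K × K) : bl (Up m σ p) 1 0 = -p.1 := by
  obtain ⟨h3, θ, hθ⟩ := ReeFixed.exists_theta hK
  have h := W_10 (by exact_mod_cast h3) hθ (σ p.1) (σ p.2.1) (σ p.2.2)
  rw [theta_sigma hK hσ hθ] at h
  exact h

theorem bl_20 (p : K × K × K) : bl (Up m σ p) 2 0 = p.1 * σ p.1 + p.2.1 := by
  obtain ⟨h3, θ, hθ⟩ := ReeFixed.exists_theta hK
  have h := W_20 (by exact_mod_cast h3) hθ (σ p.1) (σ p.2.1) (σ p.2.2)
  rw [theta_sigma hK hσ hθ, theta_sigma hK hσ hθ] at h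
  exact h

theorem bl_30 (p : K × K × K) : bl (Up m σ p) 3 0 = r3 p := by
  obtain ⟨h3, θ, hθ⟩ := ReeFixed.exists_theta hK
  have h := W_30 (by exact_mod_cast h3) hθ (σ p.1) (σ p.2.1) (σ p.2.2)
  rw [theta_sigma hK hσ hθ, theta_sigma hK hσ hθ, theta_sigma hK hσ hθ] at h
  refine Eq.trans h ?_
  unfold r3
  ring

theorem bl_40 (p : K × K × K) : bl (Up m σ p) 4 0 = r4 σ p := by
  obtain ⟨h3, θ, hθ⟩ := ReeFixed.exists_theta hK
  have h := W_40 (by exact_mod_cast h3) hθ (σ p.1) (σ p.2.1) (σ p.2.2)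
  rw [theta_sigma hK hσ hθ, theta_sigma hK hσ hθ, theta_sigma hK hσ hθ] at h
  refine Eq.trans h ?_
  unfold r4
  ring

theorem bl_50 (p : K × K × K) : bl (Up m σ p) 5 0 = r5 σ p := by
  obtain ⟨h3, θ, hθ⟩ := ReeFixed.exists_theta hK
  have h := W_50 (by exact_mod_cast h3) hθ (σ p.1) (σ p.2.1) (σ p.2.2)
  rw [theta_sigma hK hσ hθ, theta_sigma hK hσ hθ, theta_sigma hK hσ hθ] at h
  refine Eq.trans h ?_
  unfold r5
  ring

theorem bl_60 (p : K × K × K) : bl (Up m σ p) 6 0 = r6 σ p := by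
  obtain ⟨h3, θ, hθ⟩ := ReeFixed.exists_theta hK
  have h := W_60 (by exact_mod_cast h3) hθ (σ p.1) (σ p.2.1) (σ p.2.2)
  rw [theta_sigma hK hσ hθ, theta_sigma hK hσ hθ, theta_sigma hK hσ hθ] at h
  refine Eq.trans h ?_
  unfold r6
  ring

omit hK in
omit [Fintype K] in
theorem sigma_injective : Function.Injective σ := σ.injective

theorem exists_up (t u v : K) : ∃ p, ReeData.U m t u v = Up m σ p := by
  obtain ⟨h3, θ, hθ⟩ := ReeFixed.exists_theta hK
  have hs : Function.Surjective σ := Finite.surjective_of_injective σ.injective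
  obtain ⟨a, rfl⟩ := hs t
  obtain ⟨b, rfl⟩ := hs u
  obtain ⟨c, rfl⟩ := hs v
  exact ⟨(a, b, c), rfl⟩

theorem Up_mul (p q : K × K × K) : Up m σ (mul σ p q) = Up m σ p * Up m σ q := by
  obtain ⟨a, b, c⟩ := p
  obtain ⟨a', b', c'⟩ := q
  unfold Up
  rw [ReeData.U_mul hK]
  simp only [mul, map_add, map_sub, map_mul, map_pow, ← hσ]

theorem h_Up (k : Kˣ) (p : K × K × K) : ReeData.h hK k * Up m σ p = Up m σ (dil σ k p) * ReeData.h hK k := by
  obtain ⟨a, b, c⟩ := p
  unfold Up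
  rw [ReeData.h_U hK]
  have e1 : (k : K) ^ (3 ^ (m + 1) + 3) = σ k * σ (σ k) := by
    rw [sigma_sigma hK hσ, hσ, ← pow_add]
  have e2 : (k : K) ^ (2 * 3 ^ (m + 1) + 3) = σ k ^ 2 * σ (σ k) := by
    rw [sigma_sigma hK hσ, hσ, ← pow_mul, ← pow_add]
    congr 1
    ring
  rw [e1, e2, ← hσ]
  simp only [dil, map_mul, map_pow]

theorem Up_zero : Up m σ (0 : K × K × K) = 1 := by
  unfold Up
  simp only [Prod.fst_zero, Prod.snd_zero, map_zero]
  exact ReeData.U_zero hK

theorem bl_nUn (p : K × K × K) (i j : Fin 7) :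
    bl (ReeData.n hK * Up m σ p * ReeData.n hK) i j = bl (Up m σ p) i.rev j.rev := by
  rw [bl_mul_n hK, bl_n_mul hK, neg_neg]

theorem eq_zero_of_small (p : K × K × K) (h : ∀ i j : Fin 7, i < j →
    bl (ReeData.n hK * Up m σ p * ReeData.n hK) i j = 0) : p = 0 := by
  have h1 := h 5 6 (by decide)
  have h2 := h 4 6 (by decide)
  have h4 := h 3 6 (by decide)
  rw [bl_nUn hK hσ] at h1 h2 h4
  have h1' := (bl_10 hK hσ p).symm.trans h1
  have h2' := (bl_20 hK hσ p).symm.trans h2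
  have h4' := (bl_30 hK hσ p).symm.trans h4
  obtain ⟨a, b, c⟩ := p
  unfold r3 at h4'
  simp only at h1' h2' h4'
  have ea : a = 0 := neg_eq_zero.1 h1'
  subst ea
  have eb : b = 0 := by simpa using h2'
  subst eb
  have ec : c = 0 := by simpa using h4'
  subst ec
  rfl

theorem bruhat (g : ↥(twistedG2 K (3 ^ m))) : (∃ p k, g = Up m σ p * ReeData.h hK k) ∨
    ∃ p k q, g = Up m σ p * ReeData.h hK k * ReeData.n hK * Up m σ q := by
  rcases ReeFinal.exists_bruhat hK g.1 g.2 with ⟨t, u, v, a, h⟩ | ⟨t, u, v, a, t', u', v', h⟩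
  · left
    obtain ⟨p, hp⟩ := exists_up hK hσ t u v
    refine ⟨p, a, ?_⟩
    rw [← hp]
    exact Subtype.ext h
  · right
    obtain ⟨p, hp⟩ := exists_up hK hσ t u v
    obtain ⟨q, hq⟩ := exists_up hK hσ t' u' v'
    refine ⟨p, a, q, ?_⟩
    rw [← hp, ← hq]
    exact Subtype.ext h

theorem bl_UhnU (p q : K × K × K) (a : Kˣ) (i : Fin 7) :
    bl (Up m σ p * ReeData.h hK a * ReeData.n hK * Up m σ q) i 6 =
      -(bl (Up m σ p) i 0 * dA (a : K) ((a : K) ^ (3 * 3 ^ m)) 0) := by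
  rw [bl_mul hK, Matrix.mul_apply, Finset.sum_eq_single 6]
  · rw [bl_mul_n hK, bl_mul_h hK]
    have : bl (Up m σ q) 6 6 = 1 := bl_U_diag hK _ _ _ _
    rw [this, mul_one]
    rfl
  · intro k _ hk
    have : bl (Up m σ q) k 6 = 0 := by
      apply bl_U_low hK
      rw [Fin.lt_def]
      have h1 : k.val ≠ 6 := fun h => hk (Fin.ext h)
      have h2 := k.isLt
      show k.val < 6
      omega
    rw [this, mul_zero]
  · intro hk
    exact absurd (Finset.mem_univ _) hk

theorem dA_zero (a : Kˣ) : dA (a : K) ((a : K) ^ (3 * 3 ^ m)) 0 = ((a : K) ^ 2 * σ a)⁻¹ := by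
  have e : (a : K) ^ (3 * 3 ^ m) = σ a := by
    rw [hσ]; congr 1; ring
  rw [e, mul_inv]
  rfl

/-- **Tits' formula.** -/
theorem rel (p : K × K × K) (hp : p ≠ 0) : ∃ (a : Kˣ) (q : K × K × K),
    ReeData.n hK * Up m σ p * ReeData.n hK = Up m σ (tits σ p) * ReeData.n hK * ReeData.h hK a * Up m σ q ∧
      (a : K) ^ 2 * σ a = -r6 σ p := by
  rcases bruhat hK hσ (ReeData.n hK * Up m σ p * ReeData.n hK) with ⟨p', k, h⟩ | ⟨p', k, q, h⟩
  · exfalso
    apply hp
    apply eq_zero_of_small hK hσ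
    intro i j hij
    rw [h]
    exact bl_small hK _ _ _ _ _ _ hij
  · have key : ∀ i : Fin 7, bl (Up m σ p) i.rev 0 = -(bl (Up m σ p') i 0 * ((k : K) ^ 2 * σ k)⁻¹) := by
      intro i
      have h1 : bl (ReeData.n hK * Up m σ p * ReeData.n hK) i 6 = bl (Up m σ p) i.rev 0 := bl_nUn hK hσ p i 6
      rw [← h1, h, bl_UhnU hK hσ, dA_zero hK hσ]
    have k0 : r6 σ p = -(1 * ((k : K) ^ 2 * σ k)⁻¹) := by
      have h1 := key 0
      rw [show (Fin.rev (0 : Fin 7)) = 6 from rfl, bl_60 hK hσ] at h1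
      rw [h1]
      congr 2
      exact bl_U_diag hK _ _ _ _
    have k1 : r5 σ p = -(-p'.1 * ((k : K) ^ 2 * σ k)⁻¹) := by
      have h1 := key 1
      rwa [show (Fin.rev (1 : Fin 7)) = 5 from rfl, bl_50 hK hσ, bl_10 hK hσ] at h1
    have k2 : r4 σ p = -((p'.1 * σ p'.1 + p'.2.1) * ((k : K) ^ 2 * σ k)⁻¹) := by
      have h1 := key 2
      rwa [show (Fin.rev (2 : Fin 7)) = 4 from rfl, bl_40 hK hσ, bl_20 hK hσ] at h1
    have k3 : r3 p = -(r3 p' * ((k : K) ^ 2 * σ k)⁻¹) := by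
      have h1 := key 3
      rwa [show (Fin.rev (3 : Fin 7)) = 3 from rfl, bl_30 hK hσ, bl_30 hK hσ] at h1
    have hd : ((k : K) ^ 2 * σ k)⁻¹ = -r6 σ p := by rw [k0]; ring
    have hne : r6 σ p ≠ 0 := by
      intro h0
      rw [h0, neg_zero] at hd
      have hk : (k : K) ≠ 0 := k.ne_zero
      have hsk : σ (k : K) ≠ 0 := by
        intro h; exact hk ((map_eq_zero σ).1 h)
      exact inv_ne_zero (mul_ne_zero (pow_ne_zero _ hk) hsk) hd
    rw [hd] at k1 k2 k3
    have e1 : p'.1 = tau1 σ p := by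
      unfold tau1
      rw [eq_comm, neg_eq_iff_eq_neg, div_eq_iff hne, k1]
      ring
    have e2 : p'.2.1 = tau2 σ p := by
      unfold tau2
      rw [← e1, eq_sub_iff_add_eq, eq_div_iff hne, k2]
      ring
    have e3 : p'.2.2 = tau1 σ p * tau2 σ p - r3 p / r6 σ p := by
      rw [← e1, ← e2]
      have : r3 p / r6 σ p = r3 p' := by
        rw [div_eq_iff hne, k3]
        ring
      rw [this]
      unfold r3
      ring
    have ep : p' = tits σ p := by
      unfold tits
      rw [← e1, ← e2] at *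
      exact Prod.ext rfl (Prod.ext rfl (by rw [e3]))
    refine ⟨k⁻¹, q, ?_, ?_⟩
    · rw [h, ← ep]
      rw [mul_assoc (Up m σ p') (ReeData.n hK) (ReeData.h hK k⁻¹), n_h, inv_inv]
      group
    · rw [← hd, Units.val_inv_eq_inv_val, map_inv₀, inv_pow, mul_inv]

/-- **The small Ree group.** -/
noncomputable def modelRel : Rel σ (tits σ) ↥(twistedG2 K (3 ^ m)) where
  U := Up m σ
  h := ReeData.h hK
  w := ReeData.n hK
  U_mul := Up_mul hK hσ
  h_mul := ReeData.h_mul hK
  h_U := h_Up hK hσ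
  w_w := ReeData.n_n hK
  w_h := ReeData.n_h hK
  rel := fun p hp => by
    obtain ⟨a, q, h, _⟩ := rel hK hσ p hp
    exact ⟨a, q, h⟩
  gen := by
    rw [eq_top_iff]
    intro g _
    have hU : ∀ p, Up m σ p ∈ Subgroup.closure (Set.range (Up m σ) ∪ Set.range (ReeData.h hK) ∪ {ReeData.n hK}) :=
      fun p => Subgroup.subset_closure (Or.inl (Or.inl ⟨p, rfl⟩))
    have hh : ∀ k, ReeData.h hK k ∈ Subgroup.closure (Set.range (Up m σ) ∪ Set.range (ReeData.h hK) ∪
        {ReeData.n hK}) := fun p => Subgroup.subset_closure (Or.inl (Or.inr ⟨p, rfl⟩))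
    have hn : ReeData.n hK ∈ Subgroup.closure (Set.range (Up m σ) ∪ Set.range (ReeData.h hK) ∪
        {ReeData.n hK}) := Subgroup.subset_closure (Or.inr rfl)
    rcases bruhat hK hσ g with ⟨p, k, rfl⟩ | ⟨p, k, q, rfl⟩
    · exact Subgroup.mul_mem _ (hU p) (hh k)
    · exact Subgroup.mul_mem _ (Subgroup.mul_mem _ (Subgroup.mul_mem _ (hU p) (hh k)) hn) (hU q)
  not_mem := by
    intro p a h
    have h1 : bl (Up m σ p * ReeData.h hK a) 0 6 = bl (ReeData.n hK) 0 6 := by rw [h]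
    have h2 : bl (Up m σ p * ReeData.h hK a) 0 6 = 0 := bl_small hK _ _ _ _ _ _ (by decide)
    rw [h2, bl_n] at h1
    exact one_ne_zero (neg_eq_zero.1 (h1.symm : (-1 : K) = 0))
  faithful := by
    intro g hg
    obtain ⟨p, a, h1⟩ := hg 1
    rw [inv_one, one_mul, mul_one] at h1
    have hone : ReeData.h hK 1 = 1 := by
      have := ReeData.h_mul hK 1 1
      rw [one_mul] at this
      exact mul_eq_left.1 this.symm
    have key : ∀ r, mul σ (mul σ (inv σ r) p) (dil σ a r) = 0 := by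
      intro r
      obtain ⟨p', a', h2⟩ := hg (Up m σ r * ReeData.n hK)
      have hn : (ReeData.n hK)⁻¹ = ReeData.n hK := inv_eq_of_mul_eq_one_left (ReeData.n_n hK)
      have hinv : (Up m σ r)⁻¹ = Up m σ (inv σ r) := by
        rw [inv_eq_iff_mul_eq_one, ← Up_mul hK hσ, mul_inv' (three hK), Up_zero hK hσ]
      have h3 : ReeData.n hK * Up m σ (mul σ (mul σ (inv σ r) p) (dil σ a r)) * ReeData.n hK * ReeData.h hK a⁻¹ =
          Up m σ p' * ReeData.h hK a' := by
        rw [← h2, h1, mul_inv_rev, hn, hinv, Up_mul hK hσ, Up_mul hK hσ]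
        have e1 : ReeData.h hK a * Up m σ r * ReeData.n hK =
            Up m σ (dil σ a r) * ReeData.n hK * ReeData.h hK a⁻¹ := by
          rw [h_Up hK hσ, mul_assoc, mul_assoc, n_h, inv_inv]
        calc _ = ReeData.n hK * Up m σ (inv σ r) * Up m σ p * (Up m σ (dil σ a r) * ReeData.n hK * ReeData.h hK a⁻¹) := by
              group
          _ = _ := by rw [← e1]; group
      apply eq_zero_of_small hK hσ
      intro i j hij
      have h5 : ReeData.n hK * Up m σ (mul σ (mul σ (inv σ r) p) (dil σ a r)) * ReeData.n hK =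
          Up m σ p' * ReeData.h hK (a' * a) := by
        rw [ReeData.h_mul hK, ← mul_assoc, ← h3, mul_assoc _ (ReeData.h hK a⁻¹), ← ReeData.h_mul hK,
          inv_mul_cancel, hone, mul_one]
      rw [h5]
      exact bl_small hK _ _ _ _ _ _ hij
    have hp : p = 0 := by
      have h0 := key 0
      have e1 : inv σ (0 : K × K × K) = 0 := by simp [inv]
      have e2 : dil σ (a : K) (0 : K × K × K) = 0 := by simp [dil]
      rwa [e1, e2, zero_mul', mul_zero'] at h0
    subst hp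
    have h2 := key (1, 0, 0)
    rw [mul_zero'] at h2
    have h3 := congrArg Prod.fst (eq_of_inv_mul (three hK) h2)
    have h4 : (a : K) * 1 = 1 := h3
    rw [mul_one] at h4
    have h5 : a = 1 := Units.ext h4
    rw [h1, h5, Up_zero hK hσ, hone, one_mul]

end Model

/-! ### Change of the field -/

section transport

variable {K L : Type*} [Field K] [Field L] (φ : K ≃+* L)

/-- `φ` on the points -/
def ptMap (p : K × K × K) : L × L × L := (φ p.1, φ p.2.1, φ p.2.2)

theorem ptMap_symm (p : L × L × L) : ptMap φ (ptMap φ.symm p) = p := by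
  simp [ptMap]

variable {σ : K →+* K} {σL : L →+* L} (hφ : ∀ x, φ (σ x) = σL (φ x))
include hφ

theorem symm_comm (x : L) : φ.symm (σL x) = σ (φ.symm x) := by
  rw [RingEquiv.symm_apply_eq, hφ, RingEquiv.apply_symm_apply]

theorem ptMap_symm_mul (p q : L × L × L) : ptMap φ.symm (mul σL p q) =
    mul σ (ptMap φ.symm p) (ptMap φ.symm q) := by
  simp only [ptMap, mul, map_add, map_sub, map_mul, map_pow, symm_comm φ hφ]

theorem ptMap_symm_dil (k : L) (p : L × L × L) : ptMap φ.symm (dil σL k p) =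
    dil σ (φ.symm k) (ptMap φ.symm p) := by
  simp only [ptMap, dil, map_mul, map_pow, symm_comm φ hφ]

theorem ptMap_symm_tits (p : L × L × L) : ptMap φ.symm (tits σL p) = tits σ (ptMap φ.symm p) := by
  simp only [ptMap, tits, tau1, tau2, r3, r4, r5, r6, map_add, map_sub, map_mul, map_pow, map_neg, map_div₀,
    symm_comm φ hφ]

/-- change of the field -/
def Rel.transport {G : Type*} [Group G] (R : Rel σ (tits σ) G) : Rel σL (tits σL) G where
  U := fun p => R.U (ptMap φ.symm p)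
  h := fun k => R.h (Units.map (φ.symm : L →* K) k)
  w := R.w
  U_mul := fun p q => by rw [ptMap_symm_mul φ hφ, R.U_mul]
  h_mul := fun a b => by rw [map_mul, R.h_mul]
  h_U := fun a p => by
    rw [R.h_U, ptMap_symm_dil φ hφ]
    rfl
  w_w := R.w_w
  w_h := fun a => by rw [R.w_h, map_inv]
  rel := fun p hp => by
    have hp' : ptMap φ.symm p ≠ 0 := by
      intro h
      apply hp
      rw [← ptMap_symm φ p, h]
      simp [ptMap]
    obtain ⟨a, q, h⟩ := R.rel _ hp'
    refine ⟨Units.map (φ : K →* L) a, ptMap φ q, ?_⟩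
    rw [h, ptMap_symm_tits φ hφ]
    have e1 : Units.map (φ.symm : L →* K) (Units.map (φ : K →* L) a) = a := by
      ext; simp
    have e2 : ptMap φ.symm (ptMap φ q) = q := by simp [ptMap]
    rw [e1, e2]
  gen := by
    have h1 : Set.range (fun p => R.U (ptMap φ.symm p)) = Set.range R.U := by
      ext g
      constructor
      · rintro ⟨p, rfl⟩; exact ⟨_, rfl⟩
      · rintro ⟨p, rfl⟩; exact ⟨ptMap φ p, by simp [ptMap]⟩
    have h2 : Set.range (fun k => R.h (Units.map (φ.symm : L →* K) k)) = Set.range R.h := by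
      ext g
      constructor
      · rintro ⟨p, rfl⟩; exact ⟨_, rfl⟩
      · rintro ⟨p, rfl⟩
        refine ⟨Units.map (φ : K →* L) p, ?_⟩
        show R.h _ = R.h _
        congr 1
        ext; simp
    rw [h1, h2]
    exact R.gen
  not_mem := fun p a => R.not_mem _ _
  faithful := fun g hg => R.faithful g fun x => by
    obtain ⟨p, a, h⟩ := hg x
    exact ⟨_, _, h⟩

end transport

/-- **Recognition of the small Ree groups**: a group with the relations `Rel σ (tits σ)` over a field with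
`3^(2m+1)` elements, `σ = (·)^(3^(m+1))`, is the small Ree group. -/
theorem isoRee {K : Type*} [Field K] [Fintype K] {m : ℕ} (hm : 1 ≤ m) (hK : Fintype.card K = 3 ^ (2 * m + 1))
    {σ : K →+* K} (hσ : ∀ x, σ x = x ^ 3 ^ (m + 1)) {G : Type*} [Group G] (R : Rel σ (tits σ) G) :
    Cfsg.Lie.IsoRee G := by
  have : Fact (Nat.Prime 3) := ⟨Nat.prime_three⟩
  have hne : 2 * m + 1 ≠ 0 := by omega
  let L := GaloisField 3 (2 * m + 1)
  letI : Fintype L := Fintype.ofFinite _
  have hL : Fintype.card L = 3 ^ (2 * m + 1) := by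
    rw [← Nat.card_eq_fintype_card]; exact GaloisField.card 3 _ hne
  have : CharP K 3 := charP_of_card_eq_prime_pow hK
  letI : Algebra (ZMod 3) K := ZMod.algebra K 3
  let φ : K ≃+* L := (GaloisField.algEquivGaloisField 3 (2 * m + 1) (K := K) (by
    rw [Nat.card_eq_fintype_card, hK])).toRingEquiv
  have : ExpChar L 3 := ExpChar.prime Nat.prime_three
  have hσL : ∀ x : L, iterateFrobenius L 3 (m + 1) x = x ^ 3 ^ (m + 1) := fun x => iterateFrobenius_def 3 (m + 1) x
  have hφ : ∀ x, φ (σ x) = iterateFrobenius L 3 (m + 1) (φ x) := by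
    intro x
    rw [hσL, hσ, map_pow]
  obtain ⟨e⟩ := Rel.equiv (Model.three hL) (R.transport φ hφ) (Model.modelRel hL hσL)
  exact ⟨L, inferInstance, inferInstance, m, hm, hL, ⟨e⟩⟩

end Cfsg.Agent.ReeUniq
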