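/-
The group `C = ⟨Y, H, w⟩` of a `Rel σ τ G`, its orbits on the points off `Y ∪ {∞}` and the size of
these orbits.
-/
import Cfsg.Agent.ReeUniq.Rules

set_option autoImplicit false

namespace Cfsg.Agent.ReeUniq

variable {K : Type*} [Field K]

/-- the points which are not fixed by `h (-1)` -/
def Off (p : K × K × K) : Prop := p.1 ≠ 0 ∨ p.2.2 ≠ 0

theorem Off.ne_zero {p : K × K × K} (h : Off p) : p ≠ 0 := by
  rintro rfl
  rcases h with h | h <;> exact h rfl

theorem two_ne (h3 : (3 : K) = 0) : (2 : K) ≠ 0 := by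
  intro h
  apply one_ne_zero (α := K)
  linear_combination h3 - h

theorem neg_one_ne (h3 : (3 : K) = 0) : (-1 : Kˣ) ≠ 1 := by
  intro h
  apply two_ne h3
  have h1 : (-1 : K) = 1 := by
    have := congrArg (fun u : Kˣ => (u : K)) h
    simpa using this
  linear_combination -h1

section Law

variable (σ : K →+* K)

theorem y_mul (b : K) (p : K × K × K) : mul σ (0, b, 0) p = (p.1, b + p.2.1, p.2.2 - b * p.1) := by
  obtain ⟨x, y, z⟩ := p
  simp only [mul, Prod.mk.injEq]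
  refine ⟨by ring, by ring, by ring⟩

theorem mul_y (b : K) (p : K × K × K) : mul σ p (0, b, 0) = (p.1, p.2.1 + b, p.2.2) := by
  obtain ⟨x, y, z⟩ := p
  simp only [mul, Prod.mk.injEq, map_zero]
  refine ⟨by ring, by ring, by ring⟩

theorem dil_neg (p : K × K × K) : dil σ (-1) p = (-p.1, p.2.1, -p.2.2) := by
  obtain ⟨x, y, z⟩ := p
  simp only [dil, map_neg, map_one, Prod.mk.injEq]
  refine ⟨by ring, by ring, by ring⟩

theorem inv_y (b : K) : inv σ (0, b, 0) = (0, -b, 0) := by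
  simp [inv]

theorem mul_left_cancel' (h3 : (3 : K) = 0) {p q r : K × K × K} (h : mul σ p q = mul σ p r) : q = r := by
  have : mul σ (inv σ p) (mul σ p q) = mul σ (inv σ p) (mul σ p r) := by rw [h]
  rwa [← mul_assoc' h3, ← mul_assoc' h3, inv_mul', zero_mul', zero_mul'] at this

theorem off_dil_neg (h3 : (3 : K) = 0) {p : K × K × K} : Off p ↔ dil σ (-1) p ≠ p := by
  rw [dil_neg]
  have key : ∀ x : K, -x = x → x = 0 := by
    intro x hx
    have : 2 * x = 0 := by linear_combination -hx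
    exact (mul_eq_zero.1 this).resolve_left (two_ne h3)
  constructor
  · rintro (h | h) e
    · exact h (key _ (congrArg Prod.fst e))
    · exact h (key _ (congrArg (fun r => r.2.2) e))
  · intro h
    by_contra hno
    unfold Off at hno
    push Not at hno
    apply h
    rw [hno.1, hno.2, neg_zero]
    exact Prod.ext hno.1.symm (Prod.ext rfl hno.2.symm)

theorem off_y {b : K} {p : K × K × K} (hp : Off p) : Off (mul σ (0, b, 0) p) := by
  rw [y_mul]
  by_cases h1 : p.1 = 0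
  · right
    show p.2.2 - b * p.1 ≠ 0
    rw [h1, mul_zero, sub_zero]
    exact hp.resolve_left (fun h => h h1)
  · exact Or.inl h1

theorem off_dil (a : Kˣ) {p : K × K × K} (hp : Off p) : Off (dil σ (a : K) p) := by
  rcases hp with h | h
  · exact Or.inl (mul_ne_zero a.ne_zero h)
  · right
    show (a : K) ^ 2 * σ a * p.2.2 ≠ 0
    exact mul_ne_zero (mul_ne_zero (pow_ne_zero 2 a.ne_zero) (fun h' => a.ne_zero ((map_eq_zero σ).1 h'))) h

end Law

namespace Rel

variable {σ : K →+* K} {τ : K × K × K → K × K × K} {G : Type*} [Group G] (R : Rel σ τ G)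
include R

theorem rep_U_some (h3 : (3 : K) = 0) (p q : K × K × K) : R.rep h3 (R.U p) (some q) = some (mul σ p q) :=
  R.rep_U h3 p (some q)

theorem rep_U_none (h3 : (3 : K) = 0) (p : K × K × K) : R.rep h3 (R.U p) none = none :=
  R.rep_U h3 p none

theorem rep_h_some (h3 : (3 : K) = 0) (a : Kˣ) (q : K × K × K) :
    R.rep h3 (R.h a) (some q) = some (dil σ (a : K) q) := R.rep_h h3 a (some q)

theorem rep_h_none (h3 : (3 : K) = 0) (a : Kˣ) : R.rep h3 (R.h a) none = none :=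
  R.rep_h h3 a none

theorem rep_w_none (h3 : (3 : K) = 0) : R.rep h3 R.w none = some 0 := by
  classical
  exact R.rep_w h3 none

theorem rep_w_zero (h3 : (3 : K) = 0) : R.rep h3 R.w (some 0) = none := by
  classical
  rw [R.rep_w h3 (some 0)]
  exact if_pos rfl

theorem rep_w_some (h3 : (3 : K) = 0) {p : K × K × K} (hp : p ≠ 0) : R.rep h3 R.w (some p) = some (τ p) := by
  classical
  rw [R.rep_w h3 (some p)]
  exact if_neg hp

theorem smul_pt (h3 : (3 : K) = 0) (g : G) (x : Option (K × K × K)) :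
    g • R.pt h3 x = R.pt h3 (R.rep h3 g x) := by
  have : R.rep h3 g x = (R.ptEquiv h3).symm (g • (R.ptEquiv h3 x)) := rfl
  rw [this]
  exact ((R.ptEquiv h3).apply_symm_apply _).symm

theorem fix_none (h3 : (3 : K) = 0) {g : G} (h : R.rep h3 g none = none) : ∃ p a, g = R.U p * R.h a := by
  have h1 := R.smul_pt h3 g none
  rw [h] at h1
  have h2 : (QuotientGroup.mk (g * 1) : G ⧸ R.B h3) = QuotientGroup.mk 1 := h1
  rw [mul_one] at h2
  have h4 := QuotientGroup.eq.1 h2.symm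
  rw [inv_one, one_mul] at h4
  exact h4

theorem fix_both (h3 : (3 : K) = 0) {g : G} (h : R.rep h3 g none = none) (h0 : R.rep h3 g (some 0) = some 0) :
    ∃ a, g = R.h a := by
  obtain ⟨p, a, rfl⟩ := R.fix_none h3 h
  refine ⟨a, ?_⟩
  rw [map_mul, Equiv.Perm.mul_apply, R.rep_h_some, dil_zero', R.rep_U_some, mul_zero'] at h0
  rw [Option.some_injective _ h0, R.U_zero, one_mul]

/-- the group `⟨Y, H, w⟩` -/
def C : Subgroup G := Subgroup.closure ({R.w} ∪ (Set.range R.h ∪ Set.range fun b : K => R.U (0, b, 0)))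

theorem w_mem_C : R.w ∈ R.C := Subgroup.subset_closure (Or.inl rfl)

theorem h_mem_C (a : Kˣ) : R.h a ∈ R.C := Subgroup.subset_closure (Or.inr (Or.inl ⟨a, rfl⟩))

theorem y_mem_C (b : K) : R.U (0, b, 0) ∈ R.C := Subgroup.subset_closure (Or.inr (Or.inr ⟨b, rfl⟩))

theorem h_comm (a b : Kˣ) : R.h a * R.h b = R.h b * R.h a := by rw [← R.h_mul, ← R.h_mul, mul_comm]

theorem C_comm {g : G} (hg : g ∈ R.C) : g * R.h (-1) = R.h (-1) * g := by
  induction hg using Subgroup.closure_induction with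
  | mem g hg =>
    rcases hg with hg | ⟨a, rfl⟩ | ⟨b, rfl⟩
    · rw [Set.mem_singleton_iff] at hg
      subst hg
      rw [R.w_h, inv_neg, inv_one]
    · exact R.h_comm _ _
    · show R.U (0, b, 0) * R.h (-1) = R.h (-1) * R.U (0, b, 0)
      rw [R.h_U, Units.val_neg, Units.val_one, dil_neg]
      simp only [neg_zero]
  | one => rw [one_mul, mul_one]
  | mul g g' _ _ ih ih' => rw [mul_assoc, ih', ← mul_assoc, ih, mul_assoc]
  | inv g _ ih => rw [inv_mul_eq_iff_eq_mul, ← mul_assoc, ih, mul_inv_cancel_right]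

/-- the orbit relation of `C` on the points -/
def Orb (h3 : (3 : K) = 0) (p0 p : K × K × K) : Prop := ∃ g ∈ R.C, R.rep h3 g (some p0) = some p

theorem orb_refl (h3 : (3 : K) = 0) (p : K × K × K) : R.Orb h3 p p :=
  ⟨1, R.C.one_mem, by rw [map_one]; rfl⟩

theorem orb_mul (h3 : (3 : K) = 0) {p0 p q : K × K × K} {g : G} (hg : g ∈ R.C) (h : R.Orb h3 p0 p)
    (hq : R.rep h3 g (some p) = some q) : R.Orb h3 p0 q := by
  obtain ⟨k, hk, h⟩ := h
  exact ⟨g * k, R.C.mul_mem hg hk, by rw [map_mul, Equiv.Perm.mul_apply, h, hq]⟩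

theorem orb_y (h3 : (3 : K) = 0) {p0 p : K × K × K} (b : K) (h : R.Orb h3 p0 p) :
    R.Orb h3 p0 (mul σ (0, b, 0) p) := R.orb_mul h3 (R.y_mem_C b) h (R.rep_U_some h3 _ _)

theorem orb_dil (h3 : (3 : K) = 0) {p0 p : K × K × K} (a : Kˣ) (h : R.Orb h3 p0 p) :
    R.Orb h3 p0 (dil σ (a : K) p) := R.orb_mul h3 (R.h_mem_C a) h (R.rep_h_some h3 _ _)

theorem orb_tau (h3 : (3 : K) = 0) {p0 p : K × K × K} (hp : p ≠ 0) (h : R.Orb h3 p0 p) :
    R.Orb h3 p0 (τ p) := R.orb_mul h3 R.w_mem_C h (R.rep_w_some h3 hp)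

theorem orb_symm (h3 : (3 : K) = 0) {p q : K × K × K} (h : R.Orb h3 p q) : R.Orb h3 q p := by
  obtain ⟨g, hg, h⟩ := h
  refine ⟨g⁻¹, R.C.inv_mem hg, ?_⟩
  rw [map_inv, ← h, Equiv.Perm.inv_def, Equiv.symm_apply_apply]

theorem orb_trans (h3 : (3 : K) = 0) {p q r : K × K × K} (h : R.Orb h3 p q) (h' : R.Orb h3 q r) :
    R.Orb h3 p r := by
  obtain ⟨g, hg, h'⟩ := h'
  exact R.orb_mul h3 hg h h'

/-- induction over an orbit -/
theorem orb_induct (h3 : (3 : K) = 0) (P : K × K × K → Prop) (hne : ∀ p, P p → p ≠ 0)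
    (hy : ∀ b p, P p → P (mul σ (0, b, 0) p)) (hd : ∀ (a : Kˣ) p, P p → P (dil σ (a : K) p))
    (ht : ∀ p, P p → P (τ p)) {p0 p : K × K × K} (h0 : P p0) (h : R.Orb h3 p0 p) : P p := by
  obtain ⟨g, hg, h⟩ := h
  have key : (∀ p, P p → ∃ q, P q ∧ R.rep h3 g (some p) = some q) ∧
      (∀ p, P p → ∃ q, P q ∧ R.rep h3 g⁻¹ (some p) = some q) := by
    clear h
    induction hg using Subgroup.closure_induction with
    | mem g hg =>
      rcases hg with hg | ⟨a, rfl⟩ | ⟨b, rfl⟩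
      · rw [Set.mem_singleton_iff] at hg
        subst hg
        rw [R.w_inv]
        exact ⟨fun p hp => ⟨_, ht p hp, R.rep_w_some h3 (hne p hp)⟩, fun p hp => ⟨_, ht p hp, R.rep_w_some h3 (hne p hp)⟩⟩
      · rw [R.h_inv]
        exact ⟨fun p hp => ⟨_, hd a p hp, R.rep_h_some h3 _ _⟩, fun p hp => ⟨_, hd a⁻¹ p hp, R.rep_h_some h3 _ _⟩⟩
      · simp only [R.U_inv h3, inv_y]
        exact ⟨fun p hp => ⟨_, hy b p hp, R.rep_U_some h3 _ _⟩, fun p hp => ⟨_, hy (-b) p hp, R.rep_U_some h3 _ _⟩⟩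
    | one =>
      rw [inv_one, map_one]
      exact ⟨fun p hp => ⟨p, hp, rfl⟩, fun p hp => ⟨p, hp, rfl⟩⟩
    | mul g g' _ _ ih ih' =>
      refine ⟨fun p hp => ?_, fun p hp => ?_⟩
      · obtain ⟨q, hq, e⟩ := ih'.1 p hp
        obtain ⟨r, hr, e'⟩ := ih.1 q hq
        exact ⟨r, hr, by rw [map_mul, Equiv.Perm.mul_apply, e, e']⟩
      · obtain ⟨q, hq, e⟩ := ih.2 p hp
        obtain ⟨r, hr, e'⟩ := ih'.2 q hq
        exact ⟨r, hr, by rw [mul_inv_rev, map_mul, Equiv.Perm.mul_apply, e, e']⟩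
    | inv g _ ih =>
      rw [inv_inv]
      exact ⟨ih.2, ih.1⟩
  obtain ⟨q, hq, e⟩ := key.1 p0 h0
  rw [h] at e
  rwa [Option.some_injective _ e]

theorem tau_inj (h3 : (3 : K) = 0) {p q : K × K × K} (hp : p ≠ 0) (hq : q ≠ 0) (h : τ p = τ q) : p = q := by
  rw [← (R.tau_rules h3 hp).1, ← (R.tau_rules h3 hq).1, h]

theorem tau_neg (h3 : (3 : K) = 0) {p : K × K × K} (hp : p ≠ 0) : τ (dil σ (-1) p) = dil σ (-1) (τ p) := by
  have h1 := (R.dil_rules h3 (-1) hp).1
  rwa [inv_neg, inv_one, Units.val_neg, Units.val_one] at h1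

theorem dil_neg_ne (h3 : (3 : K) = 0) {p : K × K × K} (hp : p ≠ 0) : dil σ (-1) p ≠ 0 := by
  have := dil_ne_zero' σ (-1 : Kˣ) hp
  rwa [Units.val_neg, Units.val_one] at this

theorem off_tau (h3 : (3 : K) = 0) {p : K × K × K} (hp : Off p) : Off (τ p) := by
  rw [off_dil_neg σ h3] at hp ⊢
  intro h
  apply hp
  have hp0 : p ≠ 0 := (off_dil_neg σ h3).2 hp |>.ne_zero
  apply R.tau_inj h3 (R.dil_neg_ne h3 hp0) hp0
  rw [R.tau_neg h3 hp0, h]

theorem orb_off (h3 : (3 : K) = 0) {p0 p : K × K × K} (h0 : Off p0) (h : R.Orb h3 p0 p) : Off p :=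
  R.orb_induct h3 Off (fun _ h => h.ne_zero) (fun _ _ h => off_y σ h) (fun a _ h => off_dil σ a h)
    (fun _ h => R.off_tau h3 h) h0 h

/-- the conjugating element of `stab` -/
def vv (τ : K × K × K → K × K × K) (R : Rel σ τ G) (p : K × K × K) : G :=
  R.U p * R.w * R.U (τ (mul σ (inv σ p) (dil σ (-1) p)))

theorem stab (h3 : (3 : K) = 0) {p : K × K × K} (hp : Off p) {g : G} (hg : g ∈ R.C)
    (hgp : R.rep h3 g (some p) = some p) : ∃ k : Kˣ, (k = 1 ∨ k = -1) ∧
      g = vv τ R p * R.h k * (vv τ R p)⁻¹ := by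
  set r := mul σ (inv σ p) (dil σ (-1) p) with hr
  have hr0 : r ≠ 0 := by
    intro h
    exact (off_dil_neg σ h3).1 hp (eq_of_inv_mul h3 h)
  set v := vv τ R p with hv
  have v1 : R.rep h3 v none = some p := by
    rw [hv, vv, map_mul, map_mul, Equiv.Perm.mul_apply, Equiv.Perm.mul_apply, R.rep_U_none, R.rep_w_none,
      R.rep_U_some, mul_zero']
  have v2 : R.rep h3 v (some 0) = some (dil σ (-1) p) := by
    rw [hv, vv, map_mul, map_mul, Equiv.Perm.mul_apply, Equiv.Perm.mul_apply, R.rep_U_some, mul_zero', ← hr,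
      R.rep_w_some h3 (R.tau_ne_zero h3 hr0), (R.tau_rules h3 hr0).1, R.rep_U_some, hr, ← mul_assoc' h3, mul_inv' h3,
      zero_mul']
  have v1' : R.rep h3 v⁻¹ (some p) = none := by
    rw [← v1, map_inv, Equiv.Perm.inv_def, Equiv.symm_apply_apply]
  have v2' : R.rep h3 v⁻¹ (some (dil σ (-1) p)) = some 0 := by
    rw [← v2, map_inv, Equiv.Perm.inv_def, Equiv.symm_apply_apply]
  have ht : ∀ q, R.rep h3 (R.h (-1)) (some q) = some (dil σ (-1) q) := by
    intro q
    rw [R.rep_h_some, Units.val_neg, Units.val_one]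
  have htt : dil σ (-1) (dil σ (-1) p) = p := by
    rw [dil_dil, neg_mul_neg, one_mul, one_dil]
  have hgt : R.rep h3 g (some (dil σ (-1) p)) = some (dil σ (-1) p) := by
    rw [← ht, ← Equiv.Perm.mul_apply, ← map_mul, R.C_comm hg, map_mul, Equiv.Perm.mul_apply, hgp]
  obtain ⟨k, hk⟩ := R.fix_both h3 (g := v⁻¹ * g * v)
    (by rw [map_mul, map_mul, Equiv.Perm.mul_apply, Equiv.Perm.mul_apply, v1, hgp, v1'])
    (by rw [map_mul, map_mul, Equiv.Perm.mul_apply, Equiv.Perm.mul_apply, v2, hgt, v2'])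
  obtain ⟨l, hl⟩ := R.fix_both h3 (g := R.w * (v⁻¹ * R.h (-1) * v))
    (by rw [map_mul, map_mul, map_mul, Equiv.Perm.mul_apply, Equiv.Perm.mul_apply, Equiv.Perm.mul_apply, v1, ht,
          v2', R.rep_w_zero])
    (by rw [map_mul, map_mul, map_mul, Equiv.Perm.mul_apply, Equiv.Perm.mul_apply, Equiv.Perm.mul_apply, v2, ht,
          htt, v1', R.rep_w_none])
  have hl' : v⁻¹ * R.h (-1) * v = R.w * R.h l := by
    rw [← hl, ← mul_assoc, R.w_w, one_mul]
  have hcomm : (v⁻¹ * g * v) * (v⁻¹ * R.h (-1) * v) = (v⁻¹ * R.h (-1) * v) * (v⁻¹ * g * v) := by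
    calc (v⁻¹ * g * v) * (v⁻¹ * R.h (-1) * v) = v⁻¹ * (g * R.h (-1)) * v := by group
      _ = v⁻¹ * (R.h (-1) * g) * v := by rw [R.C_comm hg]
      _ = _ := by group
  rw [hk, hl', ← mul_assoc, R.h_w, mul_assoc, mul_assoc, ← R.h_mul, ← R.h_mul] at hcomm
  have h1 : k⁻¹ * l = l * k := R.h_injective h3 (mul_left_cancel hcomm)
  have h2 : k * k = 1 := by
    rw [mul_comm l k] at h1
    have h4 : k⁻¹ = k := mul_right_cancel h1
    calc k * k = k⁻¹ * k := by rw [h4]
      _ = 1 := inv_mul_cancel k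
  refine ⟨k, ?_, ?_⟩
  · have h5 : (k : K) * k = 1 := by rw [← Units.val_mul, h2, Units.val_one]
    rcases mul_self_eq_one_iff.1 h5 with h6 | h6
    · exact Or.inl (Units.ext h6)
    · exact Or.inr (Units.ext (by rw [h6, Units.val_neg, Units.val_one]))
  · rw [← hk]; group

end Rel

end Cfsg.Agent.ReeUniq
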