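/-
**Uniqueness.** Two groups `Rel σ τ G`, `Rel σ τ' G'` which agree on `U₁` and at one further element
`u` whose triple is of type `(2,2,2)` agree everywhere.
-/
import Cfsg.Agent.ReeUniq.Orbit

set_option autoImplicit false

namespace Cfsg.Agent.ReeUniq

open Finset

variable {K : Type*} [Field K] {σ : K →+* K} {τ τ' : K × K × K → K × K × K}
variable {G G' : Type*} [Group G] [Group G']

namespace Rel

variable (R : Rel σ τ G)
include R

/-- coset representatives of `Y H` in `C` -/
def bb (x : Option K) : G := match x with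
  | none => 1
  | some β => R.U (0, β, 0) * R.w

/-- the elements of `C` -/
def param (z : K × Kˣ × Option K) : G := R.bb z.2.2 * (R.U (0, z.1, 0) * R.h z.2.1)

theorem bb_mem (x : Option K) : R.bb x ∈ R.C := by
  rcases x with _ | β
  · exact R.C.one_mem
  · exact R.C.mul_mem (R.y_mem_C β) R.w_mem_C

theorem param_mem (z : K × Kˣ × Option K) : R.param z ∈ R.C :=
  R.C.mul_mem (R.bb_mem _) (R.C.mul_mem (R.y_mem_C _) (R.h_mem_C _))

theorem param_injective (h3 : (3 : K) = 0) : Function.Injective R.param := by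
  rintro ⟨b, a, x⟩ ⟨b', a', x'⟩ h
  have key : ∀ (b : K) (a : Kˣ) (x : Option K), R.rep h3 (R.param (b, a, x)) none =
      x.map (fun β => ((0, β, 0) : K × K × K)) := by
    intro b a x
    unfold param
    rw [map_mul, Equiv.Perm.mul_apply, map_mul, Equiv.Perm.mul_apply, R.rep_h_none, R.rep_U_none]
    rcases x with _ | β
    · show R.rep h3 1 none = none
      rw [map_one]; rfl
    · show R.rep h3 (R.U (0, β, 0) * R.w) none = some (0, β, 0)
      rw [map_mul, Equiv.Perm.mul_apply, R.rep_w_none, R.rep_U_some, mul_zero']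
  have hx : x = x' := by
    have h1 := key b a x
    rw [h, key] at h1
    have hinj : Function.Injective (fun β : K => ((0, β, 0) : K × K × K)) := by
      intro β β' e
      exact congrArg (fun r => r.2.1) e
    exact (Option.map_injective hinj h1).symm
  subst hx
  have h1 : R.U (0, b, 0) * R.h a = R.U (0, b', 0) * R.h a' := mul_left_cancel h
  have h2 : R.rep h3 (R.U (0, b, 0) * R.h a) (some 0) = R.rep h3 (R.U (0, b', 0) * R.h a') (some 0) := by rw [h1]
  rw [map_mul, Equiv.Perm.mul_apply, R.rep_h_some, dil_zero', R.rep_U_some, mul_zero', map_mul,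
    Equiv.Perm.mul_apply, R.rep_h_some, dil_zero', R.rep_U_some, mul_zero'] at h2
  have hb : b = b' := congrArg (fun r => r.2.1) (Option.some_injective _ h2)
  subst hb
  have ha : a = a' := R.h_injective h3 (mul_left_cancel h1)
  rw [ha]

theorem rep_some (h3 : (3 : K) = 0) {g : G} (hg : g ∈ R.C) {p0 : K × K × K} (h0 : Off p0) :
    ∃ p, R.rep h3 g (some p0) = some p := by
  rcases h : R.rep h3 g (some p0) with _ | p
  · exfalso
    apply (off_dil_neg σ h3).1 h0
    have h1 : R.rep h3 g (some (dil σ (-1) p0)) = none := by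
      have e : R.rep h3 (R.h (-1)) (some p0) = some (dil σ (-1) p0) := by
        rw [R.rep_h_some, Units.val_neg, Units.val_one]
      rw [← e, ← Equiv.Perm.mul_apply, ← map_mul, R.C_comm hg, map_mul, Equiv.Perm.mul_apply, h, R.rep_h_none]
    exact Option.some_injective _ ((R.rep h3 g).injective (h1.trans h.symm))
  · exact ⟨p, rfl⟩

variable [Fintype K]

open Classical in
/-- the orbit as a `Finset` -/
noncomputable def orbF (h3 : (3 : K) = 0) (p0 : K × K × K) : Finset (K × K × K) :=
  univ.filter (R.Orb h3 p0)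

theorem mem_orbF {h3 : (3 : K) = 0} {p0 p : K × K × K} : p ∈ R.orbF h3 p0 ↔ R.Orb h3 p0 p := by
  simp [orbF]

theorem card_orb (h3 : (3 : K) = 0) {p0 : K × K × K} (h0 : Off p0) :
    Fintype.card K * (Nat.card Kˣ * (Fintype.card K + 1)) ≤ 2 * (R.orbF h3 p0).card := by
  classical
  rw [Nat.card_eq_fintype_card]
  let f : K × Kˣ × Option K → Option (K × K × K) := fun z => R.rep h3 (R.param z) (some p0)
  have h1 : (univ : Finset (K × Kˣ × Option K)).card ≤ 2 * (univ.image f).card := by
    apply Finset.card_le_mul_card_image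
    intro a ha
    obtain ⟨z0, _, hz0⟩ := Finset.mem_image.1 ha
    have hsub : (univ.filter (fun z => f z = a)).image R.param ⊆
        ({1, -1} : Finset Kˣ).image (fun k => R.param z0 * (vv τ R p0 * R.h k * (vv τ R p0)⁻¹)) := by
      intro g hg
      obtain ⟨z, hz, rfl⟩ := Finset.mem_image.1 hg
      have hz' : f z = a := (Finset.mem_filter.1 hz).2
      have hfix : R.rep h3 ((R.param z0)⁻¹ * R.param z) (some p0) = some p0 := by
        have e : R.rep h3 (R.param z) (some p0) = R.rep h3 (R.param z0) (some p0) := hz'.trans hz0.symm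
        rw [map_mul, Equiv.Perm.mul_apply, e, map_inv, Equiv.Perm.inv_def, Equiv.symm_apply_apply]
      obtain ⟨k, hk, e⟩ := R.stab h3 h0 (R.C.mul_mem (R.C.inv_mem (R.param_mem z0)) (R.param_mem z)) hfix
      refine Finset.mem_image.2 ⟨k, ?_, ?_⟩
      · rcases hk with rfl | rfl
        · exact Finset.mem_insert_self _ _
        · exact Finset.mem_insert_of_mem (Finset.mem_singleton_self _)
      · rw [← e, mul_inv_cancel_left]
    have h2 := Finset.card_le_card hsub
    rw [Finset.card_image_of_injective _ (R.param_injective h3)] at h2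
    exact h2.trans (Finset.card_image_le.trans Finset.card_le_two)
  have h2 : univ.image f ⊆ (R.orbF h3 p0).map Function.Embedding.some := by
    intro y hy
    obtain ⟨z, _, rfl⟩ := Finset.mem_image.1 hy
    obtain ⟨p, hp⟩ := R.rep_some h3 (R.param_mem z) h0
    rw [Finset.mem_map]
    exact ⟨p, R.mem_orbF.2 ⟨_, R.param_mem z, hp⟩, hp.symm⟩
  have h4 := Finset.card_le_card h2
  rw [Finset.card_map] at h4
  have h5 : (univ : Finset (K × Kˣ × Option K)).card = Fintype.card K * (Fintype.card Kˣ * (Fintype.card K + 1)) := by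
    rw [Finset.card_univ, Fintype.card_prod, Fintype.card_prod, Fintype.card_option]
  rw [h5] at h1
  exact h1.trans (Nat.mul_le_mul_left 2 h4)

open Classical in
/-- the classes of the points in the orbit of `(0,0,1)` -/
noncomputable def Pset (h3 : (3 : K) = 0) : Finset K := univ.filter (fun e => R.Orb h3 (0, 0, 1) (1, 0, e))

theorem mem_Pset {h3 : (3 : K) = 0} {e : K} : e ∈ R.Pset h3 ↔ R.Orb h3 (0, 0, 1) (1, 0, e) := by
  simp [Pset]

omit R [Fintype K] in
theorem std (x b c : K) (hx : x ≠ 0) : (x, b, c) =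
    mul σ (0, b, 0) (dil σ x (1, 0, (c + b * x) / (x ^ 2 * σ x))) := by
  have hs : σ x ≠ 0 := fun h => hx ((map_eq_zero σ).1 h)
  rw [y_mul]
  simp only [dil]
  refine Prod.ext (by show x = x * 1; ring) (Prod.ext (by show b = b + x * σ x * 0; ring) ?_)
  show c = x ^ 2 * σ x * ((c + b * x) / (x ^ 2 * σ x)) - b * (x * 1)
  field_simp
  ring

omit [Fintype K] in
theorem orb_std (h3 : (3 : K) = 0) {p0 : K × K × K} (x b c : K) (hx : x ≠ 0) :
    R.Orb h3 p0 (x, b, c) ↔ R.Orb h3 p0 (1, 0, (c + b * x) / (x ^ 2 * σ x)) := by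
  have e := std (σ := σ) x b c hx
  constructor
  · intro h
    rw [e] at h
    have h1 := R.orb_y h3 (-b) h
    rw [← mul_assoc' h3, show mul σ ((0, -b, 0) : K × K × K) (0, b, 0) = 0 by
      rw [← inv_y σ b, inv_mul'], zero_mul'] at h1
    have h2 := R.orb_dil h3 (Units.mk0 x hx)⁻¹ h1
    rw [dil_dil, Units.val_inv_eq_inv_val, Units.val_mk0, inv_mul_cancel₀ hx, one_dil] at h2
    exact h2
  · intro h
    rw [e]
    have h2 := R.orb_dil h3 (Units.mk0 x hx) h
    rw [Units.val_mk0] at h2
    exact R.orb_y h3 b h2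

theorem card_P (h3 : (3 : K) = 0) : Fintype.card K + 1 ≤ 2 * ((R.Pset h3).card + 1) := by
  classical
  have hoff : Off ((0, 0, 1) : K × K × K) := Or.inr one_ne_zero
  have h1 := R.card_orb h3 hoff
  rw [Nat.card_eq_fintype_card] at h1
  let F : Kˣ × K × Option K → K × K × K := fun z => match z.2.2 with
    | none => (0, z.2.1, z.1)
    | some e => mul σ (0, z.2.1, 0) (dil σ (z.1 : K) (1, 0, e))
  have h2 : R.orbF h3 (0, 0, 1) ⊆
      ((univ : Finset Kˣ) ×ˢ ((univ : Finset K) ×ˢ (Finset.insertNone (R.Pset h3)))).image F := by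
    rintro ⟨x, b, c⟩ hp
    rw [R.mem_orbF] at hp
    by_cases hx : x = 0
    · have hc : c ≠ 0 := (R.orb_off h3 hoff hp).resolve_left (fun h => h hx)
      refine Finset.mem_image.2 ⟨(Units.mk0 c hc, b, none), ?_, ?_⟩
      · simp
      · show ((0, b, ((Units.mk0 c hc : Kˣ) : K)) : K × K × K) = (x, b, c)
        rw [hx, Units.val_mk0]
    · refine Finset.mem_image.2 ⟨(Units.mk0 x hx, b, some ((c + b * x) / (x ^ 2 * σ x))), ?_, ?_⟩
      · rw [Finset.mem_product, Finset.mem_product]
        refine ⟨Finset.mem_univ _, Finset.mem_univ _, ?_⟩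
        rw [Finset.some_mem_insertNone, R.mem_Pset]
        exact (R.orb_std h3 x b c hx).1 hp
      · show mul σ (0, b, 0) (dil σ ((Units.mk0 x hx : Kˣ) : K) (1, 0, _)) = (x, b, c)
        rw [Units.val_mk0]
        exact (std x b c hx).symm
  have h4 := (Finset.card_le_card h2).trans Finset.card_image_le
  rw [Finset.card_product, Finset.card_product, Finset.card_insertNone, Finset.card_univ, Finset.card_univ] at h4
  have hK : 0 < Fintype.card K := Fintype.card_pos
  have hU : 0 < Fintype.card Kˣ := Fintype.card_pos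
  have h5 : (Fintype.card K * Fintype.card Kˣ) * (Fintype.card K + 1) ≤
      (Fintype.card K * Fintype.card Kˣ) * (2 * ((R.Pset h3).card + 1)) := by
    calc (Fintype.card K * Fintype.card Kˣ) * (Fintype.card K + 1)
        = Fintype.card K * (Fintype.card Kˣ * (Fintype.card K + 1)) := by ring
      _ ≤ 2 * (R.orbF h3 (0, 0, 1)).card := h1
      _ ≤ 2 * (Fintype.card Kˣ * (Fintype.card K * ((R.Pset h3).card + 1))) := Nat.mul_le_mul_left 2 h4
      _ = _ := by ring
  exact Nat.le_of_mul_le_mul_left h5 (Nat.mul_pos hK hU)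

theorem card_mul_y (h3 : (3 : K) = 0) {p : K × K × K} (hp : p.1 ≠ 0) (S : Finset K)
    (hS : ∀ β, R.Orb h3 (0, 0, 1) (mul σ p (0, β, 0)) → β ∈ S) : (R.Pset h3).card ≤ S.card := by
  obtain ⟨x, b, c⟩ := p
  have hx : x ≠ 0 := hp
  have hs : σ x ≠ 0 := fun h => hx ((map_eq_zero σ).1 h)
  apply Finset.card_le_card_of_injOn (fun e => (x ^ 2 * σ x * e - c) / x - b)
  · intro e he
    rw [Finset.mem_coe, R.mem_Pset] at he
    apply hS
    rw [mul_y]
    rw [R.orb_std h3 _ _ _ hx]
    have : (c + (b + ((x ^ 2 * σ x * e - c) / x - b)) * x) / (x ^ 2 * σ x) = e := by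
      field_simp
      ring
    show R.Orb h3 (0, 0, 1) (1, 0, (c + (b + ((x ^ 2 * σ x * e - c) / x - b)) * x) / (x ^ 2 * σ x))
    rw [this]
    exact he
  · intro e _ e' _ h
    have h1 : (x ^ 2 * σ x * e - c) / x - b = (x ^ 2 * σ x * e' - c) / x - b := h
    have h2 : (x ^ 2 * σ x * e - c) / x = (x ^ 2 * σ x * e' - c) / x := by linear_combination h1
    rw [div_left_inj' hx] at h2
    have h4 : x ^ 2 * σ x * e = x ^ 2 * σ x * e' := by linear_combination h2
    exact mul_left_cancel₀ (mul_ne_zero (pow_ne_zero 2 hx) hs) h4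

end Rel

/-! ### The agreement set -/

namespace Agree

variable {R : Rel σ τ G} {R' : Rel σ τ' G'} {p q : K × K × K}

/-- triangle rule, third form -/
theorem third (h3 : (3 : K) = 0) (hp : Agree R R' p) (hpq : Agree R R' (ReeUniq.mul σ p q)) (hq : q ≠ 0)
    (hk : Agree R R' (ReeUniq.mul σ (R.gam p) (τ q))) : Agree R R' q := by
  have e : ReeUniq.mul σ (ReeUniq.inv σ p) (ReeUniq.mul σ p q) = q := by
    rw [← mul_assoc' h3, inv_mul', zero_mul']
  have h1 := Agree.mul h3 (Agree.inv h3 hp) hpq (by rw [e]; exact hq)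
  rw [e] at h1
  apply h1
  have h2 := R.mul_rules h3 hp.1 hq hpq.1 hk.1
  rw [(R.inv_rules h3 hp.1).2.2, h2.1, ← mul_assoc' h3, inv_mul', zero_mul']
  exact Agree.dil h3 _ (Agree.tau h3 hk)

end Agree

section Main

variable (R : Rel σ τ G) (R' : Rel σ τ' G') (h3 : (3 : K) = 0)
  (hY : ∀ b : K, b ≠ 0 → τ (0, b, 0) = (0, -b⁻¹, 0))
  (hU : ∀ b c : K, ((0, b, c) : K × K × K) ≠ 0 → Agree R R' (0, b, c))

include h3 hY in
theorem gam_y {b : K} (hb : b ≠ 0) : R.gam (0, -b, 0) = (0, b⁻¹, 0) := by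
  have hne : ((0, -b, 0) : K × K × K) ≠ 0 := by
    intro h
    exact hb (neg_eq_zero.1 (congrArg (fun r => r.2.1) h))
  rw [R.gam_eq h3 hne, inv_y, neg_neg, hY b hb, inv_y, neg_neg]

include h3 hY hU in
theorem tri1 {b : K} (hb : b ≠ 0) {p : K × K × K} (hoff : Off p) (hp : Agree R R' p)
    (hbp : Agree R R' (mul σ (0, -b, 0) p)) : Agree R R' (mul σ (0, b⁻¹, 0) (τ p)) := by
  have hne : ((0, -b, 0) : K × K × K) ≠ 0 := by
    intro h
    exact hb (neg_eq_zero.1 (congrArg (fun r => r.2.1) h))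
  have h1 := Agree.mid h3 (hU (-b) 0 hne) hp hbp
  rw [gam_y R h3 hY hb] at h1
  exact h1 (off_y σ (R.off_tau h3 hoff)).ne_zero

include h3 hY hU in
theorem tri2 {b : K} (hb : b ≠ 0) {p : K × K × K} (hoff : Off p)
    (hbp : Agree R R' (mul σ (0, -b, 0) p)) (hk : Agree R R' (mul σ (0, b⁻¹, 0) (τ p))) : Agree R R' p := by
  have hne : ((0, -b, 0) : K × K × K) ≠ 0 := by
    intro h
    exact hb (neg_eq_zero.1 (congrArg (fun r => r.2.1) h))
  apply Agree.third h3 (hU (-b) 0 hne) hbp hoff.ne_zero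
  rw [gam_y R h3 hY hb]
  exact hk

/-- all `Y`-translates of `p` are in the agreement set -/
def Good (p : K × K × K) : Prop := Off p ∧ ∀ c : K, Agree R R' (mul σ (0, -c, 0) p)

theorem Good.agree {p : K × K × K} (h : Good R R' p) : Agree R R' p := by
  have h1 := h.2 0
  rw [neg_zero, show ((0, 0, 0) : K × K × K) = 0 from rfl, zero_mul'] at h1
  exact h1

include h3 in
theorem Good.y {p : K × K × K} (b : K) (h : Good R R' p) : Good R R' (mul σ (0, b, 0) p) := by
  refine ⟨off_y σ h.1, fun c => ?_⟩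
  rw [← mul_assoc' h3, mul_y]
  have h1 := h.2 (c - b)
  rw [neg_sub] at h1
  show Agree R R' (mul σ (0, -c + b, 0) p)
  rwa [neg_add_eq_sub]

include h3 in
theorem Good.dil {p : K × K × K} (a : Kˣ) (h : Good R R' p) : Good R R' (dil σ (a : K) p) := by
  refine ⟨off_dil σ a h.1, fun c => ?_⟩
  have ha : (a : K) ≠ 0 := a.ne_zero
  have hs : σ (a : K) ≠ 0 := fun h => ha ((map_eq_zero σ).1 h)
  have h1 := Agree.dil h3 a (h.2 (c / (a * σ a)))
  rw [dil_mul] at h1
  have e : ReeUniq.dil σ (a : K) ((0, -(c / (a * σ a)), 0) : K × K × K) = (0, -c, 0) := by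
    simp only [ReeUniq.dil, mul_zero, Prod.mk.injEq, true_and, and_true]
    field_simp
  rwa [e] at h1

include h3 hY hU in
theorem Good.tau {p : K × K × K} (h : Good R R' p) : Good R R' (τ p) := by
  refine ⟨R.off_tau h3 h.1, fun c => ?_⟩
  by_cases hc : c = 0
  · rw [hc, neg_zero, show ((0, 0, 0) : K × K × K) = 0 from rfl, zero_mul']
    exact Agree.tau h3 (Good.agree R R' h)
  · have h1 := tri1 R R' h3 hY hU (b := -c⁻¹) (neg_ne_zero.2 (inv_ne_zero hc)) h.1 (Good.agree R R' h)
      (h.2 (-c⁻¹))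
    rwa [inv_neg, inv_inv] at h1

include h3 hY hU in
theorem good_orb {p0 p : K × K × K} (h0 : Good R R' p0) (h : R.Orb h3 p0 p) :
    Good R R' p ∧ R'.Orb h3 p0 p := by
  apply R.orb_induct h3 (fun p => Good R R' p ∧ R'.Orb h3 p0 p) (fun _ h => h.1.1.ne_zero)
    (fun b p h => ⟨Good.y R R' h3 b h.1, R'.orb_y h3 b h.2⟩)
    (fun a p h => ⟨Good.dil R R' h3 a h.1, R'.orb_dil h3 a h.2⟩)
    (fun p h => ⟨Good.tau R R' h3 hY hU h.1, ?_⟩) ⟨h0, R'.orb_refl h3 p0⟩ h
  rw [(Good.agree R R' h.1).2.1]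
  exact R'.orb_tau h3 h.1.1.ne_zero h.2

include hU in
theorem good_z : Good R R' (0, 0, 1) := by
  refine ⟨Or.inr one_ne_zero, fun c => ?_⟩
  rw [y_mul]
  have e : (((0 : K), -c + (0 : K), (1 : K) - -c * 0) : K × K × K) = (0, -c, 1) := by
    rw [add_zero, mul_zero, sub_zero]
  show Agree R R' ((0 : K), -c + (0 : K), (1 : K) - -c * 0)
  rw [e]
  apply hU
  intro h
  exact one_ne_zero (congrArg (fun r : K × K × K => r.2.2) h)

variable [Fintype K]

open Classical in
/-- the translates of `p` in the agreement set -/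
noncomputable def Ep (p : K × K × K) : Finset K := univ.filter (fun β => Agree R R' (mul σ (0, -β, 0) p))

omit h3 in
theorem mem_Ep {p : K × K × K} {β : K} : β ∈ Ep R R' p ↔ Agree R R' (mul σ (0, -β, 0) p) := by
  simp [Ep]

omit [Fintype K] in
include h3 hY hU in
theorem agree_of_inv {p : K × K × K} {β : K} (h : R.Orb h3 (0, 0, 1) (mul σ (inv σ p) (0, β, 0))) :
    Agree R R' (mul σ (0, -β, 0) p) := by
  have h1 := Agree.inv h3 (Good.agree R R' (good_orb R R' h3 hY hU (good_z R R' hU) h).1)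
  rwa [inv_mul_rev σ h3, inv_y, inv_inv' σ h3] at h1

include h3 hY hU in
theorem card_Ep {p : K × K × K} (hp : Off p) : Fintype.card K ≤ 2 * (Ep R R' p).card + 1 := by
  by_cases h : p.1 = 0
  · have hc : p.2.2 ≠ 0 := hp.resolve_left (fun h' => h' h)
    have : Ep R R' p = univ := by
      apply Finset.eq_univ_of_forall
      intro β
      rw [mem_Ep, y_mul, h, mul_zero, sub_zero]
      exact hU _ _ (fun e => hc (congrArg (fun r : K × K × K => r.2.2) e))
    rw [this, Finset.card_univ]
    omega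
  · have h1 := R.card_mul_y h3 (p := inv σ p) (by simpa [inv] using h) (Ep R R' p)
      (fun β hβ => (mem_Ep R R').2 (agree_of_inv R R' h3 hY hU hβ))
    have h2 := R.card_P h3
    omega

include h3 hY hU in
theorem good_u {u : K × K × K} (hu1 : u.1 ≠ 0) (hu : Agree R R' u)
    (hno : ¬ R.Orb h3 (0, 0, 1) (inv σ u)) : Good R R' u := by
  classical
  have hoff : Off u := Or.inl hu1
  refine ⟨hoff, ?_⟩
  by_contra hcon
  push Not at hcon
  obtain ⟨c, hc⟩ := hcon
  -- the class of `∞`
  have hE : Fintype.card K + 1 ≤ 2 * (Ep R R' u).card := by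
    have h1 := R.card_mul_y h3 (p := inv σ u) (by simpa [inv] using hu1) ((Ep R R' u).erase 0)
      (fun β hβ => by
        rw [Finset.mem_erase]
        refine ⟨?_, (mem_Ep R R').2 (agree_of_inv R R' h3 hY hU hβ)⟩
        rintro rfl
        apply hno
        rw [show ((0, 0, 0) : K × K × K) = 0 from rfl, mul_zero'] at hβ
        exact hβ)
    have h2 := R.card_P h3
    have h0 : (0 : K) ∈ Ep R R' u := by
      rw [mem_Ep, neg_zero, show ((0, 0, 0) : K × K × K) = 0 from rfl, zero_mul']
      exact hu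
    have h4 := Finset.card_erase_add_one h0
    omega
  set p1 := mul σ (0, -c, 0) u with hp1
  have hoff1 : Off p1 := off_y σ hoff
  have hoff2 : Off (τ p1) := R.off_tau h3 hoff1
  have hnot : ¬ Agree R R' (τ p1) := by
    intro h
    apply hc
    have h1 := Agree.tau h3 h
    rwa [(R.tau_rules h3 hoff1.ne_zero).1] at h1
  have hE' := card_Ep R R' h3 hY hU hoff2
  have h0' : ∀ e ∈ Ep R R' (τ p1), e ≠ 0 := by
    rintro e he rfl
    apply hnot
    rw [mem_Ep, neg_zero, show ((0, 0, 0) : K × K × K) = 0 from rfl, zero_mul'] at he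
    exact he
  -- the class of `c`
  have hinj : Function.Injective (fun e : K => c - e⁻¹) := by
    intro e e' h
    have h1 : c - e⁻¹ = c - e'⁻¹ := h
    have h2 : e⁻¹ = e'⁻¹ := by linear_combination -h1
    exact inv_injective h2
  have hdis : Disjoint (Ep R R' u) ((Ep R R' (τ p1)).image (fun e => c - e⁻¹)) := by
    rw [Finset.disjoint_left]
    intro d hd hd'
    obtain ⟨e, he, hde⟩ := Finset.mem_image.1 hd'
    have he0 := h0' e he
    rw [mem_Ep] at he hd
    apply hc
    apply tri2 R R' h3 hY hU (b := -e⁻¹) (neg_ne_zero.2 (inv_ne_zero he0)) hoff1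
    · rw [hp1, ← mul_assoc' h3, mul_y]
      have e1 : (((0 : K), -(-e⁻¹) + -c, (0 : K)) : K × K × K) = (0, -d, 0) := by
        rw [← hde]
        refine Prod.ext rfl (Prod.ext ?_ rfl)
        show -(-e⁻¹) + -c = -(c - e⁻¹)
        ring
      show Agree R R' (mul σ (0, -(-e⁻¹) + -c, 0) u)
      rw [e1]
      exact hd
    · rw [inv_neg, inv_inv]
      exact he
  have hsub : Ep R R' u ∪ (Ep R R' (τ p1)).image (fun e => c - e⁻¹) ⊆ univ.erase c := by
    intro d hd
    rw [Finset.mem_erase]
    refine ⟨?_, Finset.mem_univ _⟩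
    rintro rfl
    rcases Finset.mem_union.1 hd with h | h
    · exact hc ((mem_Ep R R').1 h)
    · obtain ⟨e, he, hde⟩ := Finset.mem_image.1 h
      have h1 : e⁻¹ = 0 := by linear_combination -hde
      exact h0' e he (inv_eq_zero.1 h1)
  have h1 := Finset.card_le_card hsub
  rw [Finset.card_union_of_disjoint hdis, Finset.card_image_of_injective _ hinj,
    Finset.card_erase_of_mem (Finset.mem_univ _), Finset.card_univ] at h1
  have hK : 0 < Fintype.card K := Fintype.card_pos
  omega

include h3 hY hU in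
/-- **Uniqueness theorem**: two groups which agree on `U₁` and at one element `u` of type `(2,2,2)`
agree everywhere. -/
theorem agree_all {u : K × K × K} (hu1 : u.1 ≠ 0) (hu : Agree R R' u)
    (hno : ¬ R'.Orb h3 (0, 0, 1) u) (hno' : ¬ R'.Orb h3 (0, 0, 1) (inv σ u)) :
    ∀ p, p ≠ 0 → Agree R R' p := by
  classical
  have hz := good_z R R' hU
  have hgu := good_u R R' h3 hY hU hu1 hu (fun h => hno' (good_orb R R' h3 hY hU hz h).2)
  intro p hp
  by_contra hcon
  have c1 := R.card_orb h3 (p0 := (0, 0, 1)) (Or.inr one_ne_zero)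
  have c2 := R.card_orb h3 (p0 := u) (Or.inl hu1)
  have d12 : Disjoint (R.orbF h3 (0, 0, 1)) (R.orbF h3 u) := by
    rw [Finset.disjoint_left]
    intro q h1 h2
    rw [R.mem_orbF] at h1 h2
    exact hno (good_orb R R' h3 hY hU hz (R.orb_trans h3 h1 (R.orb_symm h3 h2))).2
  let Ys : Finset (K × K × K) := univ.image (fun b : K => ((0, b, 0) : K × K × K))
  have cY : Ys.card = Fintype.card K := by
    rw [Finset.card_image_of_injective, Finset.card_univ]
    intro b b' h
    exact congrArg (fun r : K × K × K => r.2.1) h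
  have dY : Disjoint (R.orbF h3 (0, 0, 1) ∪ R.orbF h3 u) Ys := by
    rw [Finset.disjoint_left]
    intro q h1 h2
    have hq : Off q := by
      rcases Finset.mem_union.1 h1 with h | h
      · exact R.orb_off h3 (Or.inr one_ne_zero) (R.mem_orbF.1 h)
      · exact R.orb_off h3 (Or.inl hu1) (R.mem_orbF.1 h)
    obtain ⟨b, _, rfl⟩ := Finset.mem_image.1 h2
    rcases hq with h | h <;> exact h rfl
  have hpn : p ∉ (R.orbF h3 (0, 0, 1) ∪ R.orbF h3 u) ∪ Ys := by
    intro h
    rcases Finset.mem_union.1 h with h | h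
    · rcases Finset.mem_union.1 h with h | h
      · exact hcon (Good.agree R R' (good_orb R R' h3 hY hU hz (R.mem_orbF.1 h)).1)
      · exact hcon (Good.agree R R' (good_orb R R' h3 hY hU hgu (R.mem_orbF.1 h)).1)
    · obtain ⟨b, _, rfl⟩ := Finset.mem_image.1 h
      exact hcon (hU b 0 hp)
  have hlt : ((R.orbF h3 (0, 0, 1) ∪ R.orbF h3 u) ∪ Ys).card < Fintype.card (K × K × K) := by
    rw [← Finset.card_univ]
    exact Finset.card_lt_card ((Finset.ssubset_univ_iff).2 (fun h => hpn (h ▸ Finset.mem_univ p)))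
  rw [Finset.card_union_of_disjoint dY, Finset.card_union_of_disjoint d12, cY, Fintype.card_prod,
    Fintype.card_prod] at hlt
  have hKU : Fintype.card K = Nat.card Kˣ + 1 := by
    rw [Nat.card_eq_fintype_card]
    exact Fintype.card_eq_card_units_add_one K
  rw [hKU] at hlt c1 c2
  nlinarith [hlt, c1, c2]

end Main

end Cfsg.Agent.ReeUniq
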