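/-
The last step of the recognition of the small Ree groups: a group `Rel σ τ G` with `σ = (·)^(3^(m+1))`,
`|K| = 3^(2m+1)`, which agrees with Tits' formula on `U₁ = {(0,b,c)}` and at the element `(1,1,0)` is the
small Ree group.
-/
import Cfsg.Agent.ReeUniq.Unique
import Cfsg.Agent.ReeUniq.Model

set_option autoImplicit false
set_option linter.unusedSectionVars false

namespace Cfsg.Agent.ReeUniq

open Cfsg.Lie

/-! ### An invariant of the orbits of `C` -/

namespace Rel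

variable {K : Type*} [Field K] {σ : K →+* K} {τ : K × K × K → K × K × K} {G : Type*} [Group G] (R : Rel σ τ G)
include R

/-- the invariant -/
def Ty (p : K × K × K) : Prop := IsSquare (R.kap (mul σ (inv σ p) (dil σ (-1) p)) : K)

theorem aux_ne (h3 : (3 : K) = 0) {p : K × K × K} (hp : Off p) : mul σ (inv σ p) (dil σ (-1) p) ≠ 0 := fun h =>
  (off_dil_neg σ h3).1 hp (eq_of_inv_mul h3 h)

theorem ty_y (h3 : (3 : K) = 0) (b : K) {p : K × K × K} (h : R.Ty p) : R.Ty (mul σ (0, b, 0) p) := by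
  unfold Ty at h ⊢
  have e : mul σ (inv σ (mul σ (0, b, 0) p)) (dil σ (-1) (mul σ (0, b, 0) p)) =
      mul σ (inv σ p) (dil σ (-1) p) := by
    rw [inv_mul_rev σ h3, dil_mul, mul_assoc' h3, ← mul_assoc' h3 σ (inv σ (0, b, 0))]
    have e1 : mul σ (inv σ (0, b, 0)) (dil σ (-1) (0, b, 0)) = 0 := by
      rw [dil_neg]
      simp only [neg_zero]
      exact inv_mul' σ _
    rw [e1, zero_mul']
  rw [e]; exact h

theorem isSquare_mul_mul {a b : K} (ha : a ≠ 0) : IsSquare (a * b * a) ↔ IsSquare b := by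
  constructor
  · rintro ⟨c, hc⟩
    refine ⟨c / a, ?_⟩
    rw [div_mul_div_comm, ← hc]
    field_simp
  · rintro ⟨c, rfl⟩
    exact ⟨a * c, by ring⟩

theorem ty_dil (h3 : (3 : K) = 0) (a : Kˣ) {p : K × K × K} (hp : Off p) (h : R.Ty p) :
    R.Ty (dil σ (a : K) p) := by
  unfold Ty at h ⊢
  have e : mul σ (inv σ (dil σ (a : K) p)) (dil σ (-1) (dil σ (a : K) p)) =
      dil σ (a : K) (mul σ (inv σ p) (dil σ (-1) p)) := by
    rw [← dil_inv, dil_dil, mul_comm (-1 : K), ← dil_dil, ← dil_mul]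
  rw [e, (R.dil_rules h3 a (R.aux_ne h3 hp)).2.1, Units.val_mul, Units.val_mul,
    R.isSquare_mul_mul a.ne_zero]
  exact h

theorem ty_tau (h3 : (3 : K) = 0) {p : K × K × K} (hp : Off p) (h : R.Ty p) : R.Ty (τ p) := by
  unfold Ty at h ⊢
  have hp0 := hp.ne_zero
  have hi := inv_ne_zero' σ h3 hp0
  have hd := R.dil_neg_ne h3 hp0
  have hne : mul σ (R.gam (inv σ p)) (τ (dil σ (-1) p)) ≠ 0 := by
    rw [(R.inv_rules h3 hp0).2.2, R.tau_neg h3 hp0]
    exact R.aux_ne h3 (R.off_tau h3 hp)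
  have h1 := (R.mul_rules h3 hi hd (R.aux_ne h3 hp) hne).2.1
  have h2 : R.kap (dil σ (-1) p) = R.kap p := by
    have := (R.dil_rules h3 (-1) hp0).2.1
    rw [Units.val_neg, Units.val_one] at this
    rw [this, neg_one_mul, mul_neg_one, neg_neg]
  rw [h1, (R.inv_rules h3 hp0).2.2, R.tau_neg h3 hp0, (R.inv_rules h3 hp0).2.1, h2, Units.val_mul, Units.val_mul,
    R.isSquare_mul_mul (R.kap p).ne_zero] at h
  exact h

theorem ty_orb (h3 : (3 : K) = 0) {p0 p : K × K × K} (h0 : Off p0) (h : R.Ty p0) (ho : R.Orb h3 p0 p) :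
    R.Ty p :=
  (R.orb_induct h3 (fun p => Off p ∧ R.Ty p) (fun _ h => h.1.ne_zero)
    (fun b _ h => ⟨off_y σ h.1, R.ty_y h3 b h.2⟩) (fun a _ h => ⟨off_dil σ a h.1, R.ty_dil h3 a h.1 h.2⟩)
    (fun _ h => ⟨R.off_tau h3 h.1, R.ty_tau h3 h.1 h.2⟩) ⟨h0, h⟩ ho).2

end Rel

section Final

variable {K : Type*} [Field K] [Fintype K] {m : ℕ} (hK : Fintype.card K = 3 ^ (2 * m + 1))
variable {σ : K →+* K} (hσ : ∀ x, σ x = x ^ 3 ^ (m + 1))

include hK hσ

theorem kap_model {p : K × K × K} (hp : p ≠ 0) :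
    ((Model.modelRel hK hσ).kap p : K) ^ 2 * σ ((Model.modelRel hK hσ).kap p) = -r6 σ p := by
  obtain ⟨a, q, h, e⟩ := Model.rel hK hσ p hp
  have h1 := (Model.modelRel hK hσ).eq_of_rel (Model.three hK) hp (p' := tits σ p) (q' := q) (a' := a) h
  rw [h1.2.1]
  exact e

/-- `k ↦ k² σ(k)` is injective -/
theorem norm_inj {a b : Kˣ} (h : (a : K) ^ 2 * σ a = (b : K) ^ 2 * σ b) : a = b := by
  have ha := a.ne_zero
  have hb := b.ne_zero
  have hsa : σ (a : K) ≠ 0 := fun h => ha ((map_eq_zero σ).1 h)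
  have hsb : σ (b : K) ≠ 0 := fun h => hb ((map_eq_zero σ).1 h)
  have h1 : σ ((a : K) ^ 2 * σ a) = σ ((b : K) ^ 2 * σ b) := by rw [h]
  rw [map_mul, map_mul, map_pow, map_pow, Model.sigma_sigma hK hσ, Model.sigma_sigma hK hσ] at h1
  -- `(a²σa)² = a⁴ (σa)²`
  have h2 : ((a : K) ^ 2 * σ a) ^ 2 = ((b : K) ^ 2 * σ b) ^ 2 := by rw [h]
  have h4 : (a : K) * (σ (a : K) ^ 2 * (a : K) ^ 3) = (b : K) * (σ (b : K) ^ 2 * (b : K) ^ 3) := by
    linear_combination h2
  rw [← h1] at h4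
  have h5 : σ (a : K) ^ 2 * (a : K) ^ 3 ≠ 0 := mul_ne_zero (pow_ne_zero _ hsa) (pow_ne_zero _ ha)
  exact Units.ext (mul_right_cancel₀ h5 h4)

omit hσ in
theorem neg_one_nonsquare : ¬ IsSquare (-1 : K) := by
  have hchar : ringChar K ≠ 2 := by
    intro h
    have h2 : (2 : K) = 0 := by
      have := ringChar.Nat.cast_ringChar (R := K)
      rw [h] at this
      exact_mod_cast this
    exact two_ne (Model.three hK) h2
  rw [FiniteField.isSquare_neg_one_iff, hK, not_not]
  have : ∀ n : ℕ, 3 ^ (2 * n + 1) % 4 = 3 := by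
    intro n
    induction n with
    | zero => rfl
    | succ n ih =>
      rw [show 2 * (n + 1) + 1 = (2 * n + 1) + 2 by ring, pow_add, Nat.mul_mod, ih]
      norm_num
  exact this m

theorem isSquare_kap {p : K × K × K} (hp : p ≠ 0) :
    IsSquare ((Model.modelRel hK hσ).kap p : K) ↔ IsSquare (-r6 σ p) := by
  rw [← kap_model hK hσ hp]
  generalize (Model.modelRel hK hσ).kap p = k
  constructor
  · rintro ⟨c, hc⟩
    exact ⟨(k : K) * σ c, by rw [hc, map_mul]; ring⟩
  · rintro ⟨c, hc⟩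
    have hk := k.ne_zero
    have hsk : σ (k : K) ≠ 0 := fun h => hk ((map_eq_zero σ).1 h)
    -- `σ k = (c/k)²`, so `k³ = σσk = σ(c/k)²`
    have h1 : σ (k : K) = (c / k) ^ 2 := by
      field_simp
      linear_combination hc
    have h2 : (k : K) ^ 3 = σ (c / k) ^ 2 := by
      rw [← Model.sigma_sigma hK hσ, h1, map_pow]
    refine ⟨σ (c / k) / k, ?_⟩
    rw [div_mul_div_comm, ← pow_two, ← h2]
    field_simp

theorem no_orb : ¬ (Model.modelRel hK hσ).Orb (Model.three hK) (0, 0, 1) (1, 1, 0) ∧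
    ¬ (Model.modelRel hK hσ).Orb (Model.three hK) (0, 0, 1) (inv σ (1, 1, 0)) := by
  have h3 := Model.three hK
  have hz : (Model.modelRel hK hσ).Ty (0, 0, 1) := by
    unfold Rel.Ty
    rw [isSquare_kap hK hσ ((Model.modelRel hK hσ).aux_ne h3 (Or.inr one_ne_zero))]
    refine ⟨1, ?_⟩
    simp only [r6, mul, inv, dil, map_neg, map_one, map_zero, mul_zero, neg_zero, zero_mul, add_zero, zero_add,
      sub_zero, mul_one, one_mul, zero_sub, zero_pow (two_ne_zero), zero_pow (three_ne_zero)]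
    linear_combination h3
  constructor
  · intro h
    have h1 := (Model.modelRel hK hσ).ty_orb h3 (Or.inr one_ne_zero) hz h
    unfold Rel.Ty at h1
    rw [isSquare_kap hK hσ ((Model.modelRel hK hσ).aux_ne h3 (Or.inl one_ne_zero))] at h1
    apply neg_one_nonsquare hK
    convert h1 using 1
    simp only [r6, mul, inv, dil, map_neg, map_one, map_zero, map_mul, map_add, map_sub, map_pow]
    ring_nf
    linear_combination (33 : K) * h3
  · intro h
    have h1 := (Model.modelRel hK hσ).ty_orb h3 (Or.inr one_ne_zero) hz h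
    unfold Rel.Ty at h1
    rw [isSquare_kap hK hσ ((Model.modelRel hK hσ).aux_ne h3 (Or.inl (by simp [inv])))] at h1
    apply neg_one_nonsquare hK
    convert h1 using 1
    simp only [r6, mul, inv, dil, map_neg, map_one, map_zero, map_mul, map_add, map_sub, map_pow]
    ring_nf
    linear_combination (17 : K) * h3

/-- the model value of the torus part determines it -/
theorem kap_eq {τ : K × K × K → K × K × K} {G : Type*} [Group G] (R : Rel σ τ G) {p : K × K × K} (hp : p ≠ 0)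
    (h : (R.kap p : K) ^ 2 * σ (R.kap p) = -r6 σ p) : R.kap p = (Model.modelRel hK hσ).kap p :=
  norm_inj hK hσ (h.trans (kap_model hK hσ hp).symm)

omit [Fintype K] hK hσ in
theorem tits_y {b : K} (hb : b ≠ 0) : tits σ ((0, b, 0) : K × K × K) = (0, -b⁻¹, 0) := by
  have hs : σ b ≠ 0 := fun h => hb ((map_eq_zero σ).1 h)
  have e6 : r6 σ ((0, b, 0) : K × K × K) = -(b * σ b) := by simp [r6]
  have e5 : r5 σ ((0, b, 0) : K × K × K) = 0 := by simp [r5]
  have e4 : r4 σ ((0, b, 0) : K × K × K) = σ b := by simp [r4]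
  have e3 : r3 ((0, b, 0) : K × K × K) = 0 := by simp [r3]
  have t1 : tau1 σ ((0, b, 0) : K × K × K) = 0 := by rw [tau1, e5, zero_div, neg_zero]
  have t2 : tau2 σ ((0, b, 0) : K × K × K) = -b⁻¹ := by
    rw [tau2, t1, e4, e6, map_zero, mul_zero, sub_zero, div_neg]
    congr 1
    field_simp
  unfold tits
  rw [t1, t2, e3, zero_div, zero_mul, sub_zero]

omit [Fintype K] hK hσ in
theorem gam_u (h3 : (3 : K) = 0) {τ : K × K × K → K × K × K} {G : Type*} [Group G] (R : Rel σ τ G)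
    (h : τ (1, 1, 0) = (-1, 1, 0)) : R.gam (1, 1, 0) = (-1, 1, 0) := by
  have hne : ((1, 1, 0) : K × K × K) ≠ 0 := fun h => one_ne_zero (congrArg Prod.fst h)
  have ei : inv σ ((1, 1, 0) : K × K × K) = (-1, 1, 0) := by
    simp only [inv, map_one, Prod.mk.injEq]
    refine ⟨trivial, by linear_combination -h3, by ring_nf⟩
  have ed : dil σ (-1) ((1, 1, 0) : K × K × K) = (-1, 1, 0) := by
    rw [dil_neg]; simp
  rw [R.gam_eq h3 hne, ei, ← ed, R.tau_neg h3 hne, h, ← ed, dil_dil, neg_mul_neg, one_mul, one_dil, ei, ed]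

/-- **Recognition of the small Ree groups, II**: it suffices to know `τ` and the torus part on
`U₁ = {(0,b,c)}` and at `(1,1,0)`. -/
theorem isoRee' (hm : 1 ≤ m) {τ : K × K × K → K × K × K} {G : Type*} [Group G] (R : Rel σ τ G)
    (hU : ∀ b c : K, ((0, b, c) : K × K × K) ≠ 0 → τ (0, b, c) = tits σ (0, b, c) ∧
      (R.kap (0, b, c) : K) ^ 2 * σ (R.kap (0, b, c)) = -r6 σ (0, b, c))
    (hu : τ (1, 1, 0) = (-1, 1, 0) ∧ R.kap (1, 1, 0) = 1) : Cfsg.Lie.IsoRee G := by
  have h3 := Model.three hK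
  have hU1 : ∀ b c : K, ((0, b, c) : K × K × K) ≠ 0 → Agree R (Model.modelRel hK hσ) (0, b, c) := by
    intro b c hne
    refine ⟨hne, (hU b c hne).1, kap_eq hK hσ R hne (hU b c hne).2, ?_⟩
    rw [R.gam_eq h3 hne, (Model.modelRel hK hσ).gam_eq h3 hne]
    have e : inv σ ((0, b, c) : K × K × K) = (0, -b, -c) := by
      simp [inv]
    have hne' : ((0, -b, -c) : K × K × K) ≠ 0 := by rw [← e]; exact inv_ne_zero' σ h3 hne
    rw [e, (hU _ _ hne').1]
  have hne : ((1, 1, 0) : K × K × K) ≠ 0 := fun h => one_ne_zero (congrArg Prod.fst h)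
  have h2 : (1 : K) + 1 = -1 := by linear_combination h3
  have et : tits σ ((1, 1, 0) : K × K × K) = (-1, 1, 0) := by
    have e6 : r6 σ ((1, 1, 0) : K × K × K) = -1 := by simp [r6]
    have e5 : r5 σ ((1, 1, 0) : K × K × K) = -1 := by simp [r5]
    have e4 : r4 σ ((1, 1, 0) : K × K × K) = 1 := by simp [r4]
    have e3 : r3 ((1, 1, 0) : K × K × K) = 1 := by simp [r3]
    have t1 : tau1 σ ((1, 1, 0) : K × K × K) = -1 := by rw [tau1, e5, e6, div_self (neg_ne_zero.2 one_ne_zero)]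
    have t2 : tau2 σ ((1, 1, 0) : K × K × K) = 1 := by
      rw [tau2, t1, e4, e6, map_neg, map_one, div_neg, div_one]
      linear_combination -h3
    unfold tits
    rw [t1, t2, e3, e6, div_neg, div_one]
    refine Prod.ext rfl (Prod.ext rfl ?_)
    show (-1 : K) * 1 - -1 = 0
    ring
  have hu1 : Agree R (Model.modelRel hK hσ) (1, 1, 0) := by
    refine ⟨hne, hu.1.trans et.symm, ?_, (gam_u h3 R hu.1).trans (gam_u h3 (Model.modelRel hK hσ) et).symm⟩
    apply kap_eq hK hσ R hne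
    rw [hu.2]
    simp [r6]
  have hY : ∀ b : K, b ≠ 0 → τ (0, b, 0) = (0, -b⁻¹, 0) := by
    intro b hb
    have hne : ((0, b, 0) : K × K × K) ≠ 0 := fun h => hb (congrArg (fun r : K × K × K => r.2.1) h)
    rw [(hU b 0 hne).1, tits_y hb]
  have key := agree_all R (Model.modelRel hK hσ) h3 hY hU1 one_ne_zero hu1 (no_orb hK hσ).1 (no_orb hK hσ).2
  have R' : Rel σ (tits σ) G :=
    { U := R.U, h := R.h, w := R.w, U_mul := R.U_mul, h_mul := R.h_mul, h_U := R.h_U, w_w := R.w_w, w_h := R.w_h,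
      rel := fun p hp => by
        rw [← (key p hp).2.1]
        exact R.rel p hp
      gen := R.gen, not_mem := R.not_mem, faithful := R.faithful }
  exact isoRee hm hK hσ R'

end Final

end Cfsg.Agent.ReeUniq
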