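/-
The last constant: if `σ² = 3` then the constant `d` of `Start` is `1`.
-/
import Cfsg.Agent.ReeUniq.ModelStart
import Cfsg.Agent.ReeUniq.CStarField

set_option autoImplicit false
set_option linter.unusedSectionVars false

namespace Cfsg.Agent.ReeUniq.CStar

open Cfsg.Agent.ReeUniq

section Same

variable {K : Type*} [Field K] {σ : K →+* K} {M : K → K}
  {τ : K × K × K → K × K × K} {G : Type*} [Group G] {R : Rel σ τ G} {d : K} (S : Start σ τ R M d)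
  {τ' : K × K × K → K × K × K} {G' : Type*} [Group G'] {R' : Rel σ τ' G'} {d' : K} (S' : Start σ τ' R' M d')
  (h3 : (3 : K) = 0) (hM : IsM σ M) (hsq : ∀ x : K, x ^ 2 ≠ -1)

include S S' h3 hM hsq

/-- the first coordinate does not depend on `d` -/
theorem al_same (b : K) : al τ b = al τ' b := by
  apply mul_right_cancel₀ (hM.den_ne_zero h3 hsq b)
  rw [S.al_eq h3 hM, S'.al_eq h3 hM]

/-- the second coordinate does not depend on `d` -/
theorem be_same (b : K) : be σ τ b = be σ τ' b := by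
  apply mul_right_cancel₀ (IsM.den2_ne_zero hsq b)
  rw [S.be_eq h3 hM, S'.be_eq h3 hM, al_same S S' h3 hM hsq]

/-- the third coordinate depends on `d` in a simple way -/
theorem ga_diff (b : K) :
    (ga σ τ b - ga σ τ' b) * (M (b - 1) * M (b + 1) * (b ^ 2 - 1) ^ 2 - M b * b ^ 2) =
      (d - d') * (M b * b ^ 2 - M (b + 1) * (b + 1) ^ 2) := by
  have h1 := S.ga_eq h3 hM b
  have h2 := S'.ga_eq h3 hM b
  rw [← al_same S S' h3 hM hsq, ← be_same S S' h3 hM hsq] at h2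
  linear_combination h1 - h2

end Same

variable {K : Type*} [Field K] [Fintype K] {m : ℕ} (hK : Fintype.card K = 3 ^ (2 * m + 1))
variable {σ : K →+* K} (hσ : ∀ x, σ x = x ^ 3 ^ (m + 1)) (hm : 1 ≤ m)

include hK hσ hm

/-- **`d = 1`.** -/
theorem d_eq_one {τ : K × K × K → K × K × K} {G : Type*} [Group G] {R : Rel σ τ G} {M : K → K} {d : K}
    (S : Start σ τ R M d) (hM : IsM σ M) : d = 1 := by
  have h3 := Model.three hK
  have hn : Odd (2 * m + 1) := ⟨m, rfl⟩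
  have hc : Nat.card K = 3 ^ (2 * m + 1) := by rw [Nat.card_eq_fintype_card, hK]
  have hsq : ∀ x : K, x ^ 2 ≠ -1 := FieldM.sq_ne hn hc
  have hMeq := ModelStart.M_eq hK hσ hM
  have S' := ModelStart.start hK hσ
  rw [← hMeq] at S'
  obtain ⟨u, hu0, hu1, hu2, hR⟩ := CStarField.exists_R hm hK h3
  rw [← hσ] at hR
  set w := σ u with hw
  have hw0 : w ≠ 0 := by rwa [hw, Ne, map_eq_zero]
  have hu' : u + 1 ≠ 0 := fun h => hu2 (eq_neg_of_add_eq_zero_left h)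
  have hw' : w + 1 ≠ 0 := by
    rw [hw, ← map_one σ, ← map_add, Ne, map_eq_zero]
    exact hu'
  have hww : σ w = u ^ 3 := Model.sigma_sigma hK hσ u
  have hu3 : u ^ 3 + 1 = (u + 1) ^ 3 := by linear_combination -(u ^ 2 + u) * h3
  -- the point of the curve
  set x := u ^ 2 / w with hx
  set z := (u + 1) ^ 2 / (w + 1) * (-1) with hz
  have hσx : σ x = w ^ 2 / u ^ 3 := by rw [hx, map_div₀, map_pow, ← hw, hww]
  have hσz : σ z = (w + 1) ^ 2 / (u + 1) ^ 3 * (-1) := by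
    rw [hz, map_mul, map_div₀, map_pow, map_add, map_add, map_one, map_neg, map_one, ← hw, hww, hu3]
  have hx0 : x ≠ 0 := div_ne_zero (pow_ne_zero _ hu0) hw0
  have hz0 : z ≠ 0 := mul_ne_zero (div_ne_zero (pow_ne_zero _ hu') hw') (neg_ne_zero.2 one_ne_zero)
  have hX : x ^ 2 * σ x = u := by rw [hσx, hx]; field_simp
  have hZ : z ^ 2 * σ z = -(u + 1) := by rw [hσz, hz]; field_simp
  have hA : x * σ x = w / u := by rw [hσx, hx]; field_simp
  have hC : z * σ z = (w + 1) / (u + 1) := by rw [hσz, hz]; field_simp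
  have hcurve : x ^ 2 * σ x + 1 ^ 2 * σ 1 + z ^ 2 * σ z = 0 := by rw [hX, hZ, map_one]; ring
  set b := (u - w) * (u + 1) / (u * (w + 1)) with hb
  have hbc : b * (z * σ z) = 1 * σ 1 - x * σ x := by
    rw [hC, hA, map_one, hb]; field_simp
  have hσb : σ b = (w - u ^ 3) * (w + 1) / (w * (u + 1) ^ 3) := by
    rw [hb, map_div₀, map_mul, map_mul, map_sub, map_add, map_add, map_one, ← hw, hww, hu3]
  -- the two equations (III)
  have e1 := S.eqIII h3 hx0 one_ne_zero hz0 hcurve hbc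
  have e2 := S'.eqIII h3 hx0 one_ne_zero hz0 hcurve hbc
  rw [← al_same S S' h3 hM hsq, ← be_same S S' h3 hM hsq] at e2
  rw [hX, hZ, map_one] at e1 e2
  have e3 : u * (ga σ τ b - ga σ (tits σ) b) + (ga σ τ (-b) - ga σ (tits σ) (-b)) = -(u + 1) * (d - 1) := by
    linear_combination e1 - e2
  have g1 := ga_diff S S' h3 hM hsq b
  have g2 := ga_diff S S' h3 hM hsq (-b)
  -- `M t * t ^ 2 = σ t * t`
  have hMt : ∀ t : K, M t * t ^ 2 = σ t * t := by
    intro t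
    rw [hMeq]
    rcases eq_or_ne t 0 with rfl | ht
    · simp
    · show σ t / t * t ^ 2 = σ t * t
      field_simp
  have m0 := hMt b
  have m1 := hMt (b + 1)
  have m2 := hMt (b - 1)
  obtain ⟨n1, n2, n3⟩ := Start.M_neg hM b
  rw [n1, n2, n3] at g2
  rw [map_add, map_one] at m1
  rw [map_sub, map_one] at m2
  set c := σ b with hcdef
  set D := (c - 1) * (b - 1) * ((c + 1) * (b + 1)) - c * b with hD
  have hDeq : M (b - 1) * M (b + 1) * (b ^ 2 - 1) ^ 2 - M b * b ^ 2 = D := by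
    rw [hD, ← m1, ← m2, ← m0]; ring
  have g1' : (ga σ τ b - ga σ (tits σ) b) * D = (d - 1) * (c * b - (c + 1) * (b + 1)) := by
    rw [← hDeq, g1, m0, m1]
  have g2' : (ga σ τ (-b) - ga σ (tits σ) (-b)) * D = (d - 1) * (c * b - (c - 1) * (b - 1)) := by
    rw [← m0, ← m2, ← hDeq]
    linear_combination g2
  have key : (d - 1) * ((u + 1) * ((c ^ 2 - 1) * (b ^ 2 - 1) - c * b - 1) - (u - 1) * (b + c)) = 0 := by
    have hD' : D = (c ^ 2 - 1) * (b ^ 2 - 1) - c * b := by rw [hD]; ring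
    linear_combination D * e3 - u * g1' - g2' - (u + 1) * (d - 1) * hD'
  have hne : (u + 1) * ((c ^ 2 - 1) * (b ^ 2 - 1) - c * b - 1) - (u - 1) * (b + c) ≠ 0 := by
    intro h
    apply hR
    have e : CStarField.R u w = -(u ^ 2 * w ^ 2 * (w + 1) ^ 2 * (u + 1) ^ 6 *
        ((u + 1) * ((c ^ 2 - 1) * (b ^ 2 - 1) - c * b - 1) - (u - 1) * (b + c))) := by
      rw [hσb, hb, CStarField.R]
      field_simp
      linear_combination (u * w ^ 3 + 2 * u * w ^ 4 + u * w ^ 5 - u ^ 2 * w ^ 2 + 2 * u ^ 2 * w ^ 3 + 7 * u ^ 2 * w ^ 4 + 4 * u ^ 2 * w ^ 5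
        - 4 * u ^ 3 * w ^ 2 - 2 * u ^ 3 * w ^ 3 + 8 * u ^ 3 * w ^ 4 + 6 * u ^ 3 * w ^ 5 - 7 * u ^ 4 * w ^ 2
        - 10 * u ^ 4 * w ^ 3 + u ^ 4 * w ^ 4 + 4 * u ^ 4 * w ^ 5 + u ^ 5 * w - 6 * u ^ 5 * w ^ 2 - 14 * u ^ 5 * w ^ 3
        - 6 * u ^ 5 * w ^ 4 + u ^ 5 * w ^ 5 + 4 * u ^ 6 * w + u ^ 6 * w ^ 2 - 10 * u ^ 6 * w ^ 3 - 7 * u ^ 6 * w ^ 4
        + 6 * u ^ 7 * w + 8 * u ^ 7 * w ^ 2 - 2 * u ^ 7 * w ^ 3 - 4 * u ^ 7 * w ^ 4 + 4 * u ^ 8 * w + 7 * u ^ 8 * w ^ 2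
        + 2 * u ^ 8 * w ^ 3 - u ^ 8 * w ^ 4 + u ^ 9 * w + 2 * u ^ 9 * w ^ 2 + u ^ 9 * w ^ 3) * h3
    rw [e, h]; ring
  exact sub_eq_zero.1 ((mul_eq_zero.1 key).resolve_right hne)

end Cfsg.Agent.ReeUniq.CStar
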