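import Cfsg.Agent.ReeUniq.Swap
import Cfsg.Agent.ReeUniq.Rules
import Cfsg.Agent.ReeUniq.Funct

/-!
# S1149, part B: the starting relations

`Link.partB` : from the permutation set-up and the coordinates one gets, after replacing `w` by some `w * h k`, the action
of `w` on the root group `(0, *, 0)` and on the element `(0, 1, -1)`, that is the structure `Start`.
-/

set_option autoImplicit false
set_option linter.unusedSectionVars false

namespace Cfsg.Agent.ReeUniq

open MulAction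

namespace Rel

variable {K : Type*} [Field K] {σ : K →+* K} {τ : K × K × K → K × K × K} {G : Type*} [Group G] (R : Rel σ τ G)

theorem U_injective (h3 : (3 : K) = 0) : Function.Injective R.U := by
  intro p q h
  have h1 : R.U (mul σ (inv σ p) q) = 1 := by rw [R.U_mul, ← R.U_inv h3, h, inv_mul_cancel]
  by_contra hne
  have h2 : mul σ (inv σ p) q ≠ 0 := fun h => hne (eq_of_inv_mul h3 h).symm
  apply R.wUw_not_mem h3 h2
  rw [h1, mul_one, R.w_w]
  exact (R.B h3).one_mem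

/-- the same group with `w` replaced by `w * h k` -/
def twist (k : Kˣ) : Rel σ (fun p => τ (dil σ (k : K) p)) G where
  U := R.U
  h := R.h
  w := R.w * R.h k
  U_mul := R.U_mul
  h_mul := R.h_mul
  h_U := R.h_U
  w_w := by
    calc R.w * R.h k * (R.w * R.h k) = R.w * (R.h k * R.w) * R.h k := by group
      _ = R.w * R.w * (R.h k⁻¹ * R.h k) := by rw [R.h_w]; group
      _ = 1 := by rw [R.w_w, ← R.h_mul, inv_mul_cancel, R.h_one, one_mul]
  w_h a := by
    rw [mul_assoc, ← R.h_mul, mul_comm k a, R.h_mul, ← mul_assoc, R.w_h, mul_assoc]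
  rel p hp := by
    obtain ⟨c, q, h⟩ := R.rel (dil σ k p) (dil_ne_zero' σ k hp)
    refine ⟨k⁻¹ * c, q, ?_⟩
    calc R.w * R.h k * R.U p * (R.w * R.h k) = R.w * (R.h k * R.U p) * R.w * R.h k := by group
      _ = R.w * R.U (dil σ k p) * (R.h k * R.w) * R.h k := by rw [R.h_U]; group
      _ = R.w * R.U (dil σ k p) * R.w * (R.h k⁻¹ * R.h k) := by rw [R.h_w]; group
      _ = R.U (τ (dil σ k p)) * R.w * R.h c * R.U q := by
          rw [← R.h_mul, inv_mul_cancel, R.h_one, mul_one, h]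
      _ = R.U (τ (dil σ k p)) * (R.w * R.h k) * (R.h k⁻¹ * R.h c) * R.U q := by
          rw [← R.h_inv]; group
      _ = _ := by rw [R.h_mul k⁻¹ c]
  gen := by
    rw [eq_top_iff, ← R.gen, Subgroup.closure_le]
    rintro g ((hg | hg) | hg)
    · exact Subgroup.subset_closure (Or.inl (Or.inl hg))
    · exact Subgroup.subset_closure (Or.inl (Or.inr hg))
    · rw [Set.mem_singleton_iff] at hg
      subst hg
      have h1 : R.w * R.h k ∈ Subgroup.closure (Set.range R.U ∪ Set.range R.h ∪ {R.w * R.h k}) :=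
        Subgroup.subset_closure (Or.inr rfl)
      have h2 : R.h k ∈ Subgroup.closure (Set.range R.U ∪ Set.range R.h ∪ {R.w * R.h k}) :=
        Subgroup.subset_closure (Or.inl (Or.inr ⟨k, rfl⟩))
      have h4 := Subgroup.mul_mem _ h1 (Subgroup.inv_mem _ h2)
      rwa [mul_inv_cancel_right] at h4
  not_mem p c h := by
    apply R.not_mem p (c * k⁻¹)
    rw [R.h_mul, ← mul_assoc, h, mul_assoc, ← R.h_mul, mul_inv_cancel, R.h_one, mul_one]
  faithful := R.faithful

end Rel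

/-- The link between the permutation set-up and the coordinates. -/
structure Link {G Ω : Type*} [Group G] [MulAction G Ω] (U : Ω → Subgroup G) (n : ℕ) {K : Type*} [Field K]
    {σ : K →+* K} {τ : K × K × K → K × K × K} (R : Rel σ τ G) (a b : Ω) : Prop where
  setup : Setup G Ω U n
  h3 : (3 : K) = 0
  ne : a ≠ b
  memU : ∀ g, g ∈ U a ↔ ∃ p, R.U p = g
  memH : ∀ g, g ∈ HH G a b ↔ ∃ k, R.h k = g
  w_a : R.w • a = b

namespace Link

variable {G Ω : Type*} [Group G] [Finite G] [MulAction G Ω] {U : Ω → Subgroup G} {n : ℕ} {K : Type*} [Field K] [Finite K]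
variable {σ : K →+* K} {τ : K × K × K → K × K × K} {R : Rel σ τ G} {a b : Ω} (L : Link U n R a b)
include L

/-! ### Basic facts -/

theorem two : (2 : K) = -1 := by
  have := L.h3
  linear_combination this

theorem eq_neg {x : K} (h : x = -x) : x = 0 := by
  have := L.h3
  linear_combination x * this - h

theorem w_b : R.w • b = a := by
  rw [← L.w_a, ← mul_smul, R.w_w, one_smul]

theorem U_a (p : K × K × K) : R.U p • a = a := L.setup.fix a _ ((L.memU _).2 ⟨p, rfl⟩)

theorem h_a (k : Kˣ) : R.h k • a = a := (mem_HH.1 ((L.memH _).2 ⟨k, rfl⟩)).1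

theorem h_b (k : Kˣ) : R.h k • b = b := (mem_HH.1 ((L.memH _).2 ⟨k, rfl⟩)).2

theorem h_pt (k : Kˣ) (p : K × K × K) : R.h k • R.U p • b = R.U (dil σ (k : K) p) • b := by
  rw [← mul_smul, R.h_U, mul_smul, L.h_b]

theorem w_pt {p : K × K × K} (hp : p ≠ 0) : R.w • R.U p • b = R.U (τ p) • b := by
  have h := congrArg (fun g : G => g • a) (R.rel' hp)
  simp only [mul_smul, L.U_a, L.h_a, L.w_a] at h
  exact h

theorem U_inj {p q : K × K × K} (h : R.U p • b = R.U q • b) : p = q :=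
  R.U_injective L.h3 (L.setup.eq_of_U L.ne.symm ((L.memU _).2 ⟨p, rfl⟩) ((L.memU _).2 ⟨q, rfl⟩) h)

theorem U_ne (p : K × K × K) : R.U p • b ≠ a := L.setup.ne_of_U L.ne.symm ((L.memU _).2 ⟨p, rfl⟩)

theorem h_neg_one_mul_self : R.h (-1) * R.h (-1) = 1 := by
  rw [← R.h_mul, neg_mul_neg, one_mul, R.h_one]

theorem neg_one_ne : (-1 : Kˣ) ≠ 1 := by
  intro h
  have h1 := congrArg (fun u : Kˣ => (u : K)) h
  simp only [Units.val_neg, Units.val_one] at h1
  have := L.eq_neg h1.symm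
  exact one_ne_zero this

theorem h_neg_one_ne : R.h (-1) ≠ 1 := by
  intro h
  apply L.neg_one_ne
  apply R.h_injective L.h3
  rw [h, R.h_one]

theorem jj_eq : jj G a b = R.h (-1) :=
  (L.setup.eq_jj L.ne ((L.memH _).2 ⟨-1, rfl⟩) L.h_neg_one_ne L.h_neg_one_mul_self).symm

theorem w_ne_h (k : Kˣ) : R.w ≠ R.h k := by
  intro h
  apply L.ne
  rw [← L.w_a, h, L.h_a]

omit L [Finite G] [Finite K] [MulAction G Ω] in
theorem dil_neg_one (x y z : K) : dil σ ((-1 : Kˣ) : K) (x, y, z) = (-x, y, -z) := by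
  simp only [dil, Units.val_neg, Units.val_one, map_neg, map_one, Prod.mk.injEq]
  refine ⟨by ring, by ring, by ring⟩

omit L in
theorem w_J : R.w * R.h (-1) = R.h (-1) * R.w := by
  rw [R.w_h, inv_neg_one]

omit L in
theorem Y_J (s : K) : R.U (0, s, 0) * R.h (-1) = R.h (-1) * R.U (0, s, 0) := by
  rw [R.h_U, dil_neg_one, neg_zero]

omit L in
theorem h_J (k : Kˣ) : R.h k * R.h (-1) = R.h (-1) * R.h k := by
  rw [← R.h_mul, ← R.h_mul, mul_comm]

/-- involutions commuting with `h (-1)` have no fixed point among the fixed points of `h (-1)` -/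
theorem no_fix {v : G} (hv : v * v = 1) (hva : v • a ≠ a) (hc : v * R.h (-1) = R.h (-1) * v) {x : Ω}
    (hx : v • x = x) (hJ : R.h (-1) • x = x) : False := by
  refine L.setup.no_common_fixed hv ?_ L.h_neg_one_mul_self L.h_neg_one_ne ?_ hc hx hJ
  · rintro rfl
    exact hva (one_smul _ _)
  · rintro rfl
    exact hva (L.h_a _)

/-! ### Norms -/

theorem norm3 {k : Kˣ} (h : (k : K) ^ 2 * σ k = 1) : k = 1 := by
  by_contra hk
  have h1 : R.h k * R.U (0, 0, 1) = R.U (0, 0, 1) * R.h k := by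
    rw [R.h_U]
    congr 2
    simp only [dil, Prod.mk.injEq]
    refine ⟨by ring, by ring, ?_⟩
    rw [h, mul_one]
  have hne : ((0, 0, 1) : K × K × K) ≠ 0 := Start.ne_zero_of_last one_ne_zero
  have hJ : R.h k ≠ jj G a b := by
    rw [L.jj_eq]
    intro e
    have e' := R.h_injective L.h3 e
    rw [e'] at h
    simp only [Units.val_neg, Units.val_one, map_neg, map_one] at h
    have : (1 : K) = -1 := by linear_combination -h
    exact one_ne_zero (L.eq_neg this)
  have hk1 : R.h k ≠ 1 := by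
    intro e
    apply hk
    apply R.h_injective L.h3
    rw [e, R.h_one]
  have h2 := L.setup.fpf' L.ne ((L.memH _).2 ⟨k, rfl⟩) hk1 hJ ((L.memU _).2 ⟨(0, 0, 1), rfl⟩) h1
  apply hne
  apply R.U_injective L.h3
  rw [h2, R.U_zero]

theorem norm2 {k : Kˣ} (h : (k : K) * σ k = 1) : k = 1 ∨ k = -1 := by
  by_contra hk
  push Not at hk
  have h1 : R.h k * R.U (0, 1, 0) = R.U (0, 1, 0) * R.h k := by
    rw [R.h_U]
    congr 2
    simp only [dil, Prod.mk.injEq]
    refine ⟨by ring, ?_, by ring⟩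
    rw [h, mul_one]
  have hne : ((0, 1, 0) : K × K × K) ≠ 0 := by
    intro h
    exact one_ne_zero (congrArg (fun p : K × K × K => p.2.1) h)
  have hJ : R.h k ≠ jj G a b := by
    rw [L.jj_eq]
    intro e
    exact hk.2 (R.h_injective L.h3 e)
  have hk1 : R.h k ≠ 1 := by
    intro e
    apply hk.1
    apply R.h_injective L.h3
    rw [e, R.h_one]
  have h2 := L.setup.fpf' L.ne ((L.memH _).2 ⟨k, rfl⟩) hk1 hJ ((L.memU _).2 ⟨(0, 1, 0), rfl⟩) h1
  apply hne
  apply R.U_injective L.h3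
  rw [h2, R.U_zero]

theorem exists_norm3 {t : K} (ht : t ≠ 0) : ∃ k : Kˣ, (k : K) ^ 2 * σ k = t := by
  let φ : Kˣ →* Kˣ :=
    { toFun := fun k => k ^ 2 * Units.map (σ : K →* K) k
      map_one' := by rw [map_one, one_pow, one_mul]
      map_mul' := by
        intro x y
        rw [map_mul, mul_pow, mul_mul_mul_comm] }
  have hφ : ∀ k : Kˣ, ((φ k : Kˣ) : K) = (k : K) ^ 2 * σ k := fun k => rfl
  have hinj : Function.Injective φ := by
    rw [injective_iff_map_eq_one]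
    intro k hk
    apply L.norm3
    rw [← hφ, hk, Units.val_one]
  obtain ⟨k, hk⟩ := (Finite.injective_iff_surjective.1 hinj) (Units.mk0 t ht)
  refine ⟨k, ?_⟩
  rw [← hφ, hk, Units.val_mk0]

theorem card_K : Nat.card K = 3 ^ n := by
  classical
  have : Fintype K := Fintype.ofFinite K
  have h1 : Nat.card Kˣ = 3 ^ n - 1 := by
    rw [← L.setup.cardH a b L.ne]
    refine Nat.card_congr (Equiv.ofBijective (fun k : Kˣ => (⟨R.h k, (L.memH _).2 ⟨k, rfl⟩⟩ : HH G a b)) ⟨?_, ?_⟩)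
    · intro k l h
      exact R.h_injective L.h3 (congrArg Subtype.val h)
    · rintro ⟨g, hg⟩
      obtain ⟨k, hk⟩ := (L.memH g).1 hg
      exact ⟨k, Subtype.ext hk⟩
  rw [Nat.card_eq_fintype_card, Fintype.card_units] at h1
  rw [Nat.card_eq_fintype_card]
  have h2 := L.setup.three_le
  have h4 : 0 < Fintype.card K := Fintype.card_pos
  omega

theorem square_or (t : K) : IsSquare t ∨ IsSquare (-t) := by
  classical
  have : Fintype K := Fintype.ofFinite K
  have h2 : ringChar K ≠ 2 := by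
    intro h
    have h2 : (2 : K) = 0 := by
      have := ringChar.Nat.cast_ringChar (R := K)
      rw [h] at this
      exact_mod_cast this
    rw [L.two] at h2
    exact one_ne_zero (neg_eq_zero.1 h2)
  by_cases ht : t = 0
  · subst ht; left; exact ⟨0, by ring⟩
  by_cases hsq : IsSquare t
  · exact Or.inl hsq
  · right
    have hm1 : ¬ IsSquare (-1 : K) := by
      rw [FiniteField.isSquare_neg_one_iff]
      push Not
      rw [← Nat.card_eq_fintype_card, L.card_K]
      have := L.setup.qmod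
      omega
    have e1 : quadraticChar K t = -1 := quadraticChar_neg_one_iff_not_isSquare.2 hsq
    have e2 : quadraticChar K (-1) = -1 := quadraticChar_neg_one_iff_not_isSquare.2 hm1
    rw [← quadraticChar_one_iff_isSquare (neg_ne_zero.2 ht), show -t = -1 * t by ring, map_mul, e1, e2]
    norm_num

theorem not_square_neg_one : ¬ IsSquare (-1 : K) := by
  classical
  have : Fintype K := Fintype.ofFinite K
  rw [FiniteField.isSquare_neg_one_iff]
  push Not
  rw [← Nat.card_eq_fintype_card, L.card_K]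
  have := L.setup.qmod
  omega

theorem exists_norm2 {t : K} (ht : t ≠ 0) (hsq : IsSquare t) : ∃ k : Kˣ, (k : K) * σ k = t := by
  let φ : Kˣ →* Kˣ :=
    { toFun := fun k => k * Units.map (σ : K →* K) k
      map_one' := by rw [map_one, one_mul]
      map_mul' := by
        intro x y
        rw [map_mul, mul_mul_mul_comm] }
  let s : Kˣ →* Kˣ := powMonoidHom 2
  have hφ : ∀ k : Kˣ, ((φ k : Kˣ) : K) = (k : K) * σ k := fun k => rfl
  have hs : ∀ k : Kˣ, s k = k ^ 2 := fun k => rfl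
  have hker : φ.ker = s.ker := by
    ext k
    rw [MonoidHom.mem_ker, MonoidHom.mem_ker, hs]
    constructor
    · intro h
      have h1 : (k : K) * σ k = 1 := by rw [← hφ, h, Units.val_one]
      rcases L.norm2 h1 with rfl | rfl
      · rw [one_pow]
      · rw [neg_sq, one_pow]
    · intro h
      have h1 : (k : K) ^ 2 = 1 := by rw [← Units.val_pow_eq_pow_val, h, Units.val_one]
      have h2 : (k : K) = 1 ∨ (k : K) = -1 := mul_self_eq_one_iff.1 (by rw [← sq]; exact h1)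
      apply Units.ext
      rw [hφ]
      rcases h2 with h2 | h2
      · rw [h2, map_one, one_mul, Units.val_one]
      · rw [h2, map_neg, map_one, neg_mul_neg, one_mul, Units.val_one]
  have hle : φ.range ≤ s.range := by
    rintro _ ⟨k, rfl⟩
    rcases L.square_or (k : K) with ⟨r, hr⟩ | ⟨r, hr⟩
    · have hr0 : r ≠ 0 := by
        rintro rfl
        rw [mul_zero] at hr
        exact k.ne_zero hr
      refine ⟨φ (Units.mk0 r hr0), ?_⟩
      rw [hs]
      apply Units.ext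
      rw [Units.val_pow_eq_pow_val, hφ, hφ, hr, Units.val_mk0, map_mul]
      ring
    · have hr0 : r ≠ 0 := by
        rintro rfl
        rw [mul_zero, neg_eq_zero] at hr
        exact k.ne_zero hr
      refine ⟨φ (Units.mk0 r hr0), ?_⟩
      rw [hs]
      apply Units.ext
      have hk : (k : K) = -(r * r) := by rw [← hr, neg_neg]
      rw [Units.val_pow_eq_pow_val, hφ, hφ, hk, Units.val_mk0, map_neg, map_mul]
      ring
  have hcard : Nat.card s.range ≤ Nat.card φ.range := by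
    rw [← Subgroup.index_ker, ← Subgroup.index_ker, hker]
  have heq : φ.range = s.range := Subgroup.eq_of_le_of_card_ge hle hcard
  obtain ⟨r, hr⟩ := hsq
  have hr0 : r ≠ 0 := by
    rintro rfl
    rw [mul_zero] at hr
    exact ht hr
  have hmem : Units.mk0 t ht ∈ φ.range := by
    rw [heq]
    refine ⟨Units.mk0 r hr0, ?_⟩
    rw [hs]
    apply Units.ext
    rw [Units.val_pow_eq_pow_val, Units.val_mk0, Units.val_mk0, hr, sq]
  obtain ⟨k, hk⟩ := hmem
  refine ⟨k, ?_⟩
  rw [← hφ, hk, Units.val_mk0]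

/-! ### The action of `w` on the root group `(0, *, 0)` -/

omit L in
theorem Y_ne {s : K} (hs : s ≠ 0) : ((0, s, 0) : K × K × K) ≠ 0 := by
  intro h
  exact hs (congrArg (fun p : K × K × K => p.2.1) h)

omit L in
theorem Z_ne (x y : K) {z : K} (hz : z ≠ 0) : ((x, y, z) : K × K × K) ≠ 0 := Start.ne_zero_of_last hz

theorem eq_Y_of_dil {p : K × K × K} (h : dil σ ((-1 : Kˣ) : K) p = p) : p = (0, p.2.1, 0) := by
  obtain ⟨x, y, z⟩ := p
  rw [dil_neg_one] at h
  simp only [Prod.mk.injEq] at h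
  have h1 := L.eq_neg h.1.symm
  have h2 := L.eq_neg h.2.2.symm
  rw [h1, h2]

/-- the action of `w` on `(0, *, 0)` -/
theorem tau_Y : ∃ ν r : K, r ≠ 0 ∧ r * r = ν ∧ ∃ ε : Kˣ, (ε = 1 ∨ ε = -1) ∧ ∀ s : K, s ≠ 0 →
    τ (0, s, 0) = (0, -ν / s, 0) ∧ R.gam (0, s, 0) = (0, -ν / s, 0) ∧
      ∀ m : Kˣ, IsSquare (m : K) → (m : K) * σ m * ν = s ^ 2 → R.kap (0, s, 0) = ε * m := by
  have h3 := L.h3
  set f : K → K := fun s => (τ (0, s, 0)).2.1 with hf
  have hd : ∀ s : K, dil σ ((-1 : Kˣ) : K) (0, s, 0) = (0, s, 0) := fun s => by rw [dil_neg_one, neg_zero]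
  have ht : ∀ s : K, s ≠ 0 → τ (0, s, 0) = (0, f s, 0) := by
    intro s hs
    apply L.eq_Y_of_dil
    have h := (R.dil_rules h3 (-1) (Y_ne hs)).1
    rw [hd, inv_neg_one] at h
    exact h.symm
  have hf0 : ∀ s : K, s ≠ 0 → f s ≠ 0 := by
    intro s hs h
    apply R.tau_ne_zero h3 (Y_ne hs)
    rw [ht s hs, h]
    rfl
  have hff : ∀ s : K, s ≠ 0 → f (f s) = s := by
    intro s hs
    have h := (R.tau_rules h3 (Y_ne hs)).1
    rw [ht s hs, ht (f s) (hf0 s hs)] at h
    exact congrArg (fun p : K × K × K => p.2.1) h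
  have hdil : ∀ (k : Kˣ) (s : K), dil σ (k : K) (0, s, 0) = (0, (k : K) * σ k * s, 0) := by
    intro k s
    simp only [dil, Prod.mk.injEq]
    refine ⟨by ring, trivial, by ring⟩
  have hfd : ∀ (k : Kˣ) (s : K), s ≠ 0 → f ((k : K) * σ k * s) = f s / ((k : K) * σ k) := by
    intro k s hs
    have h := (R.dil_rules h3 k (Y_ne hs)).1
    rw [hdil, ht s hs, hdil] at h
    have h' := congrArg (fun p : K × K × K => p.2.1) h
    have e : ((k⁻¹ : Kˣ) : K) * σ ((k⁻¹ : Kˣ) : K) * f s = f s / ((k : K) * σ k) := by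
      rw [Units.val_inv_eq_inv_val, map_inv₀, ← mul_inv, div_eq_inv_mul]
    rw [← e]
    exact h'
  have hkd : ∀ (k : Kˣ) (s : K), s ≠ 0 → R.kap (0, (k : K) * σ k * s, 0) = k * R.kap (0, s, 0) * k := by
    intro k s hs
    have h := (R.dil_rules h3 k (Y_ne hs)).2.1
    rwa [hdil] at h
  have hinv : ∀ s : K, inv σ (0, s, 0) = (0, -s, 0) := by
    intro s
    simp only [inv, Prod.mk.injEq]
    refine ⟨by ring, by ring, by ring⟩
  -- `f 1` is not a square
  have hns : ¬ IsSquare (f 1) := by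
    intro hsq
    obtain ⟨k, hk⟩ := L.exists_norm2 (hf0 1 one_ne_zero) hsq
    have hfix : (R.w * R.h k) • R.U (0, 1, 0) • b = R.U (0, 1, 0) • b := by
      have h1 := hfd k 1 one_ne_zero
      have hk0 : (k : K) * σ k ≠ 0 := by rw [hk]; exact hf0 1 one_ne_zero
      rw [mul_smul, L.h_pt, hdil, mul_one, L.w_pt (Y_ne hk0), ht _ hk0]
      rw [mul_one, hk, div_self (hf0 1 one_ne_zero)] at h1
      rw [hk, h1]
    refine L.no_fix (v := R.w * R.h k) (R.twist k).w_w ?_ ?_ hfix ?_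
    · rw [mul_smul, L.h_a, L.w_a]; exact L.ne.symm
    · rw [mul_assoc, h_J, ← mul_assoc, w_J, mul_assoc]
    · rw [L.h_pt, hd]
  obtain ⟨r, hr⟩ : IsSquare (-f 1) := (L.square_or (f 1)).resolve_left hns
  have hf1 := hf0 1 one_ne_zero
  have hr0 : r ≠ 0 := by
    rintro rfl
    rw [mul_zero, neg_eq_zero] at hr
    exact hf1 hr
  have hν0 : -f 1 ≠ 0 := neg_ne_zero.2 hf1
  -- `f (-1) = -f 1`
  have hm1 : f (-1) = -f 1 := by
    obtain ⟨k, hk⟩ := L.exists_norm2 hν0 ⟨r, hr⟩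
    have h1 := hff 1 one_ne_zero
    have h2 := hfd k (-1) (neg_ne_zero.2 one_ne_zero)
    rw [hk, neg_mul_neg, mul_one, h1] at h2
    rw [eq_div_iff hν0, one_mul] at h2
    exact h2.symm
  have hall : ∀ s : K, s ≠ 0 → f s = -(-f 1) / s := by
    intro s hs
    rw [neg_neg]
    rcases L.square_or s with hsq | hsq
    · obtain ⟨k, hk⟩ := L.exists_norm2 hs hsq
      have h := hfd k 1 one_ne_zero
      rwa [mul_one, hk] at h
    · obtain ⟨k, hk⟩ := L.exists_norm2 (neg_ne_zero.2 hs) hsq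
      have h := hfd k (-1) (neg_ne_zero.2 one_ne_zero)
      rw [hk, neg_mul_neg, mul_one, hm1, neg_div_neg_eq] at h
      exact h
  have hall' : ∀ s : K, s ≠ 0 → τ (0, s, 0) = (0, -(-f 1) / s, 0) := by
    intro s hs
    rw [ht s hs, hall s hs]
  refine ⟨-f 1, r, hr0, hr.symm, ?_⟩
  -- the torus part
  have hkinv : ∀ s : K, s ≠ 0 → R.kap (0, -s, 0) = R.kap (0, s, 0) := by
    intro s hs
    have h := (R.inv_rules h3 (Y_ne hs)).2.1
    rwa [hinv] at h
  have hkr : R.kap (0, r, 0) = (R.kap (0, r, 0))⁻¹ := by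
    have h := (R.tau_rules h3 (Y_ne hr0)).2.1
    rw [hall' r hr0, hr, neg_div, mul_div_assoc, div_self hr0, mul_one, hkinv r hr0] at h
    exact h
  have hε : R.kap (0, r, 0) = 1 ∨ R.kap (0, r, 0) = -1 := by
    have h1 : R.kap (0, r, 0) * R.kap (0, r, 0) = 1 := by
      nth_rewrite 2 [hkr]
      exact mul_inv_cancel _
    have h2 : ((R.kap (0, r, 0) : Kˣ) : K) * ((R.kap (0, r, 0) : Kˣ) : K) = 1 := by
      rw [← Units.val_mul, h1, Units.val_one]
    rcases mul_self_eq_one_iff.1 h2 with h | h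
    · left; exact Units.ext h
    · right; apply Units.ext; rw [h, Units.val_neg, Units.val_one]
  refine ⟨R.kap (0, r, 0), hε, ?_⟩
  intro s hs
  refine ⟨hall' s hs, ?_, ?_⟩
  · rw [R.gam_eq h3 (Y_ne hs), hinv, hall' (-s) (neg_ne_zero.2 hs), hinv]
    congr 2
    rw [div_neg, neg_neg]
  · intro m hm hms
    obtain ⟨k0, hk0⟩ := hm
    have hk00 : k0 ≠ 0 := by
      rintro rfl
      rw [mul_zero] at hk0
      exact m.ne_zero hk0
    set k : Kˣ := Units.mk0 k0 hk00 with hk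
    have hmk : m = k * k := by
      apply Units.ext
      rw [hk0, Units.val_mul, hk, Units.val_mk0]
    have hsq : ((k : K) * σ k * r) ^ 2 = s ^ 2 := by
      rw [← hms, hmk, hr, Units.val_mul, map_mul]
      ring
    rcases sq_eq_sq_iff_eq_or_eq_neg.1 hsq with h | h
    · rw [← h, hkd k r hr0, hmk]
      rw [mul_comm k, mul_assoc]
    · have h' : s = (k : K) * σ k * (-r) := by rw [mul_neg, h, neg_neg]
      rw [h', hkd k (-r) (neg_ne_zero.2 hr0), hkinv r hr0, hmk]
      rw [mul_comm k, mul_assoc]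

/-! ### The relations of `c₀` -/

theorem mul_U1 (y z y' z' : K) : mul σ (0, y, z) (0, y', z') = (0, y + y', z + z') := Start.mul_Z σ y z y' z'

/-- the relation of a fixed point `(0, b₀, -1)` of `w` -/
theorem rel_c0 {b0 : K} (hfix : R.w • R.U (0, b0, -1) • b = R.U (0, b0, -1) • b) :
    τ (0, b0, -1) = (0, b0, -1) ∧ R.kap (0, b0, -1) = -1 ∧ ∃ x z : K, R.gam (0, b0, -1) = (-x, x * σ x, -z) ∧
      inv σ (R.gam (0, b0, -1)) = (x, x * σ x, z) := by
  have h3 := L.h3
  have hne : ((0, b0, -1) : K × K × K) ≠ 0 := Z_ne _ _ (neg_ne_zero.2 one_ne_zero)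
  have hτ : τ (0, b0, -1) = (0, b0, -1) := by
    rw [L.w_pt hne] at hfix
    exact L.U_inj hfix
  have h := R.tau_rules h3 hne
  rw [hτ] at h
  obtain ⟨-, hk, hg⟩ := h
  have hγ0 : R.gam (0, b0, -1) ≠ 0 := by
    rw [R.gam_eq h3 hne]
    exact inv_ne_zero' σ h3 (R.tau_ne_zero h3 (inv_ne_zero' σ h3 hne))
  have hκ : R.kap (0, b0, -1) = 1 ∨ R.kap (0, b0, -1) = -1 := by
    have h1 : R.kap (0, b0, -1) * R.kap (0, b0, -1) = 1 := by
      nth_rewrite 2 [hk]
      exact mul_inv_cancel _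
    have h2 : ((R.kap (0, b0, -1) : Kˣ) : K) * ((R.kap (0, b0, -1) : Kˣ) : K) = 1 := by
      rw [← Units.val_mul, h1, Units.val_one]
    rcases mul_self_eq_one_iff.1 h2 with h | h
    · left; exact Units.ext h
    · right; apply Units.ext; rw [h, Units.val_neg, Units.val_one]
  generalize hγ : R.gam (0, b0, -1) = γ at *
  obtain ⟨g1, g2, g3⟩ := γ
  rcases hκ with hκ | hκ
  · exfalso
    rw [hκ, Units.val_one, one_dil] at hg
    simp only [inv, Prod.mk.injEq] at hg
    have e1 : g1 = 0 := L.eq_neg hg.1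
    subst e1
    have e2 : g2 = 0 := L.eq_neg (by rw [← sub_zero (-g2)]; nth_rewrite 1 [hg.2.1]; ring)
    subst e2
    have e3 : g3 = 0 := L.eq_neg (by nth_rewrite 1 [hg.2.2]; ring)
    subst e3
    exact hγ0 rfl
  · refine ⟨hτ, hκ, -g1, -g3, ?_, ?_⟩
    · rw [hκ] at hg
      simp only [inv, dil_neg_one, Prod.mk.injEq] at hg
      rw [neg_neg, neg_neg, map_neg, neg_mul_neg]
      have e2 : g2 = g1 * σ g1 := by
        linear_combination (-1 : K) * hg.2.1 + g2 * h3
      rw [← e2]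
    · rw [hκ] at hg
      simp only [inv, dil_neg_one, Prod.mk.injEq] at hg ⊢
      have e2 : g2 = g1 * σ g1 := by
        linear_combination (-1 : K) * hg.2.1 + g2 * h3
      refine ⟨trivial, ?_, ?_⟩
      · rw [map_neg, neg_mul_neg, e2]
        linear_combination (-(g1 * σ g1)) * h3
      · rw [e2]; ring

/-- the values at the inverse and at the other conjugate of `c₀` -/
theorem rel_c0' {b0 x z : K} (hτ : τ (0, b0, -1) = (0, b0, -1)) (hκ : R.kap (0, b0, -1) = -1)
    (hγ : inv σ (R.gam (0, b0, -1)) = (x, x * σ x, z)) :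
    (τ (0, -b0, 1) = (x, x * σ x, z) ∧ R.kap (0, -b0, 1) = -1 ∧ R.gam (0, -b0, 1) = (0, -b0, 1)) ∧
    (τ (0, -b0, -1) = (-x, x * σ x, -z) ∧ R.kap (0, -b0, -1) = -1 ∧ R.gam (0, -b0, -1) = (0, -b0, -1)) := by
  have h3 := L.h3
  have hne : ((0, b0, -1) : K × K × K) ≠ 0 := Z_ne _ _ (neg_ne_zero.2 one_ne_zero)
  have hinv : inv σ (0, b0, -1) = (0, -b0, 1) := by
    simp only [inv, Prod.mk.injEq]
    refine ⟨by ring, by ring, by ring⟩
  have h1 := R.inv_rules h3 hne
  rw [hinv, hγ, hκ, hτ, hinv] at h1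
  refine ⟨h1, ?_⟩
  have h2 := R.dil_rules h3 (-1) (Z_ne (0 : K) (-b0) (one_ne_zero : (1 : K) ≠ 0))
  rw [dil_neg_one, inv_neg_one, h1.1, h1.2.1, h1.2.2, dil_neg_one, dil_neg_one, neg_zero] at h2
  refine ⟨h2.1, ?_, h2.2.2⟩
  rw [h2.2.1]
  simp

/-- the first equation for `E = τ (0, 0, 1)` -/
theorem star {b0 x z : K} (hτ : τ (0, b0, -1) = (0, b0, -1)) (hκ : R.kap (0, b0, -1) = -1)
    (hγ : inv σ (R.gam (0, b0, -1)) = (x, x * σ x, z)) :
    τ (0, 0, 1) = mul σ (-x, x * σ x, -z) (dil σ ((-1 : Kˣ) : K) (τ (0, 0, 1))) := by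
  have h3 := L.h3
  obtain ⟨-, h1, h2, h4⟩ := L.rel_c0' hτ hκ hγ
  have hne : ((0, b0, -1) : K × K × K) ≠ 0 := Z_ne _ _ (neg_ne_zero.2 one_ne_zero)
  have hne' : ((0, -b0, -1) : K × K × K) ≠ 0 := Z_ne _ _ (neg_ne_zero.2 one_ne_zero)
  have e : mul σ (0, -b0, -1) (0, b0, -1) = ((0, 0, 1) : K × K × K) := by
    rw [L.mul_U1]
    simp only [Prod.mk.injEq]
    refine ⟨trivial, by ring, ?_⟩
    linear_combination -h3
  have hz : ((0, 0, 1) : K × K × K) ≠ 0 := Z_ne _ _ one_ne_zero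
  have h := (R.mul_rules h3 hne' hne (by rw [e]; exact hz) (by rw [h4, hτ, e]; exact hz)).1
  rw [h4, hτ, e, h1, h2, inv_neg_one] at h
  exact h

/-- no elements of order 4 -/
theorem sq_eq_one {g : G} (h : g * g * (g * g) = 1) : g * g = 1 := by
  have h4 : g ^ 4 = 1 := by rw [← h]; simp only [pow_succ, pow_zero, one_mul, mul_assoc]
  have hP : IsPGroup 2 (Subgroup.zpowers g) := by
    rw [IsPGroup.iff_card]
    have hd : orderOf g ∣ 2 ^ 2 := orderOf_dvd_of_pow_eq_one (by rw [show 2 ^ 2 = 4 by norm_num]; exact h4)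
    obtain ⟨k, -, hk⟩ := (Nat.dvd_prime_pow Nat.prime_two).1 hd
    exact ⟨k, by rw [Nat.card_zpowers, hk]⟩
  obtain ⟨S, hS⟩ := hP.exists_le_sylow
  exact (L.setup.sylow S).2 g (hS (Subgroup.mem_zpowers g))

theorem b0_ne {b0 x z : K} (hτ : τ (0, b0, -1) = (0, b0, -1)) (hκ : R.kap (0, b0, -1) = -1)
    (hγ : inv σ (R.gam (0, b0, -1)) = (x, x * σ x, z)) : b0 ≠ 0 := by
  rintro rfl
  have h3 := L.h3
  have hz1 : ((0, 0, -1) : K × K × K) ≠ 0 := Z_ne _ _ (neg_ne_zero.2 one_ne_zero)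
  have hE : τ (0, 0, 1) = (0, 0, 1) := by
    have h := (R.dil_rules h3 (-1) hz1).1
    rw [dil_neg_one, inv_neg_one, hτ, dil_neg_one, neg_zero, neg_neg] at h
    exact h
  have hs := L.star hτ hκ hγ
  rw [hE, dil_neg_one] at hs
  simp only [mul, Prod.mk.injEq, neg_zero, map_zero, add_zero] at hs
  have hx : x = 0 := by
    have := hs.1
    linear_combination this
  subst hx
  have hzz : z = 1 := by
    have := hs.2.2
    linear_combination (1 : K) * this - h3 + z * h3 - z * h3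
  subst hzz
  have hγ' : R.gam (0, 0, -1) = (0, 0, -1) := by
    rw [← inv_inv' σ h3 (R.gam (0, 0, -1)), hγ]
    simp only [inv, Prod.mk.injEq, map_zero]
    refine ⟨by ring, by ring, by ring⟩
  have hrel := R.rel' hz1
  rw [hτ, hκ, hγ'] at hrel
  set Z := R.U (0, 0, -1) with hZ
  have hZ3 : Z * Z * Z = 1 := by
    rw [hZ, ← R.U_mul, ← R.U_mul, L.mul_U1, L.mul_U1, ← R.U_zero]
    congr 1
    simp only [Prod.mk.injEq, Prod.zero_eq_mk]
    refine ⟨trivial, by simp, ?_⟩
    linear_combination -h3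
  have hJZ : R.h (-1) * Z = Z⁻¹ * R.h (-1) := by
    rw [hZ, R.h_U, dil_neg_one, R.U_inv h3]
    congr 2
    simp [inv]
  have hZZ : Z * Z = Z⁻¹ := eq_inv_of_mul_eq_one_left hZ3
  have hgg : R.w * Z * (R.w * Z) = Z * (R.w * R.h (-1)) * Z⁻¹ := by
    calc R.w * Z * (R.w * Z) = (R.w * Z * R.w) * Z := by group
      _ = Z * (R.w * R.h (-1)) * (Z * Z) := by rw [hrel]; group
      _ = _ := by rw [hZZ]
  have hwJ : R.w * R.h (-1) * (R.w * R.h (-1)) = 1 := (R.twist (-1)).w_w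
  have h4 : R.w * Z * (R.w * Z) * (R.w * Z * (R.w * Z)) = 1 := by
    rw [hgg]
    calc Z * (R.w * R.h (-1)) * Z⁻¹ * (Z * (R.w * R.h (-1)) * Z⁻¹) = Z * (R.w * R.h (-1) * (R.w * R.h (-1))) * Z⁻¹ := by
          group
      _ = 1 := by rw [hwJ]; group
  have h5 := L.sq_eq_one h4
  rw [hgg] at h5
  have h6 : R.w * R.h (-1) = 1 := by
    calc R.w * R.h (-1) = Z⁻¹ * (Z * (R.w * R.h (-1)) * Z⁻¹) * Z := by group
      _ = 1 := by rw [h5]; group
  apply L.w_ne_h (-1)
  calc R.w = R.w * (R.h (-1) * R.h (-1)) := by rw [L.h_neg_one_mul_self, mul_one]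
    _ = R.h (-1) := by rw [← mul_assoc, h6, one_mul]

/-- the two centres argument -/
theorem b0_sq {b0 ν x z : K} (hτ : τ (0, b0, -1) = (0, b0, -1)) (hκ : R.kap (0, b0, -1) = -1)
    (hγ : inv σ (R.gam (0, b0, -1)) = (x, x * σ x, z)) (hb0 : b0 ≠ 0)
    (hfix : R.w • R.U (0, b0, -1) • b = R.U (0, b0, -1) • b)
    (hY : ∀ s : K, s ≠ 0 → τ (0, s, 0) = (0, -ν / s, 0)) : b0 * b0 = ν := by
  have h3 := L.h3
  obtain ⟨⟨h1, h2, h4⟩, -⟩ := L.rel_c0' hτ hκ hγ
  have hs := L.star hτ hκ hγ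
  -- the point `q`
  set q : K × K × K := (0, -b0 - ν / b0, 1) with hq
  have hq0 : q ≠ 0 := Z_ne _ _ one_ne_zero
  have hk : mul σ (R.gam (0, -b0, 1)) (τ (0, b0, 0)) = q := by
    rw [h4, hY b0 hb0, L.mul_U1, hq]
    simp only [Prod.mk.injEq]
    refine ⟨trivial, by ring, by ring⟩
  have hpq : mul σ (0, -b0, 1) (0, b0, 0) = ((0, 0, 1) : K × K × K) := by
    rw [L.mul_U1]
    simp only [Prod.mk.injEq]
    refine ⟨trivial, by ring, by ring⟩
  have h5 := (R.mul_rules h3 (Z_ne (0 : K) (-b0) (one_ne_zero : (1 : K) ≠ 0)) (Y_ne hb0)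
    (by rw [hpq]; exact Z_ne _ _ one_ne_zero) (by rw [hk]; exact hq0)).1
  rw [hpq, hk, h1, h2, inv_neg_one] at h5
  -- `τ q` lies in `(0, *, *)`
  obtain ⟨t2, t3, ht⟩ : ∃ t2 t3 : K, τ q = (0, t2, t3) := by
    generalize hE : τ (0, 0, 1) = E at *
    generalize hT : τ q = T at *
    obtain ⟨E1, E2, E3⟩ := E
    obtain ⟨T1, T2, T3⟩ := T
    refine ⟨T2, T3, ?_⟩
    rw [dil_neg_one] at hs h5
    simp only [mul, Prod.mk.injEq] at hs h5
    have e1 := hs.1
    have e2 := h5.1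
    have : T1 = 0 := by linear_combination e1 + e2 - E1 * h3
    rw [this]
  have ht3 : t3 ≠ 0 := by
    rintro rfl
    have hτq := R.tau_ne_zero h3 hq0
    rw [ht] at hτq
    have ht2 : t2 ≠ 0 := by
      rintro rfl
      exact hτq rfl
    have h6 := (R.tau_rules h3 hq0).1
    rw [ht, hY t2 ht2, hq] at h6
    exact zero_ne_one (congrArg (fun p : K × K × K => p.2.2) h6)
  obtain ⟨k, hk3⟩ := L.exists_norm3 ht3
  set q2 : K := -b0 - ν / b0 with hq2
  set s' : K := t2 - (k : K) * σ k * q2 with hs'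
  -- the point `Q` and the involution fixing it
  set Q : Ω := R.U q • b with hQ
  have hwQ : R.w • Q = (R.U (0, s', 0) * R.h k) • Q := by
    rw [hQ, L.w_pt hq0, ht, mul_smul, L.h_pt, ← mul_smul, ← R.U_mul, hq]
    congr 2
    simp only [dil, Start.mul_Y, Prod.mk.injEq]
    refine ⟨by ring, ?_, ?_⟩
    · rw [hs']; ring
    · rw [← hk3]; ring
  have hJQ : R.h (-1) • Q ≠ Q := by
    rw [hQ, L.h_pt, hq, dil_neg_one]
    intro h
    have h7 := congrArg (fun p : K × K × K => p.2.2) (L.U_inj h)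
    exact one_ne_zero (L.eq_neg h7.symm)
  have hJJ : R.h (-1) • R.h (-1) • Q = Q := by
    rw [← mul_smul, L.h_neg_one_mul_self, one_smul]
  set g : G := R.w * (R.U (0, s', 0) * R.h k) with hg
  have hgQ : g • Q = Q := by
    rw [hg, mul_smul, ← hwQ, ← mul_smul, R.w_w, one_smul]
  have hgJ : g * R.h (-1) = R.h (-1) * g := by
    calc g * R.h (-1) = R.w * (R.U (0, s', 0) * (R.h k * R.h (-1))) := by rw [hg]; group
      _ = R.w * ((R.U (0, s', 0) * R.h (-1)) * R.h k) := by rw [h_J]; group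
      _ = (R.w * R.h (-1)) * (R.U (0, s', 0) * R.h k) := by rw [Y_J]; group
      _ = R.h (-1) * g := by rw [w_J, hg]; group
  have hga : g • a = b := by
    rw [hg, mul_smul, mul_smul, L.h_a, L.U_a, L.w_a]
  set s : K := q2 - b0 with hs0
  set y : G := R.U (0, s, 0) * R.w * (R.U (0, s, 0))⁻¹ with hy
  have hQ' : Q = R.U (0, s, 0) • R.h (-1) • R.U (0, b0, -1) • b := by
    rw [L.h_pt, ← mul_smul, ← R.U_mul, hQ, hq, dil_neg_one, Start.mul_Y]
    congr 2
    simp only [Prod.mk.injEq]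
    refine ⟨by ring, ?_, by ring⟩
    rw [hs0]; ring
  have hyQ : y • Q = Q := by
    rw [hy, mul_smul, mul_smul, hQ', inv_smul_smul]
    congr 1
    rw [← mul_smul, w_J, mul_smul, hfix]
  have hyy : y * y = 1 := by
    rw [hy]
    calc R.U (0, s, 0) * R.w * (R.U (0, s, 0))⁻¹ * (R.U (0, s, 0) * R.w * (R.U (0, s, 0))⁻¹) =
        R.U (0, s, 0) * (R.w * R.w) * (R.U (0, s, 0))⁻¹ := by group
      _ = 1 := by rw [R.w_w]; group
  have hYJ' : (R.U (0, s, 0))⁻¹ * R.h (-1) = R.h (-1) * (R.U (0, s, 0))⁻¹ := by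
    rw [inv_mul_eq_iff_eq_mul, ← mul_assoc, Y_J]; group
  have hyJ : y * R.h (-1) = R.h (-1) * y := by
    calc y * R.h (-1) = R.U (0, s, 0) * R.w * ((R.U (0, s, 0))⁻¹ * R.h (-1)) := by rw [hy]; group
      _ = R.U (0, s, 0) * (R.w * R.h (-1)) * (R.U (0, s, 0))⁻¹ := by rw [hYJ']; group
      _ = (R.U (0, s, 0) * R.h (-1)) * R.w * (R.U (0, s, 0))⁻¹ := by rw [w_J]; group
      _ = R.h (-1) * y := by rw [Y_J, hy]; group
  have hya : y • a = R.U (0, s, 0) • b := by
    have : (R.U (0, s, 0))⁻¹ • a = a := by rw [inv_smul_eq_iff, L.U_a]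
    rw [hy, mul_smul, mul_smul, this, L.w_a]
  have hy1 : y ≠ 1 := by
    intro h
    rw [h, one_smul] at hya
    exact L.U_ne _ hya.symm
  have hg1 : g ≠ 1 := by
    intro h
    rw [h, one_smul] at hga
    exact L.ne hga
  have hgg : g * g = 1 := by
    have h8 : g ∈ HH G Q (R.h (-1) • Q) := by
      rw [mem_HH]
      refine ⟨hgQ, ?_⟩
      rw [← mul_smul, hgJ, mul_smul, hgQ]
    have h9 := L.setup.swap_conj (Ne.symm hJQ) (g := R.h (-1)) rfl hJJ h8
    rw [← hgJ, mul_assoc, L.h_neg_one_mul_self, mul_one] at h9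
    nth_rewrite 2 [h9]
    exact mul_inv_cancel g
  have e1 := L.setup.eq_jj' (Ne.symm hJQ) hg1 hgg hgQ (by rw [← mul_smul, hgJ, mul_smul, hgQ])
  have e2 := L.setup.eq_jj' (Ne.symm hJQ) hy1 hyy hyQ (by rw [← mul_smul, hyJ, mul_smul, hyQ])
  have e3 : R.U (0, s, 0) • b = R.U 0 • b := by
    rw [← hya, e2, ← e1, hga, R.U_zero, one_smul]
  have e4 : s = 0 := congrArg (fun p : K × K × K => p.2.1) (L.U_inj e3)
  have e5 : b0 * (q2 - b0) = 0 := by rw [← hs0, e4, mul_zero]
  rw [hq2] at e5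
  field_simp at e5
  linear_combination e5 + b0 * b0 * h3

/-- all constants are forced -/
theorem core {b0 : K} (hfix : R.w • R.U (0, b0, -1) • b = R.U (0, b0, -1) • b) :
    (∀ s : K, s ≠ 0 → τ (0, s, 0) = (0, -s⁻¹, 0) ∧ R.gam (0, s, 0) = (0, -s⁻¹, 0) ∧
      ∀ m : Kˣ, IsSquare (m : K) → (m : K) * σ m = s ^ 2 → R.kap (0, s, 0) = m) ∧
    τ (0, 1, -1) = (0, 1, -1) ∧ R.kap (0, 1, -1) = -1 ∧ ∃ z : K, R.gam (0, 1, -1) = inv σ (1, 1, z) := by
  have h3 := L.h3
  obtain ⟨hτ, hκ, x, z, hγ, hγ'⟩ := L.rel_c0 hfix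
  obtain ⟨ν, r, hr0, hr, ε, hε, hY⟩ := L.tau_Y
  have hb0 := L.b0_ne hτ hκ hγ'
  have hν := L.b0_sq hτ hκ hγ' hb0 hfix (fun s hs => (hY s hs).1)
  have hs := L.star hτ hκ hγ'
  obtain ⟨-, h1, h2, h4⟩ := L.rel_c0' hτ hκ hγ'
  have hb0' : -b0 ≠ 0 := neg_ne_zero.2 hb0
  have hz1 : ((0, 0, -1) : K × K × K) ≠ 0 := Z_ne _ _ (neg_ne_zero.2 one_ne_zero)
  have hc0 : ((0, b0, -1) : K × K × K) ≠ 0 := Z_ne _ _ (neg_ne_zero.2 one_ne_zero)
  -- the values at `(0, -b0, 0)`
  obtain ⟨h5, h6, h7⟩ := hY (-b0) hb0'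
  have h8 := h7 1 ⟨1, by simp⟩ (by rw [Units.val_one, map_one, ← hν]; ring)
  rw [mul_one] at h8
  have e5 : -ν / -b0 = b0 := by
    rw [← hν]; field_simp
  rw [e5] at h5 h6
  have hpq : mul σ (0, -b0, 0) (0, b0, -1) = ((0, 0, -1) : K × K × K) := by
    rw [L.mul_U1]
    simp only [Prod.mk.injEq]
    refine ⟨trivial, by ring, by ring⟩
  have hk : mul σ (R.gam (0, -b0, 0)) (τ (0, b0, -1)) = (0, -b0, -1) := by
    rw [h6, hτ, L.mul_U1]
    simp only [Prod.mk.injEq]
    refine ⟨trivial, ?_, by ring⟩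
    linear_combination b0 * h3
  obtain ⟨m1, -, m3⟩ := R.mul_rules h3 (Y_ne hb0') hc0 (by rw [hpq]; exact hz1)
    (by rw [hk]; exact Z_ne _ _ (neg_ne_zero.2 one_ne_zero))
  rw [hpq, hk] at m1 m3
  rw [h5, h8, h1] at m1
  rw [h4, hκ, inv_neg_one, dil_neg_one, hγ] at m3
  -- `E = τ (0, 0, 1)` in two ways
  have hE1 : τ (0, 0, 1) = inv σ (R.gam (0, 0, -1)) := by
    rw [← (R.inv_rules h3 hz1).1]
    congr 1
    simp [inv]
  have hE2 : τ (0, 0, 1) = dil σ ((-1 : Kˣ) : K) (τ (0, 0, -1)) := by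
    have h := (R.dil_rules h3 (-1) hz1).1
    rw [dil_neg_one, inv_neg_one, neg_zero, neg_neg] at h
    exact h
  have hE3 : τ (0, 0, 1) = (x, b0 + x * σ x, z - 1) := by
    rw [hE1, m3]
    simp only [mul, inv, Prod.mk.injEq, neg_zero, neg_neg, zero_add, map_neg]
    refine ⟨trivial, ?_, ?_⟩
    · linear_combination (-(x * σ x)) * h3
    · linear_combination (0 : K) * h3
  rw [hE3, dil_neg_one] at hs
  simp only [mul, Prod.mk.injEq, map_neg] at hs
  have hx3 : x ^ 2 * σ x = 1 := by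
    have := hs.2.2
    linear_combination (-1 : K) * this + (z - 1) * h3
  have hx0 : x ≠ 0 := by
    rintro rfl
    rw [zero_pow two_ne_zero, zero_mul] at hx3
    exact zero_ne_one hx3
  have hx1 : x = 1 := by
    have := L.norm3 (k := Units.mk0 x hx0) (by rw [Units.val_mk0]; exact hx3)
    have h := congrArg (fun u : Kˣ => (u : K)) this
    simpa using h
  subst hx1
  rw [map_one] at *
  rcases hε with rfl | rfl
  · -- the good case
    rw [inv_one, Units.val_one, one_dil, Start.mul_Y] at m1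
    rw [hE3, m1, dil_neg_one] at hE2
    simp only [Prod.mk.injEq] at hE2
    have hb1 : b0 = 1 := by
      have := hE2.2.2
      linear_combination this
    subst hb1
    have hν1 : ν = 1 := by rw [← hν, one_mul]
    subst hν1
    refine ⟨?_, hτ, hκ, z, ?_⟩
    · intro s hs
      obtain ⟨a1, a2, a3⟩ := hY s hs
      have e : (-1 : K) / s = -s⁻¹ := by rw [neg_div, one_div]
      rw [e] at a1 a2
      refine ⟨a1, a2, ?_⟩
      intro m hm hms
      rw [a3 m hm (by rw [mul_one, hms]), one_mul]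
    · rw [← inv_inv' σ h3 (R.gam (0, 1, -1)), hγ', one_mul]
  · exfalso
    rw [inv_neg_one, dil_neg_one, Start.mul_Y] at m1
    rw [hE3, m1, dil_neg_one] at hE2
    simp only [Prod.mk.injEq] at hE2
    have := hE2.1
    rw [neg_neg] at this
    exact one_ne_zero (L.eq_neg this)

/-- the link for the twisted group -/
theorem twist (k : Kˣ) : Link U n (R.twist k) a b where
  setup := L.setup
  h3 := L.h3
  ne := L.ne
  memU := L.memU
  memH := L.memH
  w_a := by
    show (R.w * R.h k) • a = b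
    rw [mul_smul, L.h_a, L.w_a]

/-- some `w * h k` fixes a point `(0, b₀, -1)` -/
theorem exists_fix : ∃ (k : Kˣ) (b0 : K), (R.w * R.h k) • R.U (0, b0, -1) • b = R.U (0, b0, -1) • b := by
  set P : Ω := R.U (0, 0, -1) • b with hP
  have hJP : R.h (-1) • P ≠ P := by
    rw [hP, L.h_pt, dil_neg_one]
    intro h
    have h7 := congrArg (fun p : K × K × K => p.2.2) (L.U_inj h)
    exact neg_ne_zero.2 one_ne_zero (L.eq_neg h7.symm)
  have hJJ : R.h (-1) • R.h (-1) • P = P := by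
    rw [← mul_smul, L.h_neg_one_mul_self, one_smul]
  set i : G := jj G P (R.h (-1) • P) with hi
  have hi1 : i ≠ 1 := L.setup.jj_ne_one (Ne.symm hJP)
  have hii : i * i = 1 := L.setup.jj_mul_self (Ne.symm hJP)
  have hiP : i • P = P := L.setup.jj_smul_left (Ne.symm hJP)
  have hiJ : R.h (-1) * i = i * R.h (-1) := L.setup.swap_comm_jj (Ne.symm hJP) rfl hJJ
  have hne : i ≠ R.h (-1) := by
    intro h
    apply hJP
    rw [← h, hiP]
  have hia : i • a ≠ a := by
    intro h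
    exact L.setup.no_common_fixed hii hi1 L.h_neg_one_mul_self L.h_neg_one_ne hne hiJ.symm h (L.h_a _)
  have hJia : jj G a b • i • a = i • a := by
    rw [L.jj_eq, ← mul_smul, hiJ, mul_smul, L.h_a]
  rcases (L.setup.fix_jj_iff L.ne).1 hJia with h | ⟨c, hc, hcb⟩
  · exact absurd h hia
  rw [mem_E, L.jj_eq] at hc
  obtain ⟨p, rfl⟩ := (L.memU c).1 hc.1
  have hp : dil σ ((-1 : Kˣ) : K) p = p := by
    apply R.U_injective L.h3
    have h := hc.2
    rw [R.h_U] at h
    exact mul_right_cancel h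
  have hp' := L.eq_Y_of_dil hp
  set c := p.2.1 with hcdef
  rw [hp'] at hcb
  set v : G := (R.U (0, c, 0))⁻¹ * i * R.U (0, c, 0) with hv
  have hva : v • a = b := by
    rw [hv, mul_smul, mul_smul, L.U_a, ← hcb, inv_smul_smul]
  have hvv : v * v = 1 := by
    calc v * v = (R.U (0, c, 0))⁻¹ * (i * i) * R.U (0, c, 0) := by rw [hv]; group
      _ = 1 := by rw [hii]; group
  have hvb : v • b = a := by
    rw [← hva, ← mul_smul, hvv, one_smul]
  have hmem : R.w * v ∈ HH G a b := by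
    rw [mem_HH, mul_smul R.w v a, mul_smul R.w v b, hva, hvb, L.w_a, L.w_b]
    exact ⟨rfl, rfl⟩
  obtain ⟨k, hk⟩ := (L.memH _).1 hmem
  have hvk : v = R.w * R.h k := by
    rw [hk, ← mul_assoc, R.w_w, one_mul]
  refine ⟨k, -c, ?_⟩
  have hUP : (R.U (0, c, 0))⁻¹ • P = R.U (0, -c, -1) • b := by
    rw [inv_smul_eq_iff, ← mul_smul, ← R.U_mul, hP, Start.mul_Y]
    congr 2
    simp only [Prod.mk.injEq]
    refine ⟨trivial, by ring, by ring⟩
  rw [← hvk, ← hUP, hv, mul_smul, mul_smul, smul_inv_smul, hiP]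

/-- the square root of the norm -/
theorem exists_M (s : K) : ∃ m : K, IsSquare m ∧ m * σ m = s ^ 2 := by
  by_cases hs : s = 0
  · subst hs
    exact ⟨0, ⟨0, by ring⟩, by rw [map_zero]; ring⟩
  · rcases L.square_or s with hsq | hsq
    · obtain ⟨k, hk⟩ := L.exists_norm2 hs hsq
      refine ⟨k * k, ⟨k, rfl⟩, ?_⟩
      rw [← hk, map_mul]; ring
    · obtain ⟨k, hk⟩ := L.exists_norm2 (neg_ne_zero.2 hs) hsq
      refine ⟨k * k, ⟨k, rfl⟩, ?_⟩
      have : s = -((k : K) * σ k) := by rw [hk, neg_neg]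
      rw [this, map_mul]; ring

theorem M_unique {m m' : K} (hm : IsSquare m) (hm' : IsSquare m') (h : m * σ m = m' * σ m') : m = m' := by
  by_cases h0 : m' = 0
  · subst h0
    rw [zero_mul] at h
    rcases mul_eq_zero.1 h with h | h
    · exact h
    · exact (map_eq_zero σ).1 h
  have h0' : σ m' ≠ 0 := by rwa [Ne, map_eq_zero]
  have h1 : m ≠ 0 := by
    rintro rfl
    rw [zero_mul] at h
    exact mul_ne_zero h0 h0' h.symm
  have h2 := L.norm2 (k := Units.mk0 (m / m') (div_ne_zero h1 h0)) (by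
    rw [Units.val_mk0, map_div₀, div_mul_div_comm, h, div_self (mul_ne_zero h0 h0')])
  rcases h2 with h2 | h2
  · have := congrArg (fun u : Kˣ => (u : K)) h2
    simp only [Units.val_mk0, Units.val_one] at this
    exact (div_eq_one_iff_eq h0).1 this
  · exfalso
    have := congrArg (fun u : Kˣ => (u : K)) h2
    simp only [Units.val_mk0, Units.val_one, Units.val_neg] at this
    apply L.not_square_neg_one
    rw [← this]
    exact hm.div hm'

/-- **Part B of S1149.** After replacing `w` by some `w * h k` we have the starting relations. -/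
theorem partB : ∃ (k : Kˣ) (M : K → K) (d : K), Start σ (fun p => τ (dil σ (k : K) p)) (R.twist k) M d ∧
    Link U n (R.twist k) a b ∧ M 0 = 0 ∧ M 1 = 1 ∧ (∀ x y, M (x * y) = M x * M y) ∧ (∀ x, M (-x) = M x) ∧
    (∀ x, IsSquare (M x)) ∧ (∀ x, M x * σ (M x) = x ^ 2) := by
  obtain ⟨k, b0, hfix⟩ := L.exists_fix
  have L' := L.twist k
  obtain ⟨hY, h1, h2, z, h4⟩ := L'.core hfix
  choose M hM1 hM2 using L.exists_M
  have hM0 : M 0 = 0 := L.M_unique (hM1 0) ⟨0, by ring⟩ (by rw [hM2, map_zero]; ring)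
  have hne0 : ∀ x, x ≠ 0 → M x ≠ 0 := by
    intro x hx h
    have := hM2 x
    rw [h, zero_mul] at this
    exact pow_ne_zero 2 hx this.symm
  have hc0 : ((0, 1, -1) : K × K × K) ≠ 0 := Z_ne _ _ (neg_ne_zero.2 one_ne_zero)
  refine ⟨k, M, -z, ⟨hM2, ?_, ?_⟩, L', hM0, ?_, ?_, ?_, hM1, hM2⟩
  · intro s m hs hm
    obtain ⟨a1, a2, a3⟩ := hY s hs
    have e := (R.twist k).rel' (Y_ne hs)
    rw [a1, a2, a3 m (by rw [hm]; exact hM1 s) (by rw [hm]; exact hM2 s)] at e
    exact e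
  · have e := (R.twist k).rel' hc0
    rw [h1, h2, h4, ← (R.twist k).U_inv L.h3] at e
    rw [neg_neg]
    exact e
  · exact L.M_unique (hM1 1) ⟨1, by ring⟩ (by rw [hM2, map_one]; ring)
  · intro x y
    exact L.M_unique (hM1 _) ((hM1 x).mul (hM1 y)) (by
      rw [hM2, map_mul, mul_mul_mul_comm, hM2, hM2]; ring)
  · intro x
    exact L.M_unique (hM1 _) (hM1 _) (by rw [hM2, hM2]; ring)

end Link

end Cfsg.Agent.ReeUniq
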