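import Mathlib

/-!
# S1149, step (A2): the class two case is impossible (elementary proof)

`G` has a split BN-pair of rank one, `B = U H`, `t` inverts `H`, `j` is the unique involution of
`H`, and `W = {u ∈ U : u^j = u⁻¹}` is assumed to be an abelian normal subgroup of `U`.
Then we derive a contradiction from the facts that `G` has no element of order `4`, that
`H` is transitive on `Z \ 1` and `(W/Z) \ 1`, and that `H/⟨j⟩` acts semiregularly on `U/W`.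
-/

set_option autoImplicit false

namespace Cfsg.Agent.ReeUniq.ClassTwoElem

/-- The set-up: a split BN-pair of rank one with an involution `t` inverting `H`. -/
structure Setup (G : Type*) [Group G] where
  B : Subgroup G
  U : Subgroup G
  H : Subgroup G
  W : Subgroup G
  t : G
  j : G
  hUB : U ≤ B
  hHB : H ≤ B
  hB : ∀ b ∈ B, ∃ h ∈ H, ∃ u ∈ U, b = h * u
  hUn : ∀ b ∈ B, ∀ u ∈ U, b * u * b⁻¹ ∈ U
  hUH : ∀ x ∈ U, x ∈ H → x = 1
  htB : t ∉ B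
  htt : t * t = 1
  htH : ∀ h ∈ H, t * h = h⁻¹ * t
  hHc : ∀ x ∈ H, ∀ y ∈ H, x * y = y * x
  hBt : ∀ x ∈ B, t * x * t ∈ B → x ∈ H
  hBruhat : ∀ g, g ∉ B → ∃ u ∈ U, ∃ b ∈ B, g = u * t * b
  hj : j ∈ H
  hjj : j * j = 1
  hj1 : j ≠ 1
  hju : ∀ x ∈ H, x * x = 1 → x ≠ 1 → x = j
  hW : ∀ u, u ∈ W ↔ u ∈ U ∧ j * u * j = u⁻¹
  hWn : ∀ b ∈ U, ∀ w ∈ W, b * w * b⁻¹ ∈ W
  hWc : ∀ a ∈ W, ∀ b ∈ W, a * b = b * a
  /-- every element of order three is conjugate into `U` -/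
  hS3 : ∀ g : G, g * g * g = 1 → ∃ c, ∃ u ∈ U, g = c * u * c⁻¹
  /-- `U` is a TI subgroup with normaliser `B` -/
  hTI : ∀ x, ∀ z ∈ U, z ≠ 1 → x * z * x⁻¹ ∈ U → x ∈ B
  /-- no element of order 4 -/
  h4 : ∀ g : G, g * g * (g * g) = 1 → g * g = 1
  /-- odd elements of `H` act without fixed points on `U / W` -/
  hfix : ∀ h ∈ H, h ≠ 1 → h ≠ j → ∀ u ∈ U, u⁻¹ * (h * u * h⁻¹) ∈ W → u ∈ W
  hsemi : ∀ h ∈ H, h ≠ 1 → ∀ w ∈ W, h * w * h⁻¹ = w → w = 1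

variable {G : Type*} [Group G] (S : Setup G)

namespace Setup

theorem tinv : S.t⁻¹ = S.t := by
  rw [inv_eq_iff_mul_eq_one]; exact S.htt

theorem jinv : S.j⁻¹ = S.j := by
  rw [inv_eq_iff_mul_eq_one]; exact S.hjj

theorem tj : S.t * S.j = S.j * S.t := by
  rw [S.htH _ S.hj, S.jinv]

theorem ht {h : G} (hh : h ∈ S.H) : h * S.t = S.t * h⁻¹ := by
  have := S.htH h⁻¹ (inv_mem hh)
  rw [inv_inv] at this
  exact this.symm

theorem tt (x : G) : S.t * (S.t * x) = x := by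
  rw [← mul_assoc, S.htt, one_mul]

theorem jj (x : G) : S.j * (S.j * x) = x := by
  rw [← mul_assoc, S.hjj, one_mul]

theorem uniq {u h v u' h' v' : G} (hu : u ∈ S.U) (hh : h ∈ S.H) (hv : v ∈ S.U)
    (hu' : u' ∈ S.U) (hh' : h' ∈ S.H) (hv' : v' ∈ S.U)
    (e : u * S.t * h * v = u' * S.t * h' * v') : u = u' ∧ h = h' ∧ v = v' := by
  have h1 : S.t * (u'⁻¹ * u) * S.t = h' * v' * v⁻¹ * h⁻¹ := by
    have : u'⁻¹ * u * S.t = S.t * (h' * v' * v⁻¹ * h⁻¹) := by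
      calc u'⁻¹ * u * S.t = u'⁻¹ * (u * S.t * h * v) * v⁻¹ * h⁻¹ := by group
        _ = u'⁻¹ * (u' * S.t * h' * v') * v⁻¹ * h⁻¹ := by rw [e]
        _ = S.t * (h' * v' * v⁻¹ * h⁻¹) := by group
    calc S.t * (u'⁻¹ * u) * S.t = S.t * (u'⁻¹ * u * S.t) := by group
      _ = _ := by rw [this, S.tt]
  have h2 : u'⁻¹ * u ∈ S.H := by
    apply S.hBt _ (mul_mem (inv_mem (S.hUB hu')) (S.hUB hu))
    rw [h1]
    exact mul_mem (mul_mem (mul_mem (S.hHB hh') (S.hUB hv')) (inv_mem (S.hUB hv)))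
      (inv_mem (S.hHB hh))
  have h3 : u'⁻¹ * u = 1 := S.hUH _ (mul_mem (inv_mem hu') hu) h2
  have h4 : u = u' := by
    rw [inv_mul_eq_one] at h3; exact h3.symm
  subst h4
  have h5 : h * v = h' * v' := by
    have : u * S.t * (h * v) = u * S.t * (h' * v') := by
      simpa only [mul_assoc] using e
    exact mul_left_cancel this
  have h6 : h'⁻¹ * h = v' * v⁻¹ := by
    rw [inv_mul_eq_iff_eq_mul, ← mul_assoc, ← h5]; group
  have h7 : h'⁻¹ * h = 1 := by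
    apply S.hUH _ _ (mul_mem (inv_mem hh') hh)
    rw [h6]; exact mul_mem hv' (inv_mem hv)
  have h8 : h = h' := by
    rw [inv_mul_eq_one] at h7; exact h7.symm
  subst h8
  exact ⟨rfl, rfl, mul_left_cancel h5⟩

theorem nf {u : G} (hu : u ∈ S.U) (hu1 : u ≠ 1) :
    ∃ a ∈ S.U, ∃ h ∈ S.H, ∃ b ∈ S.U, S.t * u * S.t = a * S.t * h * b := by
  have h1 : S.t * u * S.t ∉ S.B := by
    intro h
    exact hu1 (S.hUH u hu (S.hBt u (S.hUB hu) h))
  obtain ⟨a, ha, b, hb, e⟩ := S.hBruhat _ h1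
  obtain ⟨h, hh, v, hv, rfl⟩ := S.hB b hb
  exact ⟨a, ha, h, hh, v, hv, by rw [e]; group⟩

theorem jW {w : G} (hw : w ∈ S.W) : S.j * w * S.j = w⁻¹ := ((S.hW w).1 hw).2

theorem WU {w : G} (hw : w ∈ S.W) : w ∈ S.U := ((S.hW w).1 hw).1

/-- `H` normalises `U`. -/
theorem HU {h u : G} (hh : h ∈ S.H) (hu : u ∈ S.U) : h * u * h⁻¹ ∈ S.U :=
  S.hUn h (S.hHB hh) u hu

theorem HU' {h u : G} (hh : h ∈ S.H) (hu : u ∈ S.U) : h⁻¹ * u * h ∈ S.U := by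
  simpa using S.HU (inv_mem hh) hu

theorem jU {u : G} (hu : u ∈ S.U) : S.j * u * S.j ∈ S.U := by
  have := S.HU S.hj hu
  rwa [S.jinv] at this

theorem HW {h w : G} (hh : h ∈ S.H) (hw : w ∈ S.W) : h * w * h⁻¹ ∈ S.W := by
  rw [S.hW]
  refine ⟨S.HU hh (S.WU hw), ?_⟩
  have h1 := S.hHc _ hh _ S.hj
  have h2 : h⁻¹ * S.j = S.j * h⁻¹ := by
    rw [inv_mul_eq_iff_eq_mul, ← mul_assoc, h1]; group
  calc S.j * (h * w * h⁻¹) * S.j = (S.j * h) * w * (h⁻¹ * S.j) := by group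
    _ = (h * S.j) * w * (S.j * h⁻¹) := by rw [h1, h2]
    _ = h * (S.j * w * S.j) * h⁻¹ := by group
    _ = (h * w * h⁻¹)⁻¹ := by rw [S.jW hw]; group

theorem HW' {h w : G} (hh : h ∈ S.H) (hw : w ∈ S.W) : h⁻¹ * w * h ∈ S.W := by
  simpa using S.HW (inv_mem hh) hw

/-- If `v` is inverted by `j` and `t v t = a t h b` then `a^j = b⁻¹`. -/
theorem inv_nf {v a h b : G} (hv : v ∈ S.W) (ha : a ∈ S.U) (hh : h ∈ S.H) (hb : b ∈ S.U)
    (e : S.t * v * S.t = a * S.t * h * b) : S.j * a * S.j = b⁻¹ := by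
  have e1 : S.t * v⁻¹ * S.t = b⁻¹ * S.t * h * a⁻¹ := by
    calc S.t * v⁻¹ * S.t = (S.t⁻¹ * v * S.t⁻¹)⁻¹ := by group
      _ = (a * S.t * h * b)⁻¹ := by rw [S.tinv, e]
      _ = b⁻¹ * (h⁻¹ * S.t⁻¹) * a⁻¹ := by group
      _ = b⁻¹ * (S.t * h) * a⁻¹ := by rw [S.tinv, S.htH h hh]
      _ = _ := by group
  have hjh : h * S.j = S.j * h := S.hHc _ hh _ S.hj
  have e2 : S.t * v⁻¹ * S.t = (S.j * a * S.j) * S.t * h * (S.j * b * S.j) := by
    calc S.t * v⁻¹ * S.t = S.t * (S.j * v * S.j) * S.t := by rw [S.jW hv]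
      _ = (S.t * S.j) * v * (S.j * S.t) := by group
      _ = (S.j * S.t) * v * (S.t * S.j) := by rw [S.tj]
      _ = S.j * (S.t * v * S.t) * S.j := by group
      _ = S.j * (a * S.t * h * b) * S.j := by rw [e]
      _ = S.j * a * S.j * (S.j⁻¹ * S.t * h * b * S.j) := by group
      _ = S.j * a * S.j * (S.t * S.j * h * b * S.j) := by rw [S.jinv, S.tj]
      _ = S.j * a * S.j * (S.t * (S.j * h) * b * S.j) := by group
      _ = S.j * a * S.j * (S.t * (h * S.j) * b * S.j) := by rw [hjh]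
      _ = _ := by group
  exact (S.uniq (S.jU ha) hh (S.jU hb) (inv_mem hb) hh (inv_mem ha) (e2.symm.trans e1)).1

/-- The set-up with `t` replaced by `t h`. -/
def twist {h : G} (hh : h ∈ S.H) : Setup G :=
  { S with
    t := S.t * h
    htB := fun h1 => S.htB (by
      have := mul_mem h1 (inv_mem (S.hHB hh))
      simpa using this)
    htt := by
      rw [S.htH h hh]
      calc h⁻¹ * S.t * (h⁻¹ * S.t) = h⁻¹ * (S.t * h⁻¹) * S.t := by group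
        _ = h⁻¹ * (h * S.t) * S.t := by rw [S.ht hh]
        _ = S.t * S.t := by group
        _ = 1 := S.htt
    htH := fun x hx => by
      calc S.t * h * x = S.t * (h * x) := by group
        _ = S.t * (x * h) := by rw [S.hHc _ hh _ hx]
        _ = (S.t * x) * h := by group
        _ = x⁻¹ * S.t * h := by rw [S.htH x hx]
        _ = _ := by group
    hBt := fun x hx h1 => by
      have e : S.t * h * x * (S.t * h) = S.t * (h * x) * S.t * h := by group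
      have h2 : S.t * (h * x) * S.t ∈ S.B := by
        have := mul_mem h1 (inv_mem (S.hHB hh))
        rw [e] at this
        simpa using this
      have h3 := S.hBt _ (mul_mem (S.hHB hh) hx) h2
      have := mul_mem (inv_mem hh) h3
      simpa using this
    hBruhat := fun g hg => by
      obtain ⟨u, hu, b, hb, e⟩ := S.hBruhat g hg
      exact ⟨u, hu, h⁻¹ * b, mul_mem (inv_mem (S.hHB hh)) hb, by rw [e]; group⟩ }

/-- Step 1: an element `u₀ ≠ 1` of `W` and `t h` with `(t h u₀)³ = 1`. -/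
theorem step1 {z : G} (hz : z ∈ S.W) (hz1 : z ≠ 1) (hz3 : z * z * z = 1) :
    ∃ h ∈ S.H, ∃ u ∈ S.W, u ≠ 1 ∧ (S.t * h) * u * (S.t * h) = u⁻¹ * (S.t * h) * u⁻¹ := by
  obtain ⟨a, ha, h, hh, b, hb, e⟩ := S.nf (S.WU hz) hz1
  have h1 := S.inv_nf hz ha hh hb e
  have e1 : S.t * z⁻¹ * S.t = b⁻¹ * S.t * h * a⁻¹ := by
    calc S.t * z⁻¹ * S.t = (S.t⁻¹ * z * S.t⁻¹)⁻¹ := by group
      _ = (a * S.t * h * b)⁻¹ := by rw [S.tinv, e]
      _ = b⁻¹ * (h⁻¹ * S.t⁻¹) * a⁻¹ := by group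
      _ = b⁻¹ * (S.t * h) * a⁻¹ := by rw [S.tinv, S.htH h hh]
      _ = _ := by group
  have hzz : z * z = z⁻¹ := by
    rw [eq_inv_iff_mul_eq_one]; exact hz3
  have e2 : (a * S.t * h * b) * (a * S.t * h * b) = b⁻¹ * S.t * h * a⁻¹ := by
    rw [← e1, ← hzz, ← e]
    calc S.t * z * S.t * (S.t * z * S.t) = S.t * z * (S.t * S.t) * z * S.t := by group
      _ = _ := by rw [S.htt]; group
  have e3 : (S.t * h) * (b * a) * (S.t * h) = (b * a)⁻¹ * (S.t * h) * (b * a)⁻¹ := by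
    calc (S.t * h) * (b * a) * (S.t * h)
        = a⁻¹ * ((a * S.t * h * b) * (a * S.t * h * b)) * b⁻¹ := by group
      _ = a⁻¹ * (b⁻¹ * S.t * h * a⁻¹) * b⁻¹ := by rw [e2]
      _ = _ := by group
  have hb' : b = (S.j * a * S.j)⁻¹ := by rw [h1, inv_inv]
  refine ⟨h, hh, b * a, ?_, ?_, e3⟩
  · rw [S.hW]
    refine ⟨mul_mem hb ha, ?_⟩
    have : S.j * b * S.j = a⁻¹ := by
      rw [hb']
      calc S.j * (S.j * a * S.j)⁻¹ * S.j = (S.j * S.j⁻¹) * a⁻¹ * (S.j⁻¹ * S.j) := by group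
        _ = a⁻¹ := by group
    calc S.j * (b * a) * S.j = (S.j * b * S.j) * (S.j⁻¹ * a * S.j) := by group
      _ = a⁻¹ * (S.j * a * S.j) := by rw [this, S.jinv]
      _ = (b * a)⁻¹ := by rw [h1]; group
  · intro hba
    rw [hba] at e3
    simp only [mul_one, inv_one, one_mul] at e3
    have e4 : S.t * h = 1 := by
      have := mul_left_cancel (a := S.t * h) (b := S.t * h) (c := 1) (by rw [e3, mul_one])
      exact this
    apply S.htB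
    have : S.t = h⁻¹ := by rw [eq_inv_iff_mul_eq_one]; exact e4
    rw [this]; exact inv_mem (S.hHB hh)

/-- Step 2: `u₀³ ≠ 1`. -/
theorem step2 {u : G} (hu : u ∈ S.W) (e : S.t * u * S.t = u⁻¹ * S.t * u⁻¹) : u * u * u ≠ 1 := by
  intro h3
  have huu : u * u = u⁻¹ := by rw [eq_inv_iff_mul_eq_one]; exact h3
  have e' : S.t * u⁻¹ * S.t = u * S.t * u := by
    calc S.t * u⁻¹ * S.t = (S.t⁻¹ * u * S.t⁻¹)⁻¹ := by group
      _ = (u⁻¹ * S.t * u⁻¹)⁻¹ := by rw [S.tinv, e]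
      _ = u * S.t⁻¹ * u := by group
      _ = _ := by rw [S.tinv]
  have hju := S.jW hu
  have hju' : S.j * u⁻¹ * S.j = u := by
    rw [← hju]
    calc S.j * (S.j * u * S.j) * S.j = (S.j * S.j) * u * (S.j * S.j) := by group
      _ = u := by rw [S.hjj]; group
  have e2 : (S.j * (u * S.t * u⁻¹)) * (S.j * (u * S.t * u⁻¹)) = S.t := by
    calc (S.j * (u * S.t * u⁻¹)) * (S.j * (u * S.t * u⁻¹))
        = (S.j * u * S.j) * (S.j⁻¹ * S.t) * S.j⁻¹ * (S.j * u⁻¹ * S.j) * u * S.t * u⁻¹ := by group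
      _ = u⁻¹ * (S.j * S.t) * S.j * u * u * S.t * u⁻¹ := by rw [hju, hju', S.jinv]
      _ = u⁻¹ * (S.t * S.j) * S.j * u * u * S.t * u⁻¹ := by rw [S.tj]
      _ = u⁻¹ * S.t * (S.j * S.j) * (u * u) * S.t * u⁻¹ := by group
      _ = u⁻¹ * (S.t * u⁻¹ * S.t) * u⁻¹ := by rw [S.hjj, huu]; group
      _ = S.t := by rw [e']; group
  have e3 := S.h4 (S.j * (u * S.t * u⁻¹)) (by rw [e2, S.htt])
  rw [e2] at e3
  apply S.htB
  rw [e3]; exact one_mem _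

/-- Step 3: if `v` and its partner `b` lie in `W` then `v = b' a'` for the normal form
`t z t = a' t h' b'` of an element `z ∈ W` of order `3`. -/
theorem step3 {v a k b : G} (hv : v ∈ S.W) (ha : a ∈ S.U) (hk : k ∈ S.H)
    (hb : b ∈ S.W) (e : S.t * v * S.t = a * S.t * k * b) :
    ∃ z ∈ S.W, z ≠ 1 ∧ z * z * z = 1 ∧ ∃ a' ∈ S.U, ∃ h' ∈ S.H, ∃ b' ∈ S.U,
      S.t * z * S.t = a' * S.t * h' * b' ∧ v = b' * a' := by
  have h1 := S.inv_nf hv ha hk (S.WU hb) e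
  have hab : a = b := by
    have : a = S.j * b⁻¹ * S.j := by
      rw [← h1]
      calc a = (S.j * S.j) * a * (S.j * S.j) := by rw [S.hjj]; group
        _ = _ := by group
    rw [this, ← S.jW hb]
    calc S.j * (S.j * b * S.j) * S.j = (S.j * S.j) * b * (S.j * S.j) := by group
      _ = b := by rw [S.hjj]; group
  have h2 : S.t * b * S.t = (k * a⁻¹ * k⁻¹) * S.t * k⁻¹ * v := by
    have : b = k⁻¹ * S.t * a⁻¹ * (S.t * v * S.t) := by
      rw [e]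
      calc b = k⁻¹ * (S.t * S.t) * k * b := by rw [S.htt]; group
        _ = _ := by group
    calc S.t * b * S.t = S.t * (k⁻¹ * S.t * a⁻¹ * (S.t * v * S.t)) * S.t := by rw [← this]
      _ = S.t * (k⁻¹ * S.t) * a⁻¹ * S.t * v * (S.t * S.t) := by group
      _ = S.t * (S.t * k) * a⁻¹ * S.t * v := by rw [S.htt, S.ht (inv_mem hk), inv_inv]; group
      _ = (S.t * S.t) * k * a⁻¹ * S.t * v := by group
      _ = k * a⁻¹ * k⁻¹ * (k * S.t) * v := by rw [S.htt]; group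
      _ = k * a⁻¹ * k⁻¹ * (S.t * k⁻¹) * v := by rw [S.ht hk]
      _ = _ := by group
  have h3 : k * a⁻¹ * k⁻¹ = v := by
    have h4 := S.inv_nf hb (S.HU hk (inv_mem ha)) (inv_mem hk) (S.WU hv) h2
    rw [← S.jW hv] at h4
    exact mul_left_cancel (mul_right_cancel h4)
  -- `s = t k⁻¹`, `(s v)³ = 1`
  have h4 : (S.t * k⁻¹) * v * (S.t * k⁻¹) = v⁻¹ * (S.t * k⁻¹) * v⁻¹ := by
    have h5 : S.t * b * S.t = v * S.t * k⁻¹ * v := by rw [h2, h3]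
    calc (S.t * k⁻¹) * v * (S.t * k⁻¹)
        = (S.t * k⁻¹) * (k * a⁻¹ * k⁻¹) * (S.t * k⁻¹) := by rw [h3]
      _ = S.t * a⁻¹ * (k⁻¹ * S.t) * k⁻¹ := by group
      _ = S.t * a⁻¹ * (S.t * k) * k⁻¹ := by rw [S.ht (inv_mem hk), inv_inv]
      _ = (S.t⁻¹ * b * S.t⁻¹)⁻¹ := by rw [hab]; group
      _ = (v * S.t * k⁻¹ * v)⁻¹ := by rw [S.tinv, h5]
      _ = v⁻¹ * (k * S.t⁻¹) * v⁻¹ := by group
      _ = _ := by rw [S.tinv, S.ht hk]
  have hss : (S.t * k⁻¹) * (S.t * k⁻¹) = 1 := by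
    calc (S.t * k⁻¹) * (S.t * k⁻¹) = (S.t * k⁻¹) * (k * S.t) := by rw [S.ht hk]
      _ = S.t * S.t := by group
      _ = 1 := S.htt
  have hg3 : (S.t * k⁻¹ * v) * (S.t * k⁻¹ * v) * (S.t * k⁻¹ * v) = 1 := by
    calc (S.t * k⁻¹ * v) * (S.t * k⁻¹ * v) * (S.t * k⁻¹ * v)
        = ((S.t * k⁻¹) * v * (S.t * k⁻¹)) * v * (S.t * k⁻¹) * v := by group
      _ = v⁻¹ * ((S.t * k⁻¹) * (S.t * k⁻¹)) * v := by rw [h4]; group
      _ = 1 := by rw [hss]; group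
  have hgB : S.t * k⁻¹ * v ∉ S.B := by
    intro h
    apply S.htB
    have := mul_mem h (inv_mem (mul_mem (inv_mem (S.hHB hk)) (S.hUB (S.WU hv))))
    have e5 : S.t * k⁻¹ * v * (k⁻¹ * v)⁻¹ = S.t := by group
    rwa [e5] at this
  obtain ⟨c, u', hu', hc⟩ := S.hS3 _ hg3
  have hcB : c ∉ S.B := by
    intro h
    apply hgB
    rw [hc]
    exact mul_mem (mul_mem h (S.hUB hu')) (inv_mem h)
  obtain ⟨y, hy, b', hb', hcc⟩ := S.hBruhat c hcB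
  obtain ⟨z, hz, hgz⟩ : ∃ z ∈ S.U, S.t * k⁻¹ * v = y * (S.t * z * S.t) * y⁻¹ :=
    ⟨b' * u' * b'⁻¹, S.hUn b' hb' u' hu', by
      rw [hc, hcc]
      calc y * S.t * b' * u' * (y * S.t * b')⁻¹
          = y * (S.t * (b' * u' * b'⁻¹) * S.t⁻¹) * y⁻¹ := by group
        _ = _ := by rw [S.tinv]⟩
  have hz1 : z ≠ 1 := by
    rintro rfl
    apply hgB
    rw [hgz]
    have : y * (S.t * 1 * S.t) * y⁻¹ = 1 := by rw [mul_one, S.htt]; group
    rw [this]; exact one_mem _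
  have hgz' : z = S.t * (y⁻¹ * (S.t * k⁻¹ * v) * y) * S.t := by
    rw [hgz]
    calc z = (S.t * S.t) * z * (S.t * S.t) := by rw [S.htt]; group
      _ = _ := by group
  have hz3 : z * z * z = 1 := by
    rw [hgz']
    calc S.t * (y⁻¹ * (S.t * k⁻¹ * v) * y) * S.t * (S.t * (y⁻¹ * (S.t * k⁻¹ * v) * y) * S.t) *
        (S.t * (y⁻¹ * (S.t * k⁻¹ * v) * y) * S.t)
        = S.t * (y⁻¹ * (S.t * k⁻¹ * v) * y) * (S.t * S.t) * ((y⁻¹ * (S.t * k⁻¹ * v) * y)) *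
        (S.t * S.t) * (y⁻¹ * (S.t * k⁻¹ * v) * y) * S.t := by group
      _ = S.t * y⁻¹ * ((S.t * k⁻¹ * v) * (S.t * k⁻¹ * v) * (S.t * k⁻¹ * v)) * y * S.t := by
        rw [S.htt]; group
      _ = S.t * S.t := by rw [hg3]; group
      _ = 1 := S.htt
  -- the involution `τ = y⁻¹ (j v) y`
  have hτ0 : (S.j * v) * (S.t * k⁻¹ * v) * (S.j * v) = (S.t * k⁻¹ * v)⁻¹ := by
    have hjv : S.j * v * S.j = v⁻¹ := S.jW hv
    have hsj : S.j * (S.t * k⁻¹) = (S.t * k⁻¹) * S.j := by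
      calc S.j * (S.t * k⁻¹) = (S.j * S.t) * k⁻¹ := by group
        _ = (S.t * S.j) * k⁻¹ := by rw [S.tj]
        _ = S.t * (S.j * k⁻¹) := by group
        _ = S.t * (k⁻¹ * S.j) := by rw [S.hHc _ S.hj _ (inv_mem hk)]
        _ = _ := by group
    calc (S.j * v) * (S.t * k⁻¹ * v) * (S.j * v)
        = (S.j * v * S.j) * (S.j⁻¹ * (S.t * k⁻¹)) * v * S.j * v := by group
      _ = v⁻¹ * (S.t * k⁻¹ * S.j) * v * S.j * v := by rw [hjv, S.jinv, hsj]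
      _ = v⁻¹ * (S.t * k⁻¹) * (S.j * v * S.j) * v := by group
      _ = v⁻¹ * (S.t * k⁻¹) := by rw [hjv]; group
      _ = v⁻¹ * (S.t * k⁻¹)⁻¹ := by
        congr 1
        rw [eq_inv_iff_mul_eq_one]; exact hss
      _ = _ := by group
  have hjv2 : (S.j * v) * (S.j * v) = 1 := by
    calc (S.j * v) * (S.j * v) = (S.j * v * S.j) * v := by group
      _ = 1 := by rw [S.jW hv]; group
  have hτB : y⁻¹ * (S.j * v) * y ∈ S.B :=
    mul_mem (mul_mem (inv_mem (S.hUB hy)) (mul_mem (S.hHB S.hj) (S.hUB (S.WU hv)))) (S.hUB hy)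
  have hτz : (S.t * (y⁻¹ * (S.j * v) * y) * S.t) * z * (S.t * (y⁻¹ * (S.j * v) * y) * S.t)⁻¹
      = z⁻¹ := by
    have hi : (S.t * (y⁻¹ * (S.j * v) * y) * S.t)⁻¹ = S.t * (y⁻¹ * (S.j * v) * y) * S.t := by
      rw [inv_eq_iff_mul_eq_one]
      calc S.t * (y⁻¹ * (S.j * v) * y) * S.t * (S.t * (y⁻¹ * (S.j * v) * y) * S.t)
          = S.t * (y⁻¹ * (S.j * v) * y) * (S.t * S.t) * (y⁻¹ * (S.j * v) * y) * S.t := by group
        _ = S.t * y⁻¹ * ((S.j * v) * (S.j * v)) * y * S.t := by rw [S.htt]; group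
        _ = S.t * S.t := by rw [hjv2]; group
        _ = 1 := S.htt
    rw [hi]
    have hz' : z⁻¹ = S.t * (y⁻¹ * (S.t * k⁻¹ * v)⁻¹ * y) * S.t := by
      calc z⁻¹ = (S.t * (y⁻¹ * (S.t * k⁻¹ * v) * y) * S.t)⁻¹ := by rw [← hgz']
        _ = S.t⁻¹ * (y⁻¹ * (S.t * k⁻¹ * v)⁻¹ * y) * S.t⁻¹ := by group
        _ = _ := by rw [S.tinv]
    rw [hz']
    conv_lhs => rw [hgz']
    calc S.t * (y⁻¹ * (S.j * v) * y) * S.t * (S.t * (y⁻¹ * (S.t * k⁻¹ * v) * y) * S.t) *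
        (S.t * (y⁻¹ * (S.j * v) * y) * S.t)
        = S.t * (y⁻¹ * (S.j * v) * y) * (S.t * S.t) * (y⁻¹ * (S.t * k⁻¹ * v) * y) * (S.t * S.t) *
        (y⁻¹ * (S.j * v) * y) * S.t := by group
      _ = S.t * (y⁻¹ * ((S.j * v) * (S.t * k⁻¹ * v) * (S.j * v)) * y) * S.t := by
        rw [S.htt]; group
      _ = _ := by rw [hτ0]
  have hτH : y⁻¹ * (S.j * v) * y ∈ S.H := by
    apply S.hBt _ hτB
    apply S.hTI _ z hz hz1
    rw [hτz]; exact inv_mem hz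
  have hτj : y⁻¹ * (S.j * v) * y = S.j := by
    apply S.hju _ hτH
    · calc y⁻¹ * (S.j * v) * y * (y⁻¹ * (S.j * v) * y)
          = y⁻¹ * ((S.j * v) * (S.j * v)) * y := by group
        _ = 1 := by rw [hjv2]; group
    · intro h
      have h5 : S.j * v = 1 := by
        have : S.j * v = y * (y⁻¹ * (S.j * v) * y) * y⁻¹ := by group
        rw [this, h]; group
      have h6 : S.j = v⁻¹ := by rw [eq_inv_iff_mul_eq_one]; exact h5
      exact S.hj1 (S.hUH _ (by rw [h6]; exact inv_mem (S.WU hv)) S.hj)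
  rw [hτj] at hτz
  have hzW : z ∈ S.W := by
    rw [S.hW]
    refine ⟨hz, ?_⟩
    have : S.t * S.j * S.t = S.j := by rw [S.tj, mul_assoc, S.htt, mul_one]
    rw [this, S.jinv] at hτz
    exact hτz
  obtain ⟨a', ha', h', hh', b'', hb'', ez⟩ := S.nf hz hz1
  refine ⟨z, hzW, hz1, hz3, a', ha', h', hh', b'', hb'', ez, ?_⟩
  have e6 : 1 * S.t * k⁻¹ * v = (y * a') * S.t * h' * (b'' * y⁻¹) := by
    rw [one_mul, hgz, ez]; group
  obtain ⟨u1, -, u3⟩ := S.uniq (one_mem _) (inv_mem hk) (S.WU hv) (mul_mem hy ha') hh'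
    (mul_mem hb'' (inv_mem hy)) e6
  have : y⁻¹ = a' := by
    rw [inv_eq_iff_mul_eq_one]; exact u1.symm
  rw [u3, this]

/-- Step 3, second half: all these `v` are conjugate under `H`. -/
theorem step3' (hΩ : ∀ z ∈ S.W, z * z * z = 1 → z ≠ 1 → ∀ z' ∈ S.W, z' * z' * z' = 1 → z' ≠ 1 →
      ∃ h ∈ S.H, z' = h * z * h⁻¹)
    {v a k b v' a' k' b' : G} (hv : v ∈ S.W) (ha : a ∈ S.U) (hk : k ∈ S.H)
    (hb : b ∈ S.W) (e : S.t * v * S.t = a * S.t * k * b)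
    (hv' : v' ∈ S.W) (ha' : a' ∈ S.U) (hk' : k' ∈ S.H)
    (hb' : b' ∈ S.W) (e' : S.t * v' * S.t = a' * S.t * k' * b') :
    ∃ h ∈ S.H, v' = h * v * h⁻¹ := by
  obtain ⟨z, hz, hz1, hz3, c, hc, l, hl, d, hd, f, rfl⟩ := S.step3 hv ha hk hb e
  obtain ⟨z', hz', hz1', hz3', c', hc', l', hl', d', hd', f', rfl⟩ :=
    S.step3 hv' ha' hk' hb' e'
  obtain ⟨x, hx, rfl⟩ := hΩ z hz hz3 hz1 z' hz' hz3' hz1'
  have e1 : S.t * (x * z * x⁻¹) * S.t =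
      (x⁻¹ * c * x) * S.t * (x * l * x) * (x⁻¹ * d * x) := by
    calc S.t * (x * z * x⁻¹) * S.t = (S.t * x) * z * (x⁻¹ * S.t) := by group
      _ = (x⁻¹ * S.t) * z * (S.t * x) := by rw [S.htH x hx, S.ht (inv_mem hx), inv_inv]
      _ = x⁻¹ * (S.t * z * S.t) * x := by group
      _ = x⁻¹ * c * (S.t * (l * d)) * x := by rw [f]; group
      _ = x⁻¹ * c * x * (x⁻¹ * S.t) * l * d * x := by group
      _ = x⁻¹ * c * x * (S.t * x) * l * d * x := by rw [S.ht (inv_mem hx), inv_inv]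
      _ = _ := by group
  obtain ⟨u1, -, u3⟩ := S.uniq (S.HU' hx hc) (mul_mem (mul_mem hx hl) hx) (S.HU' hx hd)
    hc' hl' hd' (e1.symm.trans f')
  exact ⟨x⁻¹, inv_mem hx, by rw [← u1, ← u3]; group⟩

/-- Step 4: `u₀ u₀^y` is again one of these elements. -/
theorem step4 (hΩ : ∀ z ∈ S.W, z * z * z = 1 → z ≠ 1 → ∀ z' ∈ S.W, z' * z' * z' = 1 → z' ≠ 1 →
      ∃ h ∈ S.H, z' = h * z * h⁻¹)
    {u : G} (hu : u ∈ S.W) (hu1 : u ≠ 1) (e : S.t * u * S.t = u⁻¹ * S.t * u⁻¹)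
    {y : G} (hy : y ∈ S.H) (hy1 : y ≠ 1) (hyj : y ≠ S.j) :
    ∃ h ∈ S.H, u * (y⁻¹ * u * y) = h * u * h⁻¹ := by
  have hyjH : y * S.j ∈ S.H := mul_mem hy S.hj
  have hyj1 : y * S.j ≠ 1 := by
    intro h
    apply hyj
    rw [mul_eq_one_iff_eq_inv, S.jinv] at h
    exact h
  have hyjj : y * S.j ≠ S.j := by
    intro h
    apply hy1
    exact mul_right_cancel (h.trans (one_mul _).symm)
  have hvW : u * (y⁻¹ * u * y) ∈ S.W := mul_mem hu (S.HW' hy hu)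
  have hv1 : u * (y⁻¹ * u * y) ≠ 1 := by
    intro h
    -- then `y j` commutes with `u`
    have h2 : y⁻¹ * u * y = u⁻¹ := (inv_eq_of_mul_eq_one_right h).symm
    apply hu1
    apply S.hsemi _ hyjH hyj1 u hu
    have h3 : u = y * u⁻¹ * y⁻¹ := by rw [← h2]; group
    calc y * S.j * u * (y * S.j)⁻¹ = y * (S.j * u * S.j⁻¹) * y⁻¹ := by group
      _ = y * u⁻¹ * y⁻¹ := by rw [S.jinv, S.jW hu]
      _ = u := h3.symm
  obtain ⟨a, ha, k, hk, b, hb, ev⟩ := S.nf (S.WU hvW) hv1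
  -- first expression of `t v t`
  have e1 : S.t * (u * (y⁻¹ * u * y)) * S.t
      = u⁻¹ * (S.t * (u⁻¹ * (y * u⁻¹ * y⁻¹)) * S.t) * (y⁻¹ * u⁻¹ * y⁻¹) := by
    calc S.t * (u * (y⁻¹ * u * y)) * S.t
        = (S.t * u * S.t) * (S.t⁻¹ * y⁻¹) * u * (y * S.t) := by group
      _ = (u⁻¹ * S.t * u⁻¹) * (y * S.t) * u * (S.t * y⁻¹) := by
        rw [e, S.tinv, S.htH _ (inv_mem hy), inv_inv, S.ht hy]
      _ = (u⁻¹ * S.t * u⁻¹) * y * (S.t * u * S.t) * y⁻¹ := by group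
      _ = (u⁻¹ * S.t * u⁻¹) * y * (u⁻¹ * S.t * u⁻¹) * y⁻¹ := by rw [e]
      _ = u⁻¹ * S.t * (u⁻¹ * (y * u⁻¹ * y⁻¹)) * (y * S.t) * u⁻¹ * y⁻¹ := by group
      _ = u⁻¹ * S.t * (u⁻¹ * (y * u⁻¹ * y⁻¹)) * (S.t * y⁻¹) * u⁻¹ * y⁻¹ := by rw [S.ht hy]
      _ = _ := by group
  -- `v' = y j v j y⁻¹`
  have hjv := S.jW hvW
  have e2 : u⁻¹ * (y * u⁻¹ * y⁻¹) = y * (S.j * (u * (y⁻¹ * u * y)) * S.j) * y⁻¹ := by
    rw [hjv]; group
  have hyjt : S.t * (y * S.j) = (S.j * y⁻¹) * S.t := by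
    rw [S.htH _ hyjH, mul_inv_rev, S.jinv]
  have hyjt' : (S.j * y⁻¹) * S.t = S.t * (y * S.j) := hyjt.symm
  have e3 : S.t * (u⁻¹ * (y * u⁻¹ * y⁻¹)) * S.t
      = (y⁻¹ * (S.j * a * S.j) * y) * S.t * (y * k * y) * (y⁻¹ * (S.j * b * S.j) * y) := by
    have hyj' : S.j * y⁻¹ = y⁻¹ * S.j := S.hHc _ S.hj _ (inv_mem hy)
    have hyj'' : y * S.j = S.j * y := S.hHc _ hy _ S.hj
    have hkj : S.j * k = k * S.j := S.hHc _ S.hj _ hk
    rw [e2]
    calc S.t * (y * (S.j * (u * (y⁻¹ * u * y)) * S.j) * y⁻¹) * S.t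
        = (S.t * (y * S.j)) * (u * (y⁻¹ * u * y)) * ((S.j * y⁻¹) * S.t) := by group
      _ = ((S.j * y⁻¹) * S.t) * (u * (y⁻¹ * u * y)) * (S.t * (y * S.j)) := by rw [hyjt]
      _ = (S.j * y⁻¹) * (S.t * (u * (y⁻¹ * u * y)) * S.t) * (y * S.j) := by group
      _ = (y⁻¹ * S.j) * (a * S.t * k * b) * (S.j * y) := by rw [ev, hyj', hyj'']
      _ = y⁻¹ * (S.j * a * S.j) * (S.j⁻¹ * S.t) * k * b * (S.j * y) := by group
      _ = y⁻¹ * (S.j * a * S.j) * (S.t * S.j) * k * b * (S.j * y) := by rw [S.jinv, S.tj]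
      _ = y⁻¹ * (S.j * a * S.j) * S.t * (S.j * k) * b * (S.j * y) := by group
      _ = y⁻¹ * (S.j * a * S.j) * y * (y⁻¹ * S.t) * k * (S.j * b * S.j) * y := by
        rw [hkj]; group
      _ = y⁻¹ * (S.j * a * S.j) * y * (S.t * y) * k * (S.j * b * S.j) * y := by
        rw [S.ht (inv_mem hy), inv_inv]
      _ = _ := by group
  have hyk : y * k = k * y := S.hHc _ hy _ hk
  have e4 : S.t * (u * (y⁻¹ * u * y)) * S.t
      = (u⁻¹ * (y⁻¹ * (S.j * a * S.j) * y)) * S.t * k *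
        ((y * (S.j * b * S.j) * y⁻¹) * (y * u⁻¹ * y⁻¹)) := by
    rw [e1, e3]
    calc u⁻¹ * ((y⁻¹ * (S.j * a * S.j) * y) * S.t * (y * k * y) * (y⁻¹ * (S.j * b * S.j) * y)) *
        (y⁻¹ * u⁻¹ * y⁻¹)
        = (u⁻¹ * (y⁻¹ * (S.j * a * S.j) * y)) * S.t * (y * k) * (S.j * b * S.j) * u⁻¹ * y⁻¹ := by
          group
      _ = _ := by rw [hyk]; group
  have hyw : y * u⁻¹ * y⁻¹ ∈ S.W := S.HW hy (inv_mem hu)
  obtain ⟨-, -, u3⟩ := S.uniq ha hk hb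
    (mul_mem (inv_mem (S.WU hu)) (S.HU' hy (S.jU ha))) hk
    (mul_mem (S.HU hy (S.jU hb)) (S.WU hyw)) (ev.symm.trans e4)
  have hbW : b ∈ S.W := by
    apply S.hfix _ hyjH hyj1 hyjj b hb
    have h5 : y * S.j * b * (y * S.j)⁻¹ = b * (y * u⁻¹ * y⁻¹)⁻¹ := by
      rw [eq_mul_inv_iff_mul_eq]
      conv_rhs => rw [u3]
      rw [mul_inv_rev, S.jinv]; group
    rw [h5]
    have : b⁻¹ * (b * (y * u⁻¹ * y⁻¹)⁻¹) = (y * u⁻¹ * y⁻¹)⁻¹ := by group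
    rw [this]; exact inv_mem hyw
  have e' : S.t * u * S.t = u⁻¹ * S.t * 1 * u⁻¹ := by rw [e]; group
  exact S.step3' hΩ hu (inv_mem (S.WU hu)) (one_mem _) (inv_mem hu) e' hvW ha hk hbW ev

/-- Step 5: contradiction in the situation of step 4. -/
theorem step5 (hΩ : ∀ z ∈ S.W, z * z * z = 1 → z ≠ 1 → ∀ z' ∈ S.W, z' * z' * z' = 1 → z' ≠ 1 →
      ∃ h ∈ S.H, z' = h * z * h⁻¹)
    (hex : ∃ y ∈ S.H, y ≠ 1 ∧ y ≠ S.j)
    (hodd : ∀ w ∈ S.W, w * w = 1 → w = 1)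
    (h3p : ∀ w ∈ S.W, ∀ h ∈ S.H, w * w * w = h * w * h⁻¹ → w = 1)
    {u : G} (hu : u ∈ S.W) (hu1 : u ≠ 1) (e : S.t * u * S.t = u⁻¹ * S.t * u⁻¹) : False := by
  -- products of two members of the class
  have key : ∀ a ∈ S.H, ∀ b ∈ S.H, a * u * a⁻¹ ≠ b * u * b⁻¹ → a * u * a⁻¹ ≠ (b * u * b⁻¹)⁻¹ →
      ∃ c ∈ S.H, (a * u * a⁻¹) * (b * u * b⁻¹) = c * u * c⁻¹ := by
    intro a ha b hb h1 h2
    have hy : b⁻¹ * a ∈ S.H := mul_mem (inv_mem hb) ha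
    obtain ⟨h, hh, e1⟩ := S.step4 hΩ hu hu1 e hy (by
      intro h3
      apply h1
      have : a = b := by rw [inv_mul_eq_one] at h3; exact h3.symm
      rw [this]) (by
      intro h3
      apply h2
      have : a = b * S.j := by rw [← h3]; group
      rw [this]
      calc b * S.j * u * (b * S.j)⁻¹ = b * (S.j * u * S.j⁻¹) * b⁻¹ := by group
        _ = _ := by rw [S.jinv, S.jW hu]; group)
    refine ⟨a * h, mul_mem ha hh, ?_⟩
    have hc : (b⁻¹ * a)⁻¹ * u * (b⁻¹ * a) = a⁻¹ * (b * u * b⁻¹) * a := by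
      have : a⁻¹ * b = b * a⁻¹ := S.hHc _ (inv_mem ha) _ hb
      have h' : b⁻¹ * a = a * b⁻¹ := S.hHc _ (inv_mem hb) _ ha
      calc (b⁻¹ * a)⁻¹ * u * (b⁻¹ * a) = (a⁻¹ * b) * u * (b⁻¹ * a) := by group
        _ = a⁻¹ * (b * u * b⁻¹) * a := by group
    rw [hc] at e1
    calc (a * u * a⁻¹) * (b * u * b⁻¹) = a * (u * (a⁻¹ * (b * u * b⁻¹) * a)) * a⁻¹ := by group
      _ = a * (h * u * h⁻¹) * a⁻¹ := by rw [e1]
      _ = _ := by group
  have hconj : ∀ a ∈ S.H, a * u * a⁻¹ ≠ 1 := by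
    intro a _ h
    apply hu1
    have : u = a⁻¹ * (a * u * a⁻¹) * a := by group
    rw [this, h]; group
  obtain ⟨y, hy, hy1, hyj⟩ := hex
  -- `k = y u y⁻¹`, `u k` and `u k⁻¹`
  have hjy : y * S.j ∈ S.H := mul_mem hy S.hj
  have hinv : (y * u * y⁻¹)⁻¹ = (y * S.j) * u * (y * S.j)⁻¹ := by
    calc (y * u * y⁻¹)⁻¹ = y * u⁻¹ * y⁻¹ := by group
      _ = y * (S.j * u * S.j⁻¹) * y⁻¹ := by rw [S.jinv, S.jW hu]
      _ = _ := by group
  have hne1 : y * u * y⁻¹ ≠ u := fun h => hu1 (S.hsemi y hy hy1 u hu h)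
  have hne2 : (y * u * y⁻¹)⁻¹ ≠ u := by
    intro h
    apply hu1
    apply S.hsemi _ hjy _ u hu (hinv.symm.trans h)
    intro h
    apply hyj
    rw [mul_eq_one_iff_eq_inv, S.jinv] at h
    exact h
  have hu11 : u = 1 * u * 1⁻¹ := by group
  have hkW : y * u * y⁻¹ ∈ S.W := S.HW hy hu
  obtain ⟨c, hc, ec⟩ := key 1 (one_mem _) y hy (by rw [← hu11]; exact fun h => hne1 h.symm)
    (by rw [← hu11]; exact fun h => hne2 h.symm)
  obtain ⟨d, hd, ed⟩ := key 1 (one_mem _) (y * S.j) hjy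
    (by rw [← hu11, ← hinv]; exact fun h => hne2 h.symm)
    (by rw [← hu11, ← hinv, inv_inv]; exact fun h => hne1 h.symm)
  rw [← hu11] at ec ed
  rw [← hinv] at ed
  have hcomm : u * (y * u * y⁻¹) = (y * u * y⁻¹) * u := S.hWc _ hu _ hkW
  have hsq : (c * u * c⁻¹) * (d * u * d⁻¹) = u * u := by
    rw [← ec, ← ed]
    calc u * (y * u * y⁻¹) * (u * (y * u * y⁻¹)⁻¹)
        = ((y * u * y⁻¹) * u) * (u * (y * u * y⁻¹)⁻¹) := by rw [hcomm]
      _ = (y * u * y⁻¹) * (u * u) * (y * u * y⁻¹)⁻¹ := by group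
      _ = (u * u) * (y * u * y⁻¹) * (y * u * y⁻¹)⁻¹ := by
        rw [S.hWc _ hkW _ (mul_mem hu hu)]
      _ = _ := by group
  obtain ⟨f, hf, ef⟩ := key c hc d hd (by
      rw [← ec, ← ed]
      intro h
      have h5 : y * u * y⁻¹ = (y * u * y⁻¹)⁻¹ := mul_left_cancel h
      have h6 : (y * u * y⁻¹) * (y * u * y⁻¹) = 1 := by
        nth_rewrite 2 [h5]; group
      exact hconj y hy (hodd _ hkW h6)) (by
      rw [← ec, ← ed]
      intro h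
      apply hu1
      apply hodd u hu
      have h5 : (u * (y * u * y⁻¹)⁻¹)⁻¹ = (y * u * y⁻¹) * u⁻¹ := by group
      rw [h5, hcomm] at h
      have h6 : u = u⁻¹ := mul_left_cancel h
      nth_rewrite 2 [h6]; group)
  rw [hsq] at ef
  -- `u² = f u f⁻¹`
  obtain ⟨g, hg, eg⟩ := key f hf 1 (one_mem _) (by
      rw [← hu11, ← ef]
      intro h
      apply hu1
      have : u * u = u * 1 := by rw [h, mul_one]
      exact mul_left_cancel this) (by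
      rw [← hu11, ← ef]
      intro h
      apply S.step2 hu e
      rw [h]; group)
  rw [← hu11, ← ef] at eg
  exact hu1 (h3p u hu g hg eg)

/-- **The class two case is impossible.** -/
theorem false (Z : Subgroup G) (hZW : Z ≤ S.W) (hU3 : IsPGroup 3 S.U)
    (hZ3 : ∀ z ∈ Z, z * z * z = 1) (hZ1 : ∃ z ∈ Z, z ≠ 1)
    (hZt : ∀ z ∈ Z, z ≠ 1 → ∀ z' ∈ Z, z' ≠ 1 → ∃ h ∈ S.H, z' = h * z * h⁻¹)
    (hWt : ∀ w ∈ S.W, w ∉ Z → ∀ w' ∈ S.W, w' ∉ Z → ∃ h ∈ S.H, ∃ z ∈ Z, w' = (h * w * h⁻¹) * z)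
    (hex : ∃ y ∈ S.H, y ≠ 1 ∧ y ≠ S.j) : False := by
  have hord : ∀ w ∈ S.W, ∃ k, orderOf w = 3 ^ k := by
    intro w hw
    obtain ⟨k, hk⟩ := hU3 ⟨w, S.WU hw⟩
    have h1 : w ^ 3 ^ k = 1 := by
      have := congrArg (Subtype.val : S.U → G) hk
      simpa using this
    obtain ⟨m, -, hm⟩ := (Nat.dvd_prime_pow Nat.prime_three).1 (orderOf_dvd_of_pow_eq_one h1)
    exact ⟨m, hm⟩
  have hodd : ∀ w ∈ S.W, w * w = 1 → w = 1 := by
    intro w hw h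
    obtain ⟨k, hk⟩ := hord w hw
    have h1 : orderOf w ∣ 2 := orderOf_dvd_of_pow_eq_one (by rw [pow_two]; exact h)
    have h2 : Nat.Coprime (3 ^ k) 2 := Nat.Coprime.pow_left k (by norm_num)
    rw [hk] at h1
    have h3 : 3 ^ k = 1 := Nat.Coprime.eq_one_of_dvd h2 h1
    rw [h3] at hk
    exact orderOf_eq_one_iff.1 hk
  have h3p : ∀ w ∈ S.W, ∀ h ∈ S.H, w * w * w = h * w * h⁻¹ → w = 1 := by
    intro w hw h _ e
    obtain ⟨k, hk⟩ := hord w hw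
    have e' : w ^ 3 = h * w * h⁻¹ := by rw [← e, pow_three']
    have h1 : orderOf (w ^ 3) = orderOf w := by
      rw [e']
      exact orderOf_injective (MulAut.conj h).toMonoidHom (MulAut.conj h).injective w
    rcases Nat.eq_zero_or_pos k with rfl | hk0
    · rw [pow_zero] at hk
      exact orderOf_eq_one_iff.1 hk
    · exfalso
      obtain ⟨m, rfl⟩ : ∃ m, k = m + 1 := ⟨k - 1, by omega⟩
      have h2 : (w ^ 3) ^ 3 ^ m = 1 := by
        rw [← pow_mul, ← pow_succ', ← hk]; exact pow_orderOf_eq_one w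
      have h3 := orderOf_dvd_of_pow_eq_one h2
      rw [h1, hk] at h3
      have h4 := Nat.le_of_dvd (by positivity) h3
      have h5 : 3 ^ m < 3 ^ (m + 1) := Nat.pow_lt_pow_right (by norm_num) (by omega)
      omega
  obtain ⟨z, hz, hz1⟩ := hZ1
  obtain ⟨h, hh, u, hu, hu1, e⟩ := S.step1 (hZW hz) hz1 (hZ3 z hz)
  have hu3 : u * u * u ≠ 1 := (S.twist hh).step2 hu e
  have huZ : u ∉ Z := fun hu' => hu3 (hZ3 u hu')
  have hΩ0 : ∀ w ∈ S.W, w * w * w = 1 → w ∈ Z := by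
    intro w hw hw3
    by_contra hwZ
    obtain ⟨x, _, c, hc, e1⟩ := hWt w hw hwZ u hu huZ
    apply hu3
    have hcW := hZW hc
    have hxW : x * w * x⁻¹ ∈ S.W := S.HW ‹_› hw
    have hcomm := S.hWc _ hxW _ hcW
    have : u ^ 3 = 1 := by
      rw [e1, (show Commute (x * w * x⁻¹) c from hcomm).mul_pow]
      have h6 : (x * w * x⁻¹) ^ 3 = 1 := by
        have : (x * w * x⁻¹) ^ 3 = x * (w * w * w) * x⁻¹ := by rw [pow_three']; group
        rw [this, hw3]; group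
      have h7 : c ^ 3 = 1 := by
        rw [pow_three', hZ3 c hc]
      rw [h6, h7, one_mul]
    have h8 : u * u * u = u ^ 3 := (pow_three' u).symm
    rw [h8, this]
  exact (S.twist hh).step5 (fun a ha ha3 ha1 b hb hb3 hb1 =>
    hZt a (hΩ0 a ha ha3) ha1 b (hΩ0 b hb hb3) hb1) hex hodd h3p hu hu1 e

end Setup

end Cfsg.Agent.ReeUniq.ClassTwoElem
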