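import Cfsg.Agent.ReeUniq.NonDeg
import Cfsg.Agent.ReeUniq.ClassTwoElem

/-!
# S1149: the class two case does not occur

`Setup.not_class_two`: the elements of `U a` inverted by `jj G a b` do not form an abelian subgroup
(`n > 1`).
-/

set_option autoImplicit false
set_option linter.unusedSectionVars false

namespace Cfsg.Agent.ReeUniq

open MulAction Cfsg.Agent.OddUThree

variable {G Ω : Type*} [Group G] [MulAction G Ω] {U : Ω → Subgroup G} {n : ℕ}

namespace Setup

variable (S : Setup G Ω U n) [Finite G]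
include S

/-- Elements of odd order of `HH a b` fix no nontrivial coset of an invariant subgroup. -/
theorem coset_free_odd {a b : Ω} (hab : a ≠ b) {V : Subgroup G} (hV : Inv U a b V)
    {h x : G} (hh : h ∈ HH G a b) (h1 : h ≠ 1) (hhj : h ≠ jj G a b) (hx : x ∈ U a)
    (hc : x⁻¹ * (h * x * h⁻¹) ∈ V) : x ∈ V := by
  classical
  have : Fact (Nat.Prime 3) := ⟨Nat.prime_three⟩
  -- all powers of `h` fix the coset
  have hpow : ∀ k : ℕ, x⁻¹ * (h ^ k * x * (h ^ k)⁻¹) ∈ V := by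
    intro k
    induction k with
    | zero => simp
    | succ k ih =>
      have e : x⁻¹ * (h ^ (k + 1) * x * (h ^ (k + 1))⁻¹) =
          (x⁻¹ * (h * x * h⁻¹)) * (h * (x⁻¹ * (h ^ k * x * (h ^ k)⁻¹)) * h⁻¹) := by
        rw [pow_succ']; group
      rw [e]
      exact mul_mem hc (hV.2 h hh _ ih)
  -- an element of odd prime order
  have hsq1 : h ^ 2 ≠ 1 := fun e => hhj (S.eq_jj hab hh h1 (by rw [← pow_two]; exact e))
  have ho : orderOf (h ^ 2) ≠ 1 := fun e => hsq1 (orderOf_eq_one_iff.1 e)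
  obtain ⟨r, hr, hrd⟩ := Nat.exists_prime_and_dvd ho
  have hrF : Fact r.Prime := ⟨hr⟩
  have hodd : Odd (orderOf (h ^ 2)) := by
    have hpow : (h ^ 2) ^ ((3 ^ n - 1) / 2) = 1 := by
      rw [← pow_mul]
      have e : 2 * ((3 ^ n - 1) / 2) = Nat.card (HH G a b) := by
        rw [S.cardH a b hab]; have := S.qmod; omega
      rw [e]
      exact congrArg Subtype.val (pow_card_eq_one' (x := (⟨h, hh⟩ : HH G a b)))
    have hd := orderOf_dvd_of_pow_eq_one hpow
    have hodd : Odd ((3 ^ n - 1) / 2) := by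
      rw [Nat.odd_iff]
      have := S.qmod
      generalize 3 ^ n = x at this
      omega
    exact hodd.of_dvd_nat hd
  have hrodd : Odd r := hodd.of_dvd_nat hrd
  obtain ⟨m, hm⟩ := hrd
  have hopos : 0 < orderOf (h ^ 2) := orderOf_pos (h ^ 2)
  have hmpos : 0 < m := by
    rcases Nat.eq_zero_or_pos m with h0 | h0
    · rw [h0] at hm; omega
    · exact h0
  set k := (h ^ 2) ^ m with hk
  have hkH : k ∈ HH G a b := pow_mem (pow_mem hh 2) m
  have hko : orderOf k = r := by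
    rw [hk, orderOf_pow_of_dvd hmpos.ne' ⟨r, by rw [hm, mul_comm]⟩, hm]
    exact Nat.mul_div_cancel _ hmpos
  have hk1 : k ≠ 1 := by
    intro e
    rw [e, orderOf_one] at hko
    exact hr.one_lt.ne hko
  have hkj : k ≠ jj G a b := by
    intro e
    have h4 : orderOf (jj G a b) = 2 :=
      orderOf_eq_prime (by rw [pow_two]; exact S.jj_mul_self hab) (S.jj_ne_one hab)
    rw [e, h4] at hko
    rw [← hko] at hrodd
    exact absurd hrodd (by decide)
  have hkc : ∀ j : ℤ, x⁻¹ * (k ^ j * x * (k ^ j)⁻¹) ∈ V := by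
    intro j
    obtain ⟨i, hi⟩ : ∃ i : ℕ, k ^ j = h ^ i := by
      have h1 : k ^ j ∈ Subgroup.zpowers h := by
        rw [hk]
        exact Subgroup.zpow_mem _ (pow_mem (pow_mem (Subgroup.mem_zpowers h) 2) m) j
      obtain ⟨i, hi⟩ := (mem_powers_iff_mem_zpowers.2 h1)
      exact ⟨i, hi.symm⟩
    rw [hi]; exact hpow i
  -- the action on the coset
  let X := {y : G // x⁻¹ * y ∈ V}
  let act : MulAction (Subgroup.zpowers k) X :=
    { smul := fun t y => ⟨(t : G) * y.1 * (t : G)⁻¹, by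
        obtain ⟨j, hj⟩ := Subgroup.mem_zpowers_iff.1 t.2
        have h1 := hkc j
        rw [hj] at h1
        have ht : (t : G) ∈ HH G a b := (Subgroup.zpowers_le.2 hkH) t.2
        have h2 := hV.2 (t : G) ht _ y.2
        have e : x⁻¹ * ((t : G) * y.1 * (t : G)⁻¹) =
            (x⁻¹ * ((t : G) * x * (t : G)⁻¹)) * ((t : G) * (x⁻¹ * y.1) * (t : G)⁻¹) := by group
        rw [e]
        exact mul_mem h1 h2⟩
      one_smul := fun y => by
        apply Subtype.ext
        show ((1 : Subgroup.zpowers k) : G) * y.1 * ((1 : Subgroup.zpowers k) : G)⁻¹ = y.1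
        simp
      mul_smul := fun s t y => by
        apply Subtype.ext
        show ((s * t : Subgroup.zpowers k) : G) * y.1 * ((s * t : Subgroup.zpowers k) : G)⁻¹ =
          (s : G) * ((t : G) * y.1 * (t : G)⁻¹) * (s : G)⁻¹
        rw [Subgroup.coe_mul]; group }
  have hpg : IsPGroup r (Subgroup.zpowers k) := by
    apply IsPGroup.of_card (n := 1)
    rw [Nat.card_zpowers, hko, pow_one]
  have hfin : Finite X := Subtype.finite
  have hmod := hpg.card_modEq_card_fixedPoints X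
  have hXV : Nat.card X = Nat.card V :=
    Nat.card_congr
      { toFun := fun y => ⟨x⁻¹ * y.1, y.2⟩
        invFun := fun v => ⟨x * v, by simp⟩
        left_inv := fun y => Subtype.ext (by simp)
        right_inv := fun v => Subtype.ext (by simp) }
  have hne : Nonempty (fixedPoints (Subgroup.zpowers k) X) := by
    by_contra hcon
    rw [not_nonempty_iff] at hcon
    have h0 : Nat.card (fixedPoints (Subgroup.zpowers k) X) = 0 := Nat.card_of_isEmpty
    rw [h0, hXV, Nat.modEq_zero_iff_dvd] at hmod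
    obtain ⟨i, _, hi⟩ := S.card_inv hab hV
    rw [hi] at hmod
    have hr3 : r = 3 := (Nat.prime_dvd_prime_iff_eq hr Nat.prime_three).1
      (hr.dvd_of_dvd_pow hmod)
    have h2 : r ∣ 3 ^ n - 1 := by
      rw [← S.cardH a b hab, ← hko]
      have := orderOf_dvd_natCard (⟨k, hkH⟩ : HH G a b)
      rwa [Subgroup.orderOf_mk] at this
    rw [hr3] at h2
    have h3 : 3 ∣ 3 ^ n := dvd_pow_self 3 (by have := S.pos; omega)
    have h4 := (Nat.dvd_sub h3 h2)
    have h5 : 3 ^ n - (3 ^ n - 1) = 1 := by have := S.three_le; omega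
    rw [h5] at h4
    omega
  obtain ⟨⟨⟨y, hy⟩, hyf⟩⟩ := hne
  have hyk : k * y = y * k := by
    have h1 := hyf ⟨k, Subgroup.mem_zpowers k⟩
    have h2 : k * y * k⁻¹ = y := congrArg Subtype.val h1
    rw [mul_inv_eq_iff_eq_mul] at h2
    exact h2
  have hyU : y ∈ U a := by
    have := mul_mem hx (hV.1 hy)
    rwa [mul_inv_cancel_left] at this
  have hy1 : y = 1 := S.fpf' hab hkH hk1 hkj hyU hyk
  rw [hy1, mul_one] at hy
  have := inv_mem hy
  rwa [inv_inv] at this

/-- Transitivity on the nontrivial cosets from semiregularity. -/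
theorem trans_of_free {a b : Ω} (hab : a ≠ b) {V X : Subgroup G} (hV : Inv U a b V)
    (hX : Inv U a b X) (hVX : V ≤ X) (hcard : Nat.card X = 3 ^ n * Nat.card V)
    (hfree : ∀ h ∈ HH G a b, h ≠ 1 → ∀ x ∈ X, x⁻¹ * (h * x * h⁻¹) ∈ V → x ∈ V)
    {x y : G} (hx : x ∈ X) (hxV : x ∉ V)
    (hy : y ∈ X) (hyV : y ∉ V) : ∃ h ∈ HH G a b, ∃ v ∈ V, y = (h * x * h⁻¹) * v := by
  classical
  set W : Subgroup X := V.subgroupOf X with hW
  have hmemW : ∀ g : X, g ∈ W ↔ (g : G) ∈ V := fun g => Subgroup.mem_subgroupOf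
  have hWcard : Nat.card W = Nat.card V := Nat.card_congr (Subgroup.subgroupOfEquivOfLe hVX).toEquiv
  have hQ : Nat.card (X ⧸ W) = 3 ^ n := by
    have h1 := Subgroup.card_eq_card_quotient_mul_card_subgroup W
    rw [hWcard, hcard] at h1
    exact (Nat.eq_of_mul_eq_mul_right Nat.card_pos h1).symm
  let φ : HH G a b → {q : X ⧸ W // q ≠ ((1 : X) : X ⧸ W)} := fun h =>
    ⟨((⟨h * x * (h : G)⁻¹, hX.2 h h.2 x hx⟩ : X) : X ⧸ W), by
      intro e
      rw [eq_comm, QuotientGroup.eq, hmemW] at e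
      simp only [inv_one, one_mul] at e
      apply hxV
      have := hV.2 (h : G)⁻¹ (inv_mem h.2) _ e
      have e2 : (h : G)⁻¹ * ((h : G) * x * (h : G)⁻¹) * ((h : G)⁻¹)⁻¹ = x := by group
      rwa [e2] at this⟩
  have hinj : Function.Injective φ := by
    intro h k e
    have e1 := congrArg Subtype.val e
    have e2 : (((⟨h * x * (h : G)⁻¹, hX.2 h h.2 x hx⟩ : X) : X ⧸ W)) =
      ((⟨k * x * (k : G)⁻¹, hX.2 k k.2 x hx⟩ : X) : X ⧸ W) := e1
    rw [QuotientGroup.eq, hmemW] at e2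
    have e3 : ((h : G) * x * (h : G)⁻¹)⁻¹ * ((k : G) * x * (k : G)⁻¹) ∈ V := e2
    have e4 := hV.2 (h : G)⁻¹ (inv_mem h.2) _ e3
    have e5 : (h : G)⁻¹ * (((h : G) * x * (h : G)⁻¹)⁻¹ * ((k : G) * x * (k : G)⁻¹)) *
        ((h : G)⁻¹)⁻¹ = x⁻¹ * (((h : G)⁻¹ * k) * x * ((h : G)⁻¹ * k)⁻¹) := by group
    rw [e5] at e4
    by_contra hne
    apply hxV
    refine hfree _ (mul_mem (inv_mem h.2) k.2) ?_ x hx e4
    intro e6
    apply hne
    rw [inv_mul_eq_one] at e6
    exact Subtype.ext e6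
  have hcard2 : Nat.card {q : X ⧸ W // q ≠ ((1 : X) : X ⧸ W)} = 3 ^ n - 1 := by
    have h1 := Set.ncard_compl ({((1 : X) : X ⧸ W)} : Set (X ⧸ W))
    rw [Set.ncard_singleton, hQ] at h1
    rw [← h1]; rfl
  have hbij : Function.Bijective φ := (Nat.bijective_iff_injective_and_card φ).2
    ⟨hinj, by rw [S.cardH a b hab, hcard2]⟩
  obtain ⟨h, hh⟩ := hbij.2 ⟨((⟨y, hy⟩ : X) : X ⧸ W), by
    intro e
    rw [eq_comm, QuotientGroup.eq, hmemW] at e
    simp only [inv_one, one_mul] at e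
    exact hyV e⟩
  have e1 : (((⟨h * x * (h : G)⁻¹, hX.2 h h.2 x hx⟩ : X) : X ⧸ W)) =
      ((⟨y, hy⟩ : X) : X ⧸ W) := congrArg Subtype.val hh
  rw [QuotientGroup.eq, hmemW] at e1
  have e2 : ((h : G) * x * (h : G)⁻¹)⁻¹ * y ∈ V := e1
  exact ⟨h, h.2, _, e2, by group⟩

/-- Square roots in `U a`. -/
theorem exists_sqrt {a : Ω} {x : G} (hx : x ∈ U a) : ∃ k : ℕ, (x ^ k) * (x ^ k) = x := by
  have : Fact (Nat.Prime 3) := ⟨Nat.prime_three⟩
  obtain ⟨m, hm⟩ := (S.isPGroup (le_refl (U a))) ⟨x, hx⟩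
  have h1 : x ^ 3 ^ m = 1 := congrArg Subtype.val hm
  have hodd : Odd (3 ^ m) := Odd.pow (by decide)
  obtain ⟨r, hr⟩ := hodd
  refine ⟨r + 1, ?_⟩
  rw [← pow_add]
  have : r + 1 + (r + 1) = 3 ^ m + 1 := by omega
  rw [this, pow_succ, h1, one_mul]

theorem sq_ne_one {a : Ω} {x : G} (hx : x ∈ U a) (h : x * x = 1) : x = 1 := by
  obtain ⟨k, hk⟩ := S.exists_sqrt hx
  rw [← hk, ← (Commute.refl x).mul_pow, h, one_pow]

/-- Elements of order three are conjugate into `U a`. -/
theorem exists_conj_U {a b : Ω} (hab : a ≠ b) {g : G} (hg : g * g * g = 1) :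
    ∃ c, ∃ u ∈ U a, g = c * u * c⁻¹ := by
  classical
  have hF3 : Fact (Nat.Prime 3) := ⟨Nat.prime_three⟩
  have hfin := S.finite_points hab
  have hg3 : g ^ 3 = 1 := by rw [pow_succ, pow_two]; exact hg
  have hpg : IsPGroup 3 (Subgroup.zpowers g) := by
    rintro ⟨x, hx⟩
    obtain ⟨i, rfl⟩ := Subgroup.mem_zpowers_iff.1 hx
    refine ⟨1, Subtype.ext ?_⟩
    show (g ^ i) ^ (3 ^ 1) = 1
    rw [pow_one, ← zpow_natCast, ← zpow_mul, mul_comm, zpow_mul]
    have : g ^ ((3 : ℕ) : ℤ) = 1 := by rw [zpow_natCast, hg3]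
    rw [this, one_zpow]
  have hmod := hpg.card_modEq_card_fixedPoints Ω
  have hne : Nonempty (fixedPoints (Subgroup.zpowers g) Ω) := by
    by_contra hcon
    rw [not_nonempty_iff] at hcon
    have h0 : Nat.card (fixedPoints (Subgroup.zpowers g) Ω) = 0 := Nat.card_of_isEmpty
    rw [h0, S.card_points hab, Nat.modEq_zero_iff_dvd] at hmod
    have h3 : 3 ∣ 3 ^ (3 * n) := dvd_pow_self 3 (by have := S.pos; omega)
    have h4 := (Nat.dvd_add_right h3).1 hmod
    omega
  obtain ⟨⟨c, hc⟩⟩ := hne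
  have hgc : g • c = c := hc ⟨g, Subgroup.mem_zpowers g⟩
  -- move `c` to `a`
  obtain ⟨k, hk⟩ : ∃ k : G, k • a = c := by
    obtain ⟨d, hd⟩ : ∃ d : Ω, c ≠ d := by
      by_cases h : c = a
      · exact ⟨b, by rw [h]; exact hab⟩
      · exact ⟨a, h⟩
    obtain ⟨k, hk, _⟩ := S.two a b c d hab hd
    exact ⟨k, hk⟩
  have hga : (k⁻¹ * g * k) • a = a := by
    rw [mul_smul, mul_smul, hk, hgc, inv_smul_eq_iff, hk]
  obtain ⟨u, hu, h, hh, e⟩ := S.exists_mul hab hga
  refine ⟨k, k⁻¹ * g * k, ?_, by group⟩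
  -- `h ^ 3 ∈ U a`, so `h = 1`
  have h3 : (u * h) * (u * h) * (u * h) = 1 := by
    rw [← e]
    calc k⁻¹ * g * k * (k⁻¹ * g * k) * (k⁻¹ * g * k) = k⁻¹ * (g * g * g) * k := by group
      _ = 1 := by rw [hg]; group
  have hha := (mem_HH.1 hh).1
  have h4 : h * h * h = (u * (h * u * h⁻¹) * ((h * h) * u * (h * h)⁻¹))⁻¹ := by
    rw [eq_comm, inv_eq_iff_mul_eq_one]
    calc u * (h * u * h⁻¹) * ((h * h) * u * (h * h)⁻¹) * (h * h * h) =
        (u * h) * (u * h) * (u * h) := by group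
      _ = 1 := h3
  have h5 : h * h * h = 1 := by
    apply S.U_inf_H hab _ (mul_mem (mul_mem hh hh) hh)
    rw [h4]
    exact inv_mem (mul_mem (mul_mem hu (S.conj_U_stab hha hu))
      (S.conj_U_stab (by rw [mul_smul, hha, hha]) hu))
  have h6 : h = 1 := by
    have h7 : orderOf h ∣ 3 := orderOf_dvd_of_pow_eq_one (by rw [pow_succ, pow_two]; exact h5)
    have h8 : orderOf h ∣ 3 ^ n - 1 := by
      rw [← S.cardH a b hab]
      have := orderOf_dvd_natCard (⟨h, hh⟩ : HH G a b)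
      rwa [Subgroup.orderOf_mk] at this
    rcases (Nat.dvd_prime Nat.prime_three).1 h7 with h9 | h9
    · exact orderOf_eq_one_iff.1 h9
    · exfalso
      rw [h9] at h8
      have h3 : 3 ∣ 3 ^ n := dvd_pow_self 3 (by have := S.pos; omega)
      have h4 := (Nat.dvd_sub h3 h8)
      have h5 : 3 ^ n - (3 ^ n - 1) = 1 := by have := S.three_le; omega
      rw [h5] at h4
      omega
  rw [e, h6, mul_one]
  exact hu

/-- There are no elements of order four. -/
theorem no_four (g : G) (h : g * g * (g * g) = 1) : g * g = 1 := by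
  have hF : Fact (Nat.Prime 2) := ⟨Nat.prime_two⟩
  have hpg : IsPGroup 2 (Subgroup.zpowers g) := by
    rintro ⟨x, hx⟩
    obtain ⟨i, rfl⟩ := Subgroup.mem_zpowers_iff.1 hx
    refine ⟨2, Subtype.ext ?_⟩
    show (g ^ i) ^ (2 ^ 2) = 1
    rw [← zpow_natCast, ← zpow_mul, mul_comm, zpow_mul]
    have : g ^ ((2 ^ 2 : ℕ) : ℤ) = 1 := by
      rw [zpow_natCast]
      have : g ^ (2 ^ 2) = g * g * (g * g) := by
        rw [show 2 ^ 2 = 4 from rfl, pow_succ, pow_succ, pow_two]; group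
      rw [this, h]
    rw [this, one_zpow]
  obtain ⟨P, hP⟩ := hpg.exists_le_sylow
  exact (S.sylow P).2 g (hP (Subgroup.mem_zpowers g))

/-- **The class two case is impossible.** -/
theorem not_class_two {a b : Ω} (hab : a ≠ b) (hn : 1 < n) (W : Subgroup G)
    (hW : ∀ u, u ∈ W ↔ u ∈ U a ∧ jj G a b * u * jj G a b = u⁻¹)
    (hWc : ∀ x ∈ W, ∀ y ∈ W, x * y = y * x) : False := by
  obtain ⟨t, hta, htb⟩ := S.two a b b a hab hab.symm
  set j := jj G a b with hj
  have hjj : j * j = 1 := S.jj_mul_self hab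
  have hjinv : j⁻¹ = j := S.jj_inv hab
  -- `U = E W`
  have hdec : ∀ u ∈ U a, ∃ e ∈ E U a b, ∃ w ∈ W, u = e * w := by
    intro u hu
    have hjuj : j * u * j ∈ U a := by
      have := S.conj_U_stab (S.jj_smul_left hab) hu
      rwa [hjinv] at this
    set w' := u⁻¹ * (j * u * j) with hw'
    have hw'U : w' ∈ U a := mul_mem (inv_mem hu) hjuj
    have hw'j : j * w' * j = w'⁻¹ := by
      rw [hw', mul_inv_rev, inv_inv]
      calc j * (u⁻¹ * (j * u * j)) * j = (j * u⁻¹ * j) * u * (j * j) := by group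
        _ = (j⁻¹ * u⁻¹ * j⁻¹) * u := by rw [hjj, hjinv]; group
        _ = (j * u * j)⁻¹ * u := by group
    obtain ⟨k, hk⟩ := S.exists_sqrt hw'U
    have hw : w' ^ k ∈ W := by
      apply pow_mem
      rw [hW]; exact ⟨hw'U, hw'j⟩
    have hwj := ((hW _).1 hw).2
    refine ⟨u * w' ^ k, ?_, (w' ^ k)⁻¹, inv_mem hw, by group⟩
    rw [mem_E]
    refine ⟨mul_mem hu (pow_mem hw'U k), ?_⟩
    have h1 : j * u * j = u * (w' ^ k * w' ^ k) := by rw [hk, hw']; group
    calc j * (u * w' ^ k) = (j * u * j) * (j⁻¹ * w' ^ k) := by group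
      _ = (u * (w' ^ k * w' ^ k)) * (j * w' ^ k) := by rw [h1, hjinv]
      _ = u * w' ^ k * (w' ^ k * (j * w' ^ k * j)) * j⁻¹ := by group
      _ = u * w' ^ k * (w' ^ k * (w' ^ k)⁻¹) * j := by rw [hwj, hjinv]
      _ = u * w' ^ k * j := by group
  -- `W` is normal in `U`
  have hWn : ∀ v ∈ U a, ∀ w ∈ W, v * w * v⁻¹ ∈ W := by
    intro v hv w hw
    obtain ⟨e, he, x, hx, rfl⟩ := hdec v hv
    have h1 : e * x * w * (e * x)⁻¹ = e * w * e⁻¹ := by
      calc e * x * w * (e * x)⁻¹ = e * (x * w) * x⁻¹ * e⁻¹ := by group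
        _ = e * (w * x) * x⁻¹ * e⁻¹ := by rw [hWc x hx w hw]
        _ = _ := by group
    rw [h1, hW]
    refine ⟨mul_mem (mul_mem (mem_E.1 he).1 ((hW w).1 hw).1) (inv_mem (mem_E.1 he).1), ?_⟩
    have h2 : j * e = e * j := (mem_E.1 he).2
    have h3 : e⁻¹ * j = j * e⁻¹ := by
      rw [inv_mul_eq_iff_eq_mul, ← mul_assoc, ← h2]; group
    calc j * (e * w * e⁻¹) * j = (j * e) * w * (e⁻¹ * j) := by group
      _ = e * (j * w * j) * e⁻¹ := by rw [h2, h3]; group
      _ = (e * w * e⁻¹)⁻¹ := by rw [((hW w).1 hw).2]; group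
  -- `|W| = q²`
  have hWinv : Inv U a b W := by
    refine ⟨fun w hw => ((hW w).1 hw).1, fun h hh w hw => ?_⟩
    rw [hW]
    refine ⟨S.conj_U_stab (mem_HH.1 hh).1 ((hW w).1 hw).1, ?_⟩
    have h2 : j * h = h * j := S.comm_H hab (S.jj_mem hab) hh
    have h3 : h⁻¹ * j = j * h⁻¹ := S.comm_H hab (inv_mem hh) (S.jj_mem hab)
    calc j * (h * w * h⁻¹) * j = (j * h) * w * (h⁻¹ * j) := by group
      _ = h * (j * w * j) * h⁻¹ := by rw [h2, h3]; group
      _ = (h * w * h⁻¹)⁻¹ := by rw [((hW w).1 hw).2]; group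
  have hWE : ∀ x ∈ E U a b, x ∈ W → x = 1 := by
    intro x hx hx'
    have h1 := ((hW x).1 hx').2
    have h2 : j * x = x * j := (mem_E.1 hx).2
    rw [h2, mul_assoc, hjj, mul_one] at h1
    apply S.sq_ne_one (mem_E.1 hx).1
    nth_rewrite 2 [h1]; group
  have hWcard : Nat.card W = 3 ^ n * 3 ^ n := by
    have h1 : Nat.card (E U a b) * Nat.card W = Nat.card (U a) := by
      rw [← Nat.card_prod]
      refine Nat.card_congr (Equiv.ofBijective
        (fun p : E U a b × W => (⟨(p.1 : G) * p.2,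
          mul_mem (mem_E.1 p.1.2).1 ((hW _).1 p.2.2).1⟩ : U a)) ⟨?_, ?_⟩)
      · rintro ⟨z, e⟩ ⟨z', e'⟩ h
        have h2 : (z : G) * e = z' * e' := congrArg Subtype.val h
        have h3 : (z' : G)⁻¹ * z = e' * (e : G)⁻¹ := by
          rw [inv_mul_eq_iff_eq_mul, ← mul_assoc, ← h2]; group
        have h4 : (z' : G)⁻¹ * z = 1 := hWE _ (mul_mem (inv_mem z'.2) z.2)
          (by rw [h3]; exact mul_mem e'.2 (inv_mem e.2))
        have h5 : z = z' := by
          rw [inv_mul_eq_one] at h4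
          exact Subtype.ext h4.symm
        rw [h5] at h2
        exact Prod.ext h5 (Subtype.ext (mul_left_cancel h2))
      · rintro ⟨x, hx⟩
        obtain ⟨e, he, w, hw, rfl⟩ := hdec x hx
        exact ⟨(⟨e, he⟩, ⟨w, hw⟩), rfl⟩
    rw [S.card_E hab, S.cardU] at h1
    have h2 : 3 ^ (3 * n) = 3 ^ n * (3 ^ n * 3 ^ n) := by rw [← pow_add, ← pow_add]; congr 1; ring
    rw [h2] at h1
    exact Nat.eq_of_mul_eq_mul_left (by positivity) h1
  have hZW : ZZ U a ≤ W := fun z hz => (hW z).2 ⟨(mem_ZZ.1 hz).1, S.jj_ZZ hab hz⟩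
  -- freeness
  have hsemi : ∀ h ∈ HH G a b, h ≠ 1 → ∀ w ∈ W, h * w * h⁻¹ = w → w = 1 := by
    intro h hh h1 w hw e
    by_cases hhj : h = j
    · apply S.sq_ne_one ((hW w).1 hw).1
      have h2 := ((hW w).1 hw).2
      rw [hhj, hjinv, h2] at e
      nth_rewrite 1 [← e]; group
    · rw [mul_inv_eq_iff_eq_mul] at e
      exact S.fpf' hab hh h1 hhj ((hW w).1 hw).1 e
  let T : ClassTwoElem.Setup G :=
    { B := stabilizer G a
      U := U a
      H := HH G a b
      W := W
      t := t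
      j := j
      hUB := (S.rank1 hab t hta htb).hUB
      hHB := (S.rank1 hab t hta htb).hHB
      hB := (S.rank1 hab t hta htb).hB
      hUn := (S.rank1 hab t hta htb).hUn
      hUH := (S.rank1 hab t hta htb).hUH
      htB := (S.rank1 hab t hta htb).htB
      htt := (S.rank1 hab t hta htb).htt
      htH := (S.rank1 hab t hta htb).htH
      hHc := fun x hx y hy => S.comm_H hab hx hy
      hBt := (S.rank1 hab t hta htb).hBt
      hBruhat := (S.rank1 hab t hta htb).hBruhat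
      hj := S.jj_mem hab
      hjj := hjj
      hj1 := S.jj_ne_one hab
      hju := fun x hx h1 h2 => S.eq_jj hab hx h2 h1
      hW := hW
      hWn := hWn
      hWc := hWc
      hS3 := fun g hg => S.exists_conj_U hab hg
      hTI := fun x z hz hz1 hxz => by
        rw [mem_stabilizer_iff]
        by_contra hxa
        have h1 : (x * z * x⁻¹) • (x • a) = x • a := by
          rw [← mul_smul]
          have : x * z * x⁻¹ * x = x * z := by group
          rw [this, mul_smul, S.fix a z hz]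
        have h2 := S.eq_one_of_U hxa hxz h1
        apply hz1
        have : z = x⁻¹ * (x * z * x⁻¹) * x := by group
        rw [this, h2]; group
      h4 := S.no_four
      hfix := fun h hh h1 hhj u hu hc => S.coset_free_odd hab hWinv hh h1 hhj hu hc
      hsemi := hsemi }
  refine T.false (ZZ U a) hZW (S.isPGroup (le_refl _)) (fun z hz => ?_) ?_ ?_ ?_ ?_
  · have := S.ZZ_cube hab hz
    rw [pow_succ, pow_two] at this
    exact this
  · by_contra hno
    push Not at hno
    have h1 : ZZ U a = ⊥ := by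
      rw [eq_bot_iff]
      intro z hz
      rw [Subgroup.mem_bot]; exact hno z hz
    have h2 := S.card_ZZ hab
    rw [h1, Subgroup.card_bot] at h2
    have := S.one_lt
    omega
  · intro z hz hz1 z' hz' hz1'
    obtain ⟨h, hh, v, hv, e⟩ := S.trans_of_free hab (V := ⊥) (X := ZZ U a)
      ⟨bot_le, fun h _ v hv => by rw [Subgroup.mem_bot] at hv ⊢; rw [hv]; group⟩
      (S.inv_ZZ (b := b)) bot_le (by rw [Subgroup.card_bot, mul_one, S.card_ZZ hab])
      (fun h hh h1 x hx e => by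
        rw [Subgroup.mem_bot] at e ⊢
        rw [inv_mul_eq_one, eq_comm, mul_inv_eq_iff_eq_mul] at e
        exact S.free_ZZ hab hh h1 hx e) hz (by rwa [Subgroup.mem_bot]) hz'
      (by rwa [Subgroup.mem_bot])
    rw [Subgroup.mem_bot] at hv
    exact ⟨h, hh, by rw [e, hv, mul_one]⟩
  · intro w hw hwZ w' hw' hwZ'
    obtain ⟨h, hh, v, hv, e⟩ := S.trans_of_free hab (V := ZZ U a) (X := W)
      (S.inv_ZZ (b := b)) hWinv hZW (by rw [hWcard, S.card_ZZ hab])
      (fun h hh h1 x hx e => by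
        by_cases hhj : h = j
        · have h2 := ((hW x).1 hx).2
          rw [hhj, hjinv, h2] at e
          have h3 : x * x ∈ ZZ U a := by
            have := inv_mem e
            rw [mul_inv_rev, inv_inv] at this
            exact this
          obtain ⟨k, hk⟩ := S.exists_sqrt ((hW x).1 hx).1
          have h4 : (x * x) ^ k = x := by
            rw [(Commute.refl x).mul_pow, hk]
          rw [← h4]
          exact pow_mem h3 k
        · exact S.coset_free_odd hab (S.inv_ZZ (b := b)) hh h1 hhj ((hW x).1 hx).1 e)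
      hw hwZ hw' hwZ'
    exact ⟨h, hh, v, hv, e⟩
  · -- an element of `HH` different from `1` and `j`
    by_contra hno
    push Not at hno
    have h1 : (HH G a b : Set G) ⊆ ({1, j} : Set G) := by
      intro x hx
      by_cases hx1 : x = 1
      · left; exact hx1
      · right; exact hno x hx hx1
    have h2 : Nat.card (HH G a b) ≤ 2 := by
      have h3 : Nat.card (HH G a b) = (HH G a b : Set G).ncard := (Nat.card_coe_set_eq _)
      rw [h3]
      calc (HH G a b : Set G).ncard ≤ ({1, j} : Set G).ncard := Set.ncard_le_ncard h1 (Set.toFinite _)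
        _ ≤ 2 := Set.ncard_insert_le _ _ |>.trans (by rw [Set.ncard_singleton])
    rw [S.cardH a b hab] at h2
    have h3 : 3 ^ 2 ≤ 3 ^ n := Nat.pow_le_pow_right (by norm_num) hn
    omega

/-- Some commutator of elements of `U a` is not central. -/
theorem exists_comm {a b : Ω} (hab : a ≠ b) (hn : 1 < n) :
    ∃ u ∈ U a, ∃ v ∈ U a, u * v * u⁻¹ * v⁻¹ ∉ ZZ U a := by
  by_contra hno
  push Not at hno
  set j := jj G a b with hj
  have hjj : j * j = 1 := S.jj_mul_self hab
  have hjinv : j⁻¹ = j := S.jj_inv hab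
  have hinv : ∀ u, j * u * j = u⁻¹ → j * u⁻¹ * j = u := by
    intro u hu
    calc j * u⁻¹ * j = j⁻¹ * u⁻¹ * j⁻¹ := by rw [hjinv]
      _ = (j * u * j)⁻¹ := by group
      _ = u := by rw [hu, inv_inv]
  have hmul : ∀ u v, j * (u * v) * j = (j * u * j) * (j * v * j) := by
    intro u v
    calc j * (u * v) * j = j * u * (j * j) * v * j := by rw [hjj]; group
      _ = _ := by group
  -- the inverted elements commute
  have hcomm : ∀ u v, u ∈ U a → j * u * j = u⁻¹ → v ∈ U a → j * v * j = v⁻¹ → u * v = v * u := by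
    intro u v hu hju hv hjv
    set c := u * v * u⁻¹ * v⁻¹ with hc
    have hcZ : c ∈ ZZ U a := hno u hu v hv
    have h1 : j * c * j = c⁻¹ := S.jj_ZZ hab hcZ
    have h2 : j * c * j = u⁻¹ * v⁻¹ * u * v := by
      rw [hc, hmul, hmul, hmul, hju, hjv, hinv u hju, hinv v hjv]
    have h3 : u⁻¹ * v⁻¹ * u * v = c := by
      have h4 : u * v = c * (v * u) := by rw [hc]; group
      have h5 : v⁻¹ * c = c * v⁻¹ := ((mem_ZZ.1 hcZ).2 _ (inv_mem hv)).symm
      have h6 : u⁻¹ * c = c * u⁻¹ := ((mem_ZZ.1 hcZ).2 _ (inv_mem hu)).symm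
      calc u⁻¹ * v⁻¹ * u * v = u⁻¹ * v⁻¹ * (u * v) := by group
        _ = u⁻¹ * (v⁻¹ * c) * (v * u) := by rw [h4]; group
        _ = (u⁻¹ * c) * v⁻¹ * (v * u) := by rw [h5]; group
        _ = c := by rw [h6]; group
    have h7 : c * c = 1 := by
      have h8 : c = c⁻¹ := h3.symm.trans (h2.symm.trans h1)
      calc c * c = c * c⁻¹ := by rw [← h8]
        _ = 1 := mul_inv_cancel c
    have h9 : c = 1 := S.sq_ne_one (mem_ZZ.1 hcZ).1 h7
    have h10 : u * v = c * (v * u) := by rw [hc]; group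
    rw [h10, h9, one_mul]
  let W : Subgroup G :=
    { carrier := {u | u ∈ U a ∧ j * u * j = u⁻¹}
      one_mem' := ⟨one_mem _, by rw [mul_one, hjj, inv_one]⟩
      mul_mem' := by
        rintro u v ⟨hu, hju⟩ ⟨hv, hjv⟩
        refine ⟨mul_mem hu hv, ?_⟩
        rw [hmul, hju, hjv, hcomm u v hu hju hv hjv, mul_inv_rev]
      inv_mem' := by
        rintro u ⟨hu, hju⟩
        exact ⟨inv_mem hu, by rw [hinv u hju, inv_inv]⟩ }
  exact S.not_class_two hab hn W (fun u => Iff.rfl)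
    (fun x hx y hy => hcomm x y hx.1 hx.2 hy.1 hy.2)

end Setup

end Cfsg.Agent.ReeUniq
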