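import Cfsg.Agent.ReeUniq.Series2
import Cfsg.Agent.S0077

/-!
# S1149: `n = 1` is impossible

If `n = 1` then `|U a| = 27`, the two-point stabilisers have order two, and `ZZ U a` is weakly closed in the Sylow `3`-subgroup
`U a`.  By Grün's theorem `U a = U a ⊓ G' = U a ⊓ N(ZZ U a)' ≤ (stabilizer a)'`, but `(stabilizer a)'` meets `U a` in a
subgroup of order at most `9`.
-/

set_option autoImplicit false
set_option linter.unusedSectionVars false

namespace Cfsg.Agent.ReeUniq

open MulAction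
open scoped commutatorElement

variable {G Ω : Type*} [Group G] [MulAction G Ω] {U : Ω → Subgroup G} {n : ℕ}

namespace Setup

/-- The elements of `U a` inverted by `j` modulo `ZZ U a`, when `U a / ZZ U a` is abelian. -/
def MM (U : Ω → Subgroup G) (a : Ω) (j : G) (hj : j * j = 1) (hjU : ∀ u ∈ U a, j * u * j ∈ U a)
    (hab : ∀ u ∈ U a, ∀ v ∈ U a, u * v * u⁻¹ * v⁻¹ ∈ ZZ U a) : Subgroup G where
  carrier := {u | u ∈ U a ∧ j * u * j * u ∈ ZZ U a}
  one_mem' := ⟨(U a).one_mem, by simp [hj]⟩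
  mul_mem' := fun {x y} hx hy => ⟨(U a).mul_mem hx.1 hy.1, by
    -- (jxj)(jyj) x y = (jxj x) * (x⁻¹ (jyj) x (jyj)⁻¹) * (jyj y)
    have h1 := hab x⁻¹ ((U a).inv_mem hx.1) (j * y * j) (hjU y hy.1)
    have e : j * (x * y) * j * (x * y) =
        (j * x * j * x) * (x⁻¹ * (j * y * j) * x⁻¹⁻¹ * (j * y * j)⁻¹) * (j * y * j * y) := by
      have e1 : j * (x * y) * j = (j * x * j) * (j * y * j) := by
        calc j * (x * y) * j = j * x * 1 * y * j := by group
          _ = (j * x * j) * (j * y * j) := by rw [← hj]; group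
      rw [e1]; group
    rw [e]
    exact (ZZ U a).mul_mem ((ZZ U a).mul_mem hx.2 h1) hy.2⟩
  inv_mem' := fun {x} hx => ⟨(U a).inv_mem hx.1, by
    -- (jx⁻¹j) x⁻¹ = (x jxj)⁻¹ = (jxj x)⁻¹ mod; x (jxj) = x (jxj x) x⁻¹ = jxj x as it is central
    have h1 := (ZZ U a).inv_mem hx.2
    have h2 := (mem_ZZ.mp hx.2).2 x hx.1
    have e : j * x⁻¹ * j * x⁻¹ = (j * x * j * x)⁻¹ := by
      have hji : j⁻¹ = j := by rw [inv_eq_iff_mul_eq_one, hj]
      have e1 : (j * x * j * x) = x * (j * x * j) := by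
        have : (j * x * j * x) = x * (j * x * j * x) * x⁻¹ := by rw [← h2]; group
        rw [this]; group
      rw [e1]
      simp only [mul_inv_rev, hji, mul_assoc]
    rw [e]; exact h1⟩

variable (S : Setup G Ω U n) [Finite G]
include S

theorem one_lt_n {a b : Ω} (hab : a ≠ b) : 1 < n := by
  by_contra hn
  have hn1 : n = 1 := by have := S.pos; omega
  subst hn1
  have : Fact (Nat.Prime 3) := ⟨Nat.prime_three⟩
  have hj1 := S.jj_mul_self hab
  have hji := S.jj_inv hab
  set j := jj G a b with hjdef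
  have hja : j • a = a := S.jj_smul_left hab
  have hjU : ∀ u ∈ U a, j * u * j ∈ U a := fun u hu => by
    have := S.conj_U_stab hja hu
    rwa [hji] at this
  -- `U / ZZ` is abelian
  have hcardZ : Nat.card (ZZ U a) = 3 := by rw [S.card_ZZ hab]; norm_num
  have hcardU : Nat.card (U a) = 27 := by rw [S.cardU a]; norm_num
  have hcomm : ∀ u ∈ U a, ∀ v ∈ U a, u * v * u⁻¹ * v⁻¹ ∈ ZZ U a := by
    have hnorm : ((ZZ U a).subgroupOf (U a)).Normal := ⟨fun x hx g => by
      rw [Subgroup.mem_subgroupOf] at *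
      exact S.ZZ_normal g g.2 x hx⟩
    have hc : Nat.card (U a ⧸ (ZZ U a).subgroupOf (U a)) = 3 ^ 2 := by
      have h1 := Subgroup.card_eq_card_quotient_mul_card_subgroup ((ZZ U a).subgroupOf (U a))
      rw [Nat.card_congr (Subgroup.subgroupOfEquivOfLe ZZ_le_U).toEquiv, hcardZ, hcardU] at h1
      omega
    have hco := (IsPGroup.isMulCommutative_of_card_eq_prime_sq hc).is_comm.comm
    intro u hu v hv
    have h2 := hco (QuotientGroup.mk ⟨v⁻¹, (U a).inv_mem hv⟩) (QuotientGroup.mk ⟨u⁻¹, (U a).inv_mem hu⟩)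
    rw [← QuotientGroup.mk_mul, ← QuotientGroup.mk_mul, QuotientGroup.eq, Subgroup.mem_subgroupOf] at h2
    simpa [mul_assoc] using h2
  -- `(stabilizer a)' ≤ MM`
  set M := MM U a j hj1 hjU hcomm with hM
  have hZM : ZZ U a ≤ M := fun z hz => by
    refine ⟨ZZ_le_U hz, ?_⟩
    exact (ZZ U a).mul_mem (by
      have := (S.inv_ZZ (b := b)).2 j (S.jj_mem hab) z hz
      rwa [hji] at this) hz
  have hUU : ∀ u ∈ U a, ∀ v ∈ U a, u * v * u⁻¹ * v⁻¹ ∈ M := fun u hu v hv => hZM (hcomm u hu v hv)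
  have hMU : M ≤ U a := fun u hu => hu.1
  have hju : ∀ u ∈ U a, j * u * j * u⁻¹ ∈ M := fun u hu => by
    refine ⟨(U a).mul_mem (hjU u hu) ((U a).inv_mem hu), ?_⟩
    have : j * (j * u * j * u⁻¹) * j * (j * u * j * u⁻¹) = 1 := by
      calc j * (j * u * j * u⁻¹) * j * (j * u * j * u⁻¹) = (j * j) * u * j * u⁻¹ * (j * j) * u * j * u⁻¹ := by group
        _ = 1 := by
          rw [hj1, one_mul, mul_one]
          have : u * j * u⁻¹ * u * j * u⁻¹ = u * (j * j) * u⁻¹ := by group
          rw [this, hj1, mul_one, mul_inv_cancel]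
    rw [this]; exact (ZZ U a).one_mem
  -- M is normalised by U and by j
  have hMn : ∀ u ∈ U a, ∀ m ∈ M, u * m * u⁻¹ ∈ M := fun u hu m hm => by
    have : u * m * u⁻¹ = (u * m * u⁻¹ * m⁻¹) * m := by group
    rw [this]
    exact M.mul_mem (hUU u hu m (hMU hm)) hm
  have hMj : ∀ m ∈ M, j * m * j ∈ M := fun m hm => by
    have : j * m * j = (j * m * j * m⁻¹) * m := by group
    rw [this]
    exact M.mul_mem (hju m (hMU hm)) hm
  -- the two-point stabiliser is `{1, j}`
  have hH : ∀ h ∈ HH G a b, h = 1 ∨ h = j := by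
    intro h hh
    have hc : Nat.card (HH G a b) = 2 := by rw [S.cardH a b hab]; norm_num
    by_cases h1 : h = 1
    · exact Or.inl h1
    · right
      refine S.eq_jj hab hh h1 ?_
      have h2 : (⟨h, hh⟩ : HH G a b) ^ 2 = 1 := by rw [← hc]; exact pow_card_eq_one'
      have h3 := congrArg Subtype.val h2
      simpa [pow_two] using h3
  -- each element of the stabiliser is u or u j
  have hB : ∀ g : G, g • a = a → ∃ u ∈ U a, g = u ∨ g = u * j := by
    intro g hg
    obtain ⟨u, hu, h, hh, rfl⟩ := S.exists_mul hab hg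
    rcases hH h hh with rfl | rfl
    · exact ⟨u, hu, Or.inl (mul_one u)⟩
    · exact ⟨u, hu, Or.inr rfl⟩
  -- commutators of the stabiliser lie in M
  have hcB : ∀ g h : G, g • a = a → h • a = a → g * h * g⁻¹ * h⁻¹ ∈ M := by
    have key : ∀ u ∈ U a, ∀ v ∈ U a, (u * j) * v * (u * j)⁻¹ * v⁻¹ ∈ M := by
      intro u hu v hv
      have : (u * j) * v * (u * j)⁻¹ * v⁻¹ = (u * (j * v * j * v⁻¹) * u⁻¹) * (u * v * u⁻¹ * v⁻¹) := by
        rw [mul_inv_rev, hji]; group
      rw [this]
      exact M.mul_mem (hMn u hu _ (hju v hv)) (hUU u hu v hv)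
    intro g h hg hh
    obtain ⟨u, hu, hgu⟩ := hB g hg
    obtain ⟨v, hv, hhv⟩ := hB h hh
    rcases hgu with hgu | hgu
    · rcases hhv with hhv | hhv
      · rw [hgu, hhv]; exact hUU _ hu _ hv
      · rw [hgu, hhv]
        have : u * (v * j) * u⁻¹ * (v * j)⁻¹ = ((v * j) * u * (v * j)⁻¹ * u⁻¹)⁻¹ := by group
        rw [this]; exact M.inv_mem (key v hv u hu)
    · rcases hhv with hhv | hhv
      · rw [hgu, hhv]; exact key u hu _ hv
      · -- [uj, vj] = u (jvj) (j u⁻¹ j) v⁻¹
        rw [hgu, hhv]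
        have : (u * j) * (v * j) * (u * j)⁻¹ * (v * j)⁻¹ =
            (u * (j * v * j * v⁻¹) * u⁻¹) * (u * v * u⁻¹ * v⁻¹) * (v * (j * u * j * u⁻¹)⁻¹ * v⁻¹) := by
          have e : (j * u * j * u⁻¹)⁻¹ = u * j * u⁻¹ * j := by
            simp only [mul_inv_rev, hji, inv_inv, mul_assoc]
          rw [e, mul_inv_rev, mul_inv_rev, hji]
          have : (u * j) * (v * j) * (j * u⁻¹) * (j * v⁻¹) = u * j * v * (j * j) * u⁻¹ * j * v⁻¹ := by group
          rw [this, hj1]
          have : u * (j * v * j * v⁻¹) * u⁻¹ * (u * v * u⁻¹ * v⁻¹) * (v * (u * j * u⁻¹ * j) * v⁻¹) =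
              u * j * v * (j * j) * u⁻¹ * j * v⁻¹ := by group
          rw [this, hj1]
        rw [this]
        exact M.mul_mem (M.mul_mem (hMn u hu _ (hju v hv)) (hUU u hu v hv)) (hMn v hv _ (M.inv_mem (hju u hu)))
  have hcB' : ⁅stabilizer G a, stabilizer G a⁆ ≤ M := by
    rw [Subgroup.commutator_le]
    intro g hg h hh
    rw [commutatorElement_def]
    exact hcB g h (mem_stabilizer_iff.mp hg) (mem_stabilizer_iff.mp hh)
  -- `U a` is a Sylow 3-subgroup
  have hidx : ¬ 3 ∣ (U a).index := by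
    have hfin := S.finite_points hab
    have h1 := Subgroup.card_mul_index (U a)
    have h2 : Nat.card G = 28 * 54 := by
      have hs := S.card_stab hab
      have hpt := S.card_points hab
      have htr : IsPretransitive G Ω := ⟨fun x y => by
        by_cases hxy : x = y
        · exact ⟨1, by rw [one_smul, hxy]⟩
        · obtain ⟨g, hg, -⟩ := S.two x y y x hxy (Ne.symm hxy)
          exact ⟨g, hg⟩⟩
      have h4 := MulAction.index_stabilizer_of_transitive G a
      have h3 := Subgroup.card_mul_index (stabilizer G a)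
      rw [h4, hs, hpt] at h3
      rw [← h3]; norm_num
    rw [hcardU, h2] at h1
    omega
  let P : Sylow 3 G := (S.isPGroup (le_refl (U a))).toSylow hidx
  have hP : (P : Subgroup G) = U a := rfl
  -- fixed points
  have hfix : ∀ z ∈ U a, z ≠ 1 → ∀ c : Ω, z • c = c → c = a := by
    intro z hz hz1 c hc
    by_contra hca
    exact hz1 (S.eq_one_of_U hca hz hc)
  obtain ⟨z, hz, hz1⟩ : ∃ z ∈ ZZ U a, z ≠ 1 := by
    by_contra hcon
    push Not at hcon
    have : ZZ U a = ⊥ := by rw [Subgroup.eq_bot_iff_forall]; exact hcon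
    rw [this, Subgroup.card_bot] at hcardZ
    omega
  have hconjZ : ∀ g : G, g * z * g⁻¹ ∈ U a → g • a = a := by
    intro g hg
    refine hfix _ hg ?_ _ ?_
    · intro h; apply hz1; rwa [conj_eq_one_iff] at h
    · rw [mul_smul, mul_smul, inv_smul_smul, S.fix a z (ZZ_le_U hz)]
  have hZnorm : ∀ g : G, g • a = a → ∀ x ∈ ZZ U a, g * x * g⁻¹ ∈ ZZ U a := by
    intro g hg x hx
    rw [mem_ZZ] at hx ⊢
    refine ⟨S.conj_U_stab hg hx.1, fun u hu => ?_⟩
    have h1 := hx.2 _ (S.conj_U_stab' hg hu)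
    calc g * x * g⁻¹ * u = g * (x * (g⁻¹ * u * g)) * g⁻¹ := by group
      _ = g * ((g⁻¹ * u * g) * x) * g⁻¹ := by rw [h1]
      _ = u * (g * x * g⁻¹) := by group
  have hweak : Cfsg.IsWeaklyClosed (ZZ U a) (P : Subgroup G) := by
    refine ⟨ZZ_le_U, fun g hg => ?_⟩
    have hga : g • a = a := hconjZ g (hg ⟨z, hz, rfl⟩)
    apply le_antisymm
    · rintro _ ⟨x, hx, rfl⟩
      exact hZnorm g hga x hx
    · intro x hx
      have hga' : g⁻¹ • a = a := by rw [inv_smul_eq_iff, hga]
      refine ⟨g⁻¹ * x * g, ?_, ?_⟩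
      · have := hZnorm g⁻¹ hga' x hx
        rwa [inv_inv] at this
      · simp only [MulEquiv.coe_toMonoidHom, MulAut.conj_apply]; group
  have hcent : ZZ U a ≤ Subgroup.centralizer (P : Set G) := inf_le_right
  have hgr := Cfsg.Agent.S0077.result P (ZZ U a) hcent hweak
  have hNZ : Subgroup.normalizer (ZZ U a : Set G) ≤ stabilizer G a := by
    intro g hg
    rw [mem_stabilizer_iff]
    refine hconjZ g (ZZ_le_U ?_)
    exact (Subgroup.mem_normalizer_iff.mp hg z).mp hz
  -- G is perfect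
  have hperf : commutator G = ⊤ := by
    have := S.simple
    rcases (inferInstance : (commutator G).Normal).eq_bot_or_eq_top with h | h
    · exfalso
      have h1 := S.jj_ZZ hab hz
      have h2 : j * z * j = z := by
        have h3 : ⁅j, z⁆ ∈ commutator G := Subgroup.commutator_mem_commutator (Subgroup.mem_top _) (Subgroup.mem_top _)
        rw [h, Subgroup.mem_bot, commutatorElement_def, hji] at h3
        calc j * z * j = (j * z * j * z⁻¹) * z := by group
          _ = z := by rw [h3, one_mul]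
      rw [← hjdef, h2] at h1
      have h4 : z * z = 1 := by
        nth_rewrite 1 [h1]; exact inv_mul_cancel z
      have h5 := S.ZZ_cube hab hz
      apply hz1
      rw [pow_succ, pow_two, h4, one_mul] at h5
      exact h5
    · exact h
  have hUM : U a ≤ M := by
    rw [hperf, top_inf_eq, hP] at hgr
    rw [hgr]
    exact inf_le_left.trans ((Subgroup.commutator_mono hNZ hNZ).trans hcB')
  -- but E is not contained in M
  obtain ⟨e, he, he1⟩ : ∃ e ∈ E U a b, e ≠ 1 := by
    by_contra hcon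
    push Not at hcon
    have h0 : E U a b = ⊥ := by rw [Subgroup.eq_bot_iff_forall]; exact hcon
    have h1 := S.card_E hab
    rw [h0, Subgroup.card_bot] at h1
    omega
  have he2 := (hUM (E_le_U he)).2
  have he3 : j * e * j = e := by
    have := (mem_E.mp he).2
    rw [← hjdef] at this
    rw [this, mul_assoc, hj1, mul_one]
  rw [he3] at he2
  have he4 : e * e = 1 := S.ZZ_inf_E hab he2 ((E U a b).mul_mem he he)
  have he5 := S.E_cube hab he
  apply he1
  rw [pow_succ, pow_two, he4, one_mul] at he5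
  exact he5

end Setup

end Cfsg.Agent.ReeUniq
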