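import Cfsg.Agent.ReeUniq.Glue
import Cfsg.Agent.ReeUniq.NotClassTwo
import Cfsg.Agent.ReeUniq.NotOne

/-!
# S1149, part A

`Setup.exists_link` : the permutation group of S1149 has the relations `Rel σ τ G` for some `σ ≠ 1` and some `τ`.
-/

set_option autoImplicit false

namespace Cfsg.Agent.ReeUniq

variable {G Ω : Type*} [Group G] [MulAction G Ω] {U : Ω → Subgroup G} {n : ℕ}

theorem Setup.exists_link [Finite G] (S : Setup G Ω U n) {a b : Ω} (hab : a ≠ b) (F : Type*) [Field F] [Finite F]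
    (hF : Nat.card F = 3 ^ n) :
    ∃ (σ : F →+* F) (τ : F × F × F → F × F × F) (R : Rel σ τ G), (∃ x, σ x ≠ x) ∧ Link U n R a b ∧
      Function.Injective R.U :=
  S.exists_link_of_comm (S.one_lt_n hab) hab (S.exists_comm hab (S.one_lt_n hab)) F hF

end Cfsg.Agent.ReeUniq
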