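/-
Assembly: the hypotheses of S1149 imply that `G` is a small Ree group, given the pointwise identity.
-/
import Cfsg.Agent.ReeUniq.Final
import Cfsg.Agent.ReeUniq.Constr
import Cfsg.Agent.ReeUniq.PartA

set_option autoImplicit false
set_option linter.unusedSectionVars false

namespace Cfsg.Agent.ReeUniq.FinalGroup

open Cfsg.Agent.ReeUniq

/-- **Recognition of the small Ree groups**, given the pointwise identity. -/
theorem isoRee_of_hyp {G : Type*} [Group G] [Finite G] [IsSimpleGroup G]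
    (P : Cfsg.BNPair G) (h1 : P.rank = 1) {n : ℕ} (hn : Odd n)
    (U : Subgroup G) (hUB : U ≤ P.B) (hUn : ∀ b ∈ P.B, ∀ u ∈ U, b * u * b⁻¹ ∈ U)
    (hsplit : U ⊔ (P.B ⊓ P.N) = P.B) (hdisj : U ⊓ (P.B ⊓ P.N) = ⊥)
    (hind : P.B.index = 3 ^ (3 * n) + 1) (hU : Nat.card U = 3 ^ (3 * n)) (hHc : IsCyclic ↥(P.B ⊓ P.N))
    (hH : Nat.card ↥(P.B ⊓ P.N) = 3 ^ n - 1)
    (hfpf : ∀ h ∈ P.B ⊓ P.N, h ≠ 1 → Odd (orderOf h) → U ⊓ Subgroup.centralizer {h} = ⊥)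
    (K : Type*) [Field K] [Fintype K] (hK : Fintype.card K = 3 ^ n)
    (hinv : ∃ a ∈ P.B ⊓ P.N, a ≠ 1 ∧ a * a = 1 ∧
      Nonempty (↥(Subgroup.centralizer {a}) ≃* Multiplicative (ZMod 2) × Matrix.ProjectiveSpecialLinearGroup (Fin 2) K))
    (hsyl : ∀ S : Sylow 2 G, Nat.card S = 8 ∧ ∀ x ∈ S, x * x = 1)
    (hcert : ∀ (σ : K →+* K) (τ : K × K × K → K × K × K) (R : Rel σ τ G) (M : K → K) (d : K),
      Start σ τ R M d → IsM σ M → Final.PointCert σ) : Cfsg.Lie.IsoRee G := by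
  obtain ⟨V, S, -, b, hab⟩ := exists_setup P h1 hn U hUB hUn hsplit hdisj hind hU hHc hH hfpf K hK hinv hsyl
  obtain ⟨σ, τ, R, -, L, -⟩ := S.exists_link hab K (by rw [Nat.card_eq_fintype_card, hK])
  exact Final.isoRee L (S.one_lt_n hab) (hcert σ)

end Cfsg.Agent.ReeUniq.FinalGroup
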