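import Cfsg.Agent.ReeUniq.HomF3

/-!
# The elimination certificate

Six equations in a field of characteristic three in which `-1` is not a square force the
parameter `k` to vanish.  The data (found by linear algebra over `𝔽₃`) are homogeneous
polynomials in `e₁, e₂, e₃, k` (weights `1, 2, 3, 2`).
-/

namespace Cfsg.Agent.ReeUniq.Cert

open Cfsg.Agent.ReeUniq.PolyF3 Cfsg.Agent.ReeUniq.HomF3

/-! ### data -/

def F19 : H := .dat 2 3 2 19
    [[0, 0, 4161, 1056, 66, 42, 1],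
     [0, 22932, 1674, 534, 16, 5],
     [23184, 1554, 342, 129, 6],
     [2148, 2202, 64, 42, 2],
     [537, 165, 22, 9],
     [600, 36, 10]]

def G19 : H := .dat 2 3 2 19
    [[0, 0, 5733, 1185, 168, 18, 2],
     [0, 42084, 645, 66, 40, 10],
     [35088, 10902, 402, 82, 8],
     [9828, 516, 21, 26, 1],
     [2457, 600, 36, 6],
     [66, 42, 6]]

def rho0 : H := .dat 2 3 2 34
    [[0, 0, 0, 0, 0x849258, 362010, 18585, 1572, 0, 168, 9],
     [0, 0, 0, 0x596580, 0x21a692, 174180, 26712, 1701, 384, 20],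
     [0, 0, 0x140a900, 152208, 697929, 27009, 10656, 298, 136, 2],
     [0, 0x662100, 0x9a9800, 672336, 22560, 522, 2625, 98, 10],
     [0x2082000, 0x290940, 0x214800, 9513, 4761, 678, 409, 24],
     [0x820800, 0x208200, 304164, 4614, 4098, 357, 86, 1],
     [0, 610344, 38241, 10386, 2394, 66, 9],
     [266304, 136710, 9894, 1056, 168, 24],
     [66576, 8322, 582, 129, 42]]

def rho1 : H := .dat 2 3 2 33
    [[0, 0, 0, 0x461850, 337041, 5544, 10650, 10836, 402, 24],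
     [0, 0, 0x208200, 0x186180, 164868, 71316, 4614, 2370, 130, 4],
     [0, 0x15a800, 0x8a2880, 0x162924, 42309, 35088, 1376, 105, 9],
     [0x685800, 0x460080, 415296, 174426, 16914, 1605, 80, 169, 2],
     [0x94a400, 0x290940, 279972, 9738, 5481, 2148, 26, 6],
     [0x15a800, 563472, 152145, 8214, 1608, 98, 10],
     [152208, 70737, 33024, 1638, 405, 70, 1],
     [106848, 5154, 5154, 42, 144, 6],
     [43344, 582, 1122, 582, 6]]

def rho2 : H := .dat 2 3 2 32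
    [[0, 0, 0, 399456, 0x2a28a4, 86058, 8709, 2394, 546, 33],
     [0, 0, 0x1145100, 0x2a1191, 147480, 41481, 5640, 594, 137, 2],
     [0, 0x2909400, 0x856a10, 71064, 106821, 10656, 521, 132, 2],
     [0x1988400, 0x122640, 0x191a00, 136857, 26202, 2384, 618, 41],
     [0x448980, 0x280560, 624282, 18009, 1449, 341, 81, 1],
     [0x4a4240, 153768, 22932, 8214, 2724, 129, 2],
     [626976, 87381, 18774, 84, 258, 32],
     [139545, 33894, 2328, 273, 42],
     [136710, 9894, 2064]]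

def u2 : H := .dat 2 3 2 11
    [[1430, 649, 9, 5],
     [37],
     [18, 36, 1],
     [34, 5],
     [6, 2],
     [1]]

def co0 : H := .dat 2 3 2 43
    [[0, 0x160a05aa24, 0x190a698221, 0xa428a824, 0x8940185a, 0x2aa50489, 0x2851a6a, 0x284865,
      546904, 99738, 2688, 337, 106, 33, 1],
     [0x28884548820, 0x2111095542, 0x614086116, 0xa8655a58, 0x29060242, 0xa266520, 0x401826,
      0x254958, 152724, 35076, 1448, 260, 1, 5],
     [0x8a09920898, 0x151a41a511, 0x221894a48, 0x46694428, 0x2664a69, 0x12a4a66, 0x106a92,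
      353280, 34049, 4132, 281, 81],
     [0x540a0a856, 0x906a828a4, 0x268404a5, 0x15655696, 0x402919, 0x902a18, 403460, 37122,
      10249, 2338, 164, 6],
     [0x9a9a65215, 0x111440682, 0x19181064, 0x5669186, 625001, 0x18845a, 70952, 26277, 2086,
      130, 20],
     [0x22500620a, 0x46a2142a, 0x9901298, 0x548881, 75408, 86080, 25664, 4714, 9, 65, 2],
     [0x5a198a68, 0x2284a42a, 0x619848, 288418, 300673, 166154, 6226, 2197, 85, 20, 2],
     [0x1598996a, 0x2546a42, 0x881280, 0x2805aa, 137306, 24602, 298, 281, 20, 8],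
     [0x1a06a8a, 615018, 0x205009, 432537, 33065, 2626, 9, 69],
     [0x1856214, 0x60a482, 346720, 68005, 10852, 2214, 86, 34],
     [0xa5209a, 0x1a2044, 39428, 39594, 292, 160, 9],
     [264516, 418968, 41040, 10408, 416, 85, 2],
     [676389, 156672, 10410, 2310, 5, 2],
     [21924, 9801, 1125, 36, 2]]

def co1 : H := .dat 2 3 2 43
    [[0, 0x55518a5528, 0x1906554222, 0x2a2211525, 0x42162045, 0x25451802, 0x1161600, 419970,
      263332, 321, 1092, 2056, 97, 42, 1],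
     [0x2645946a590, 0x1659551a09, 0xa548a808a, 0x29a022419, 0x29408955, 0x1064001, 0x254a65,
      0x248512, 22914, 22820, 2600, 85, 1, 5],
     [0x292a9a8214, 0x186aa6468a, 0x1429a6910, 0x96299506, 0x6225026, 0x14404a1, 562837, 33368,
      34453, 10249, 642, 86, 2],
     [0x10a82588a5, 0x668258841, 0x861221a1, 0x12595121, 0x991020, 0x869014, 103722, 10394,
      8597, 1105, 100],
     [0x8956490a6, 0x240a40a66, 0x1496a685, 0x11898a9, 0x6584a6, 0x245562, 91729, 1125, 2704,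
      385, 38],
     [0x98214a56, 0x94592985, 0, 0x2000001, 0, 0, 2, 1, 0, 64],
     [0x92685a29, 0x19881a15, 0, 0, 0, 131074, 2, 2049, 1, 16, 2],
     [0x15806a, 0x800a065, 1, 0x200001, 1, 16385, 0, 0, 1, 8],
     [0x9898254, 0x205aa9, 2, 262144, 0, 0, 2, 66],
     [0x1454418, 0x284189, 2, 65537, 0, 2050, 1, 32],
     [0x5528a9, 0x298944, 2, 1, 0, 512],
     [0x1984a1, 345170, 0, 4096, 1, 65, 2],
     [627792, 16982, 2, 2049, 1, 2],
     [74832, 6309, 0, 2, 2]]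

def co2 : H := .dat 2 3 2 29
    [[0x22919268, 0x2119224, 0x6a6262, 655752, 35146, 4260, 1169, 340, 1, 1],
     [264261, 0x1096806, 0x14a298, 151873, 4384, 10778, 546, 22],
     [0x290418a, 0x528448, 6660, 86617, 1697, 549, 36, 6, 2],
     [0x588850, 0x104901, 22689, 16385],
     [9314, 37, 6, 4096, 0, 128],
     [5, 4, 0, 2048, 0, 0, 1],
     [9, 1, 0, 256],
     [4, 8192, 0, 64],
     [9, 1024, 0, 16],
     [1],
     [2]]

def co3 : H := .dat 2 3 2 30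
    [[0x8565858, 0x920aa26, 0x8a4aa8, 0x22a661, 420432, 9730],
     [33],
     [2]]

/-! ### expressions -/

/-- `f - g` modulo three -/
def sb (f g : H) : H := .add f (.mul (.nat 2) g)

instance : Add H := ⟨H.add⟩
instance : Mul H := ⟨H.mul⟩
instance : Sub H := ⟨sb⟩
instance : Pow H ℕ := ⟨H.pow⟩

section

variable {K : Type*} [Field K]

theorem ev_add (v : Q K) (f g : H) : ev v (f + g) = ev v f + ev v g := rfl
theorem ev_mul (v : Q K) (f g : H) : ev v (f * g) = ev v f * ev v g := rfl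
theorem ev_pow (v : Q K) (f : H) (m : ℕ) : ev v (f ^ m) = ev v f ^ m := rfl

theorem ev_sub (h3 : (3 : K) = 0) (v : Q K) (f g : H) : ev v (f - g) = ev v f - ev v g := by
  have h : ev v (f - g) = ev v f + ((2 : ℕ) : K) * ev v g := rfl
  rw [h]
  push_cast
  linear_combination (ev v g) * h3

end

/-- polynomials of weight `8` -/
def P1 {K : Type*} [Add K] [Mul K] [Sub K] [Pow K ℕ] (A B C k : K) : K :=
  (C * A - k) * (A * B - k) * (C ^ 4 - (B - A) ^ 3 * (B + C) - C ^ 2 * (B - A) * (A + B + C)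
    + C ^ 2 * (B - A) * (C - B) + (B + C - A) ^ 2 * ((B + C - A) ^ 2 - B * C))
  - B * C ^ 2 * ((C - B) * (A - C) * (B - A)) * (C * A - k)
  - B * C * (C - B) * (B - A) ^ 3 * (A * B - k)

def P2 {K : Type*} [Add K] [Mul K] [Sub K] [Pow K ℕ] (A B C k : K) : K :=
  (B * C - k) * (A * B - k) * (C ^ 4 + (B - A) ^ 3 * (A + C) + C ^ 2 * (B - A) * (A + B + C)
    + C ^ 2 * (B - A) * (A - C) + (A + C - B) ^ 2 * ((A + C - B) ^ 2 - C * A))
  + A * C ^ 2 * ((C - B) * (A - C) * (B - A)) * (B * C - k)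
  - A * C * (A - C) * (B - A) ^ 3 * (A * B - k)

/-- the three relations, in terms of the values `k₁, …, k₆` -/
def relS {K : Type*} [Add K] [Mul K] [Sub K] [Pow K ℕ] (k1 k2 k3 k4 k5 k6 : K) : K :=
  k1 * k3 * k5 - k2 * k4 * k6

def relG {K : Type*} [Add K] [Mul K] [Sub K] [Pow K ℕ] (a b c Pi X Y Z k1 k2 k3 k4 k5 k6 : K) : K :=
  b ^ 2 * c ^ 2 * X * (Z * k1 * k5 - Y * k2 * k6) + c ^ 2 * a ^ 2 * Y * (X * k1 * k3 - Z * k2 * k4)
  + a ^ 2 * b ^ 2 * Z * (Y * k3 * k5 - X * k4 * k6)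
  + Pi * a ^ 2 * b ^ 2 * c ^ 2 * (X * Y * Z) *
    (Z * k4 - Y * k3 + (X * k6 - Z * k5) + (Y * k2 - X * k1))

def relR {K : Type*} [Add K] [Mul K] [Sub K] [Pow K ℕ]
    (a b c Pi BC X Y Z k1 k2 k3 k4 k5 k6 : K) : K :=
  (c ^ 2 * k2 * k4 - b ^ 2 * k3 * k5 + b ^ 2 * c ^ 2 * Pi * X * (Z * k5 - Y * k2)
    - a ^ 2 * b ^ 2 * c ^ 2 * X * (Z * k4 - Y * k3)) *
  (c ^ 2 * Y * k1 * k3 - b ^ 2 * Z * k4 * k6 + b ^ 2 * c ^ 2 * Pi * (X * Y * Z) * (k6 - k1)
    + a ^ 2 * b ^ 2 * c ^ 2 * (Y * Z) * (Z * k4 - Y * k3))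
  + a ^ 2 * BC * b ^ 4 * c ^ 4 * (X * Y * Z) * (Z * k4 - Y * k3) ^ 2

section

variable {K : Type*} [Field K]

theorem relS_zero {X Y Z p q r ps qs rs k1 k2 k3 k4 k5 k6 : K}
    (h1 : Y * Z * (ps * q) = k1) (h2 : X * Z * (qs * p) = k2) (h3 : X * Z * (qs * r) = k3)
    (h4 : X * Y * (rs * q) = k4) (h5 : X * Y * (rs * p) = k5) (h6 : Y * Z * (ps * r) = k6) :
    relS k1 k2 k3 k4 k5 k6 = 0 := by
  subst h1 h2 h3 h4 h5 h6
  simp only [relS]
  ring

theorem relG_zero {a b c Pi X Y Z p q r ps qs rs k1 k2 k3 k4 k5 k6 : K}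
    (h1 : Y * Z * (ps * q) = k1) (h2 : X * Z * (qs * p) = k2) (h3 : X * Z * (qs * r) = k3)
    (h4 : X * Y * (rs * q) = k4) (h5 : X * Y * (rs * p) = k5) (h6 : Y * Z * (ps * r) = k6)
    (f1 : p * ps - a ^ 2 * (p + ps) + a ^ 2 * Pi = 0)
    (f2 : q * qs - b ^ 2 * (q + qs) + b ^ 2 * Pi = 0)
    (f3 : r * rs - c ^ 2 * (r + rs) + c ^ 2 * Pi = 0) :
    relG a b c Pi X Y Z k1 k2 k3 k4 k5 k6 = 0 := by
  subst h1 h2 h3 h4 h5 h6
  simp only [relG]
  linear_combination (X * Y * Z) ^ 2 * (b ^ 2 * c ^ 2 * (rs * q - qs * r) * f1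
    + c ^ 2 * a ^ 2 * (ps * r - rs * p) * f2 + a ^ 2 * b ^ 2 * (qs * p - ps * q) * f3)

theorem relR_zero {a b c Pi BC X Y Z p q r ps qs rs k1 k2 k3 k4 k5 k6 : K}
    (h1 : Y * Z * (ps * q) = k1) (h2 : X * Z * (qs * p) = k2) (h3 : X * Z * (qs * r) = k3)
    (h4 : X * Y * (rs * q) = k4) (h5 : X * Y * (rs * p) = k5) (h6 : Y * Z * (ps * r) = k6)
    (f1 : p * ps - a ^ 2 * (p + ps) + a ^ 2 * Pi = 0)
    (f2 : q * qs - b ^ 2 * (q + qs) + b ^ 2 * Pi = 0)
    (f3 : r * rs - c ^ 2 * (r + rs) + c ^ 2 * Pi = 0) (hBC : a ^ 2 - BC = Pi) :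
    relR a b c Pi BC X Y Z k1 k2 k3 k4 k5 k6 = 0 := by
  have e1 : c ^ 2 * k2 * k4 - b ^ 2 * k3 * k5 + b ^ 2 * c ^ 2 * Pi * X * (Z * k5 - Y * k2) =
      b ^ 2 * c ^ 2 * X * p * (Z * k4 - Y * k3) := by
    subst h2 h3 h4 h5
    linear_combination X ^ 2 * Y * Z * p * (c ^ 2 * rs * f2 - b ^ 2 * qs * f3)
  have e2 : c ^ 2 * Y * k1 * k3 - b ^ 2 * Z * k4 * k6 + b ^ 2 * c ^ 2 * Pi * (X * Y * Z) *
      (k6 - k1) = - (b ^ 2 * c ^ 2 * (Y * Z) * ps * (Z * k4 - Y * k3)) := by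
    subst h1 h3 h4 h6
    linear_combination X * Y ^ 2 * Z ^ 2 * ps * (c ^ 2 * r * f2 - b ^ 2 * q * f3)
  rw [relR, e1, e2]
  have e3 : BC = a ^ 2 - Pi := by rw [← hBC]; ring
  rw [e3]
  linear_combination - (b ^ 4 * c ^ 4 * (X * Y * Z) * (Z * k4 - Y * k3) ^ 2) * f1

end

/-! ### identities -/

/-- `A, B, C, k` -/
def cA : H := .x0
def cB : H := .x1
def cC : H := .x2
def ck : H := .x3

def s1 : H := cA + cB + cC
def s2 : H := cA * cB + cB * cC + cC * cA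
def s3 : H := cA * cB * cC

/-- substitution of the elementary symmetric functions -/
def sy (f : H) : H := .sub f s1 s2 s3 ck

def cfg : Cfg 3 := ⟨80, ![50, 50, 26], ![1, 50, 2500], 65000⟩
def cfg' : Cfg 3 := ⟨40, ![34, 23, 34], ![1, 34, 782], 26588⟩

theorem good : cfg.Good := ⟨by decide, by decide, by decide, by decide⟩
theorem good' : cfg'.Good := ⟨by decide, by decide, by decide, by decide⟩

def lhs1 : H := relS (P1 cA cB cC ck) (P2 cA cB cC ck) (P1 cB cC cA ck) (P2 cB cC cA ck)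
    (P1 cC cA cB ck) (P2 cC cA cB ck)

def rhs1 : H := ck * ((cC - cB) * (cA - cC) * (cB - cA)) * sy F19


def hX : H := cB * cC - ck
def hY : H := cC * cA - ck
def hZ : H := cA * cB - ck
def ha : H := cB + cC - cA
def hb : H := cA + cC - cB
def hc : H := cA + cB - cC

def lhs2 : H := relG ha hb hc (ha ^ 2 - cB * cC) hX hY hZ (P1 cA cB cC ck) (P2 cA cB cC ck)
    (P1 cB cC cA ck) (P2 cB cC cA ck) (P1 cC cA cB ck) (P2 cC cA cB ck)

def rhs2 : H := ck * ((cC - cB) * (cA - cC) * (cB - cA)) * sy G19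

def lhs3 : H := relR ha hb hc (ha ^ 2 - cB * cC) (cB * cC) hX hY hZ (P1 cA cB cC ck)
    (P2 cA cB cC ck) (P1 cB cC cA ck) (P2 cB cC cA ck) (P1 cC cA cB ck) (P2 cC cA cB ck)

def rhs3 : H := ck * (cC - cB) ^ 2 * (sy rho0 + cA * sy rho1 + cA ^ 2 * sy rho2)

/-- `e₁, e₂, e₃, k` -/
def de1 : H := .x0
def de2 : H := .x1
def de3 : H := .x2

def dabc : H := de3 + de1 * de2 - de1 ^ 3
def ddisc : H := de1 ^ 2 * de2 ^ 2 - de2 ^ 3 - de1 ^ 3 * de3
def dXYZ : H := de3 ^ 2 - ck * de1 * de3 + ck ^ 2 * de2 - ck ^ 3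
def du1 : H := de1 ^ 2 * de2 - de2 ^ 2 - de1 * de3 + de2 * ck

def lhs4 : H := ck * de3 ^ 2 * dabc ^ 2 * ddisc ^ 2 * dXYZ *
  ((du1 ^ 2 + ck ^ 4) * (u2 ^ 2 + ddisc * ck ^ 8))

def rhs4 : H := co0 * F19 + co1 * G19 + co2 * rho1 + co3 * rho2


theorem id1 : check cfg 1 1 2 lhs1 rhs1 = true := by decide +kernel
theorem id2 : check cfg 1 1 2 lhs2 rhs2 = true := by decide +kernel
theorem id3 : check cfg 1 1 2 lhs3 rhs3 = true := by decide +kernel
theorem id4 : check cfg' 2 3 2 lhs4 rhs4 = true := by decide +kernel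

/-! ### conclusion -/

section

variable {K : Type*} [Field K]

/-- elementary symmetric functions of `A, B, C`, and `k` -/
def pt (A B C k : K) : Q K := ⟨A + B + C, A * B + B * C + C * A, A * B * C, k⟩

theorem pt_cyc (A B C k : K) : pt B C A k = pt A B C k := by
  have h1 : B + C + A = A + B + C := by ring
  have h2 : B * C + C * A + A * B = A * B + B * C + C * A := by ring
  have h3 : B * C * A = A * B * C := by ring
  simp only [pt, h1, h2, h3]

theorem ev_sy (A B C k : K) (f : H) : ev ⟨A, B, C, k⟩ (sy f) = ev (pt A B C k) f := rfl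

theorem ev_P1 (h3 : (3 : K) = 0) (v : Q K) (a b c d : H) :
    ev v (P1 a b c d) = P1 (ev v a) (ev v b) (ev v c) (ev v d) := by
  simp only [P1, ev_add, ev_sub h3, ev_mul, ev_pow]

theorem ev_P2 (h3 : (3 : K) = 0) (v : Q K) (a b c d : H) :
    ev v (P2 a b c d) = P2 (ev v a) (ev v b) (ev v c) (ev v d) := by
  simp only [P2, ev_add, ev_sub h3, ev_mul, ev_pow]

theorem ev_relS (h3 : (3 : K) = 0) (v : Q K) (a b c d e f : H) :
    ev v (relS a b c d e f) = relS (ev v a) (ev v b) (ev v c) (ev v d) (ev v e) (ev v f) := by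
  simp only [relS, ev_sub h3, ev_mul]

theorem ev_relG (h3 : (3 : K) = 0) (v : Q K) (a b c P X Y Z k1 k2 k3 k4 k5 k6 : H) :
    ev v (relG a b c P X Y Z k1 k2 k3 k4 k5 k6) = relG (ev v a) (ev v b) (ev v c) (ev v P)
      (ev v X) (ev v Y) (ev v Z) (ev v k1) (ev v k2) (ev v k3) (ev v k4) (ev v k5) (ev v k6) := by
  simp only [relG, ev_add, ev_sub h3, ev_mul, ev_pow]

theorem ev_relR (h3 : (3 : K) = 0) (v : Q K) (a b c P D X Y Z k1 k2 k3 k4 k5 k6 : H) :
    ev v (relR a b c P D X Y Z k1 k2 k3 k4 k5 k6) = relR (ev v a) (ev v b) (ev v c) (ev v P)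
      (ev v D) (ev v X) (ev v Y) (ev v Z) (ev v k1) (ev v k2) (ev v k3) (ev v k4) (ev v k5)
      (ev v k6) := by
  simp only [relR, ev_add, ev_sub h3, ev_mul, ev_pow]

theorem ev_cA (A B C k : K) : ev ⟨A, B, C, k⟩ cA = A := rfl
theorem ev_cB (A B C k : K) : ev ⟨A, B, C, k⟩ cB = B := rfl
theorem ev_cC (A B C k : K) : ev ⟨A, B, C, k⟩ cC = C := rfl
theorem ev_ck (A B C k : K) : ev ⟨A, B, C, k⟩ ck = k := rfl

/-- the nine equations -/
structure Eqs (A B C k p q r ps qs rs : K) : Prop where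
  h1 : (C * A - k) * (A * B - k) * (ps * q) = P1 A B C k
  h2 : (B * C - k) * (A * B - k) * (qs * p) = P2 A B C k
  h3 : (B * C - k) * (A * B - k) * (qs * r) = P1 B C A k
  h4 : (B * C - k) * (C * A - k) * (rs * q) = P2 B C A k
  h5 : (B * C - k) * (C * A - k) * (rs * p) = P1 C A B k
  h6 : (C * A - k) * (A * B - k) * (ps * r) = P2 C A B k
  f1 : (p - (B + C - A) ^ 2) * (ps - (B + C - A) ^ 2) = (B + C - A) ^ 2 * (B * C)
  f2 : (q - (A + C - B) ^ 2) * (qs - (A + C - B) ^ 2) = (A + C - B) ^ 2 * (C * A)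
  f3 : (r - (A + B - C) ^ 2) * (rs - (A + B - C) ^ 2) = (A + B - C) ^ 2 * (A * B)

theorem Eqs.cyc {A B C k p q r ps qs rs : K} (E : Eqs A B C k p q r ps qs rs) :
    Eqs B C A k q r p qs rs ps where
  h1 := by rw [← E.h3]; ring
  h2 := by rw [← E.h4]; ring
  h3 := by rw [← E.h5]; ring
  h4 := by rw [← E.h6]
  h5 := by rw [← E.h1]
  h6 := by rw [← E.h2]; ring
  f1 := by
    have h := E.f2
    rw [show C + A - B = A + C - B by ring]
    exact h
  f2 := by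
    have h := E.f3
    rw [show B + A - C = A + B - C by ring]
    exact h
  f3 := E.f1

variable {A B C k p q r ps qs rs : K}

theorem Eqs.rel (h3 : (3 : K) = 0) (E : Eqs A B C k p q r ps qs rs) :
    p * ps - (B + C - A) ^ 2 * (p + ps) + (B + C - A) ^ 2 * ((B + C - A) ^ 2 - B * C) = 0 ∧
    q * qs - (A + C - B) ^ 2 * (q + qs) + (A + C - B) ^ 2 * ((B + C - A) ^ 2 - B * C) = 0 ∧
    r * rs - (A + B - C) ^ 2 * (r + rs) + (A + B - C) ^ 2 * ((B + C - A) ^ 2 - B * C) = 0 := by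
  refine ⟨?_, ?_, ?_⟩
  · linear_combination E.f1
  · linear_combination E.f2 - (A + C - B) ^ 2 * (C * (A - B)) * h3
  · linear_combination E.f3 - (A + B - C) ^ 2 * (B * (A - C)) * h3

theorem Eqs.F19_zero (h3 : (3 : K) = 0) (E : Eqs A B C k p q r ps qs rs) (hk : k ≠ 0)
    (hx : C - B ≠ 0) (hy : A - C ≠ 0) (hz : B - A ≠ 0) : ev (pt A B C k) F19 = 0 := by
  have h := HomF3.sound good id1 h3 ⟨A, B, C, k⟩
  simp only [lhs1, rhs1, ev_relS h3, ev_P1 h3, ev_P2 h3, ev_cA, ev_cB, ev_cC, ev_ck, ev_sy,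
    ev_mul, ev_sub h3] at h
  rw [relS_zero E.h1 E.h2 E.h3 E.h4 E.h5 E.h6] at h
  exact (mul_eq_zero.1 h.symm).resolve_left
    (mul_ne_zero hk (mul_ne_zero (mul_ne_zero hx hy) hz))

theorem Eqs.G19_zero (h3 : (3 : K) = 0) (E : Eqs A B C k p q r ps qs rs) (hk : k ≠ 0)
    (hx : C - B ≠ 0) (hy : A - C ≠ 0) (hz : B - A ≠ 0) : ev (pt A B C k) G19 = 0 := by
  have h := HomF3.sound good id2 h3 ⟨A, B, C, k⟩
  simp only [lhs2, rhs2, ha, hb, hc, hX, hY, hZ, ev_relG h3, ev_P1 h3, ev_P2 h3, ev_cA, ev_cB,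
    ev_cC, ev_ck, ev_sy, ev_add, ev_mul, ev_sub h3, ev_pow] at h
  obtain ⟨f1, f2, f3⟩ := E.rel h3
  rw [relG_zero E.h1 E.h2 E.h3 E.h4 E.h5 E.h6 f1 f2 f3] at h
  exact (mul_eq_zero.1 h.symm).resolve_left
    (mul_ne_zero hk (mul_ne_zero (mul_ne_zero hx hy) hz))

theorem Eqs.rho (h3 : (3 : K) = 0) (E : Eqs A B C k p q r ps qs rs) (hk : k ≠ 0)
    (hx : C - B ≠ 0) :
    ev (pt A B C k) rho0 + A * ev (pt A B C k) rho1 + A ^ 2 * ev (pt A B C k) rho2 = 0 := by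
  have h := HomF3.sound good id3 h3 ⟨A, B, C, k⟩
  simp only [lhs3, rhs3, ha, hb, hc, hX, hY, hZ, ev_relR h3, ev_P1 h3, ev_P2 h3, ev_cA, ev_cB,
    ev_cC, ev_ck, ev_sy, ev_add, ev_mul, ev_sub h3, ev_pow] at h
  obtain ⟨f1, f2, f3⟩ := E.rel h3
  rw [relR_zero E.h1 E.h2 E.h3 E.h4 E.h5 E.h6 f1 f2 f3 (by ring)] at h
  exact (mul_eq_zero.1 h.symm).resolve_left (mul_ne_zero hk (pow_ne_zero _ hx))

theorem Eqs.rho12 (h3 : (3 : K) = 0) (E : Eqs A B C k p q r ps qs rs) (hk : k ≠ 0)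
    (hx : C - B ≠ 0) (hy : A - C ≠ 0) (hz : B - A ≠ 0) :
    ev (pt A B C k) rho1 = 0 ∧ ev (pt A B C k) rho2 = 0 := by
  have a1 := E.rho h3 hk hx
  have a2 := E.cyc.rho h3 hk hy
  have a3 := E.cyc.cyc.rho h3 hk hz
  rw [pt_cyc] at a2
  rw [pt_cyc, pt_cyc] at a3
  set u := ev (pt A B C k) rho0
  set v := ev (pt A B C k) rho1
  set w := ev (pt A B C k) rho2
  have hw : w = 0 := by
    have : (C - B) * (A - C) * (B - A) * w = 0 := by
      linear_combination - (C - B) * a1 - (A - C) * a2 - (B - A) * a3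
    exact (mul_eq_zero.1 this).resolve_left (mul_ne_zero (mul_ne_zero hx hy) hz)
  refine ⟨?_, hw⟩
  have : (B - A) * v = 0 := by
    rw [hw] at a1 a2
    linear_combination a2 - a1
  exact (mul_eq_zero.1 this).resolve_left hz

/-- **The elimination**: in a field of characteristic three without a square root of `-1`. -/
theorem Eqs.eq_zero (h3 : (3 : K) = 0) (hsq : ∀ x : K, x ^ 2 ≠ -1)
    (E : Eqs A B C k p q r ps qs rs) (hA : A ≠ 0) (hB : B ≠ 0) (hC : C ≠ 0)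
    (ha : B + C - A ≠ 0) (hb : A + C - B ≠ 0) (hc : A + B - C ≠ 0)
    (hx : C - B ≠ 0) (hy : A - C ≠ 0) (hz : B - A ≠ 0)
    (hX : B * C - k ≠ 0) (hY : C * A - k ≠ 0) (hZ : A * B - k ≠ 0) : k = 0 := by
  by_contra hk
  have h := HomF3.sound good' id4 h3 (pt A B C k)
  obtain ⟨r1, r2⟩ := E.rho12 h3 hk hx hy hz
  simp only [rhs4, ev_add, ev_mul, E.F19_zero h3 hk hx hy hz, E.G19_zero h3 hk hx hy hz, r1, r2,
    mul_zero, add_zero] at h
  simp only [lhs4, dabc, ddisc, dXYZ, du1, ev_add, ev_mul, ev_sub h3, ev_pow] at h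
  have e1 : ev (pt A B C k) de1 = A + B + C := rfl
  have e2 : ev (pt A B C k) de2 = A * B + B * C + C * A := rfl
  have e3 : ev (pt A B C k) de3 = A * B * C := rfl
  have ek : ev (pt A B C k) ck = k := rfl
  simp only [ek] at h
  set w := ev (pt A B C k) u2
  set u := ev (pt A B C k) de1 ^ 2 * ev (pt A B C k) de2 - ev (pt A B C k) de2 ^ 2 -
    ev (pt A B C k) de1 * ev (pt A B C k) de3 + ev (pt A B C k) de2 * k
  rw [e1, e2, e3] at h
  have habc : A * B * C + (A + B + C) * (A * B + B * C + C * A) - (A + B + C) ^ 3 =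
      (B + C - A) * (A + C - B) * (A + B - C) := by
    linear_combination (-((A + B + C) * (A * B + B * C + C * A)) + 3 * (A * B * C)) * h3
  have hdisc : (A + B + C) ^ 2 * (A * B + B * C + C * A) ^ 2 - (A * B + B * C + C * A) ^ 3 -
      (A + B + C) ^ 3 * (A * B * C) = ((C - B) * (A - C) * (B - A)) ^ 2 := by
    linear_combination ((A * B + B * C + C * A) ^ 3 + (A + B + C) ^ 3 * (A * B * C)
      - 6 * (A + B + C) * (A * B + B * C + C * A) * (A * B * C) + 9 * (A * B * C) ^ 2) * h3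
  have hXYZ : (A * B * C) ^ 2 - k * (A + B + C) * (A * B * C) + k ^ 2 * (A * B + B * C + C * A)
      - k ^ 3 = (B * C - k) * (C * A - k) * (A * B - k) := by ring
  rw [habc, hdisc, hXYZ] at h
  have hd : (C - B) * (A - C) * (B - A) ≠ 0 := mul_ne_zero (mul_ne_zero hx hy) hz
  have h0 : (u ^ 2 + k ^ 4) * (w ^ 2 + ((C - B) * (A - C) * (B - A)) ^ 2 * k ^ 8) = 0 := by
    refine (mul_eq_zero.1 h).resolve_left ?_
    refine mul_ne_zero (mul_ne_zero (mul_ne_zero (mul_ne_zero hk ?_) ?_) ?_) ?_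
    · exact pow_ne_zero _ (mul_ne_zero (mul_ne_zero hA hB) hC)
    · exact pow_ne_zero _ (mul_ne_zero (mul_ne_zero ha hb) hc)
    · exact pow_ne_zero _ (pow_ne_zero _ hd)
    · exact mul_ne_zero (mul_ne_zero hX hY) hZ
  rcases mul_eq_zero.1 h0 with h5 | h5
  · refine hsq (u / k ^ 2) ?_
    rw [div_pow, div_eq_iff (pow_ne_zero _ (pow_ne_zero _ hk))]
    linear_combination h5
  · refine hsq (w / (((C - B) * (A - C) * (B - A)) * k ^ 4)) ?_
    rw [div_pow, div_eq_iff (pow_ne_zero _ (mul_ne_zero hd (pow_ne_zero _ hk)))]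
    linear_combination h5

end

end Cfsg.Agent.ReeUniq.Cert
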