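import Cfsg.Agent.ReeUniq.CertInput
import Cfsg.Agent.ReeUniq.MidEq
import Cfsg.Agent.ReeUniq.CertDegen

/-!
# S1149: the nine equations at a nontrivial point
-/

set_option autoImplicit false

namespace Cfsg.Agent.ReeUniq

namespace CertIn

section Alg

variable {K : Type*} [Field K]

theorem hII_aux {A C b y z z1 al am be bm E P N : K} (hC0 : C ≠ 0) (hC : z * z1 = C)
    (h1 : al * (N * P - E) = E - P) (h2 : am * (N * P - E) = E - N)
    (h4 : be * (b ^ 4 + 1) = al * (b ^ 2 - N * (1 + b) ^ 2) - (b ^ 3 - b + 1))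
    (h5 : bm * (b ^ 4 + 1) = am * (b ^ 2 - P * (1 - b) ^ 2) + (b ^ 3 - b - 1))
    (h7 : A * be = -C + (A + b * C) * bm - y * z1 * am) :
    A * C * (E * z ^ 2 - P * z ^ 2) *
        ((A + b * C - A) ^ 2 * z ^ 2 - N * z ^ 2 * (A + b * C + C - A) ^ 2) -
      (A + b * C) * C * (E * z ^ 2 - N * z ^ 2) *
        ((A + b * C - A) ^ 2 * z ^ 2 - P * z ^ 2 * (A + C - (A + b * C)) ^ 2) +
      (P * z ^ 2 * (N * z ^ 2) - E * z ^ 2 * z ^ 2) * ((A + b * C - A) ^ 4 + C ^ 4 -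
        A * ((A + b * C - A) ^ 3 - (A + b * C - A) * C ^ 2 + C ^ 3) -
        (A + b * C) * ((A + b * C - A) ^ 3 - (A + b * C - A) * C ^ 2 - C ^ 3)) +
      y * z * (E * z ^ 2 - N * z ^ 2) * ((A + b * C - A) ^ 4 + C ^ 4) = 0 := by
  apply mul_left_cancel₀ hC0
  rw [mul_zero]
  linear_combination (C ^ 4 * z ^ 4) * ((b ^ 4 + 1) * (N * P - E) * h7 - A * (N * P - E) * h4 +
    (A + b * C) * (N * P - E) * h5 - A * (b ^ 2 - N * (1 + b) ^ 2) * h1 +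
    (A + b * C) * (b ^ 2 - P * (1 - b) ^ 2) * h2 - y * z1 * (b ^ 4 + 1) * h2) -
    y * z ^ 3 * C ^ 4 * (b ^ 4 + 1) * (E - N) * hC

end Alg

section Convert

variable {K : Type*} [Field K]

/-- `K1` in terms of `A, B, C, k` -/
def KA (A B C k : K) : K :=
  C ^ 4 - (B - A) ^ 3 * (B + C) - C ^ 2 * (B - A) * (A + B + C) + C ^ 2 * (B - A) * (C - B) -
    B * C ^ 2 * (C - B) * (A - C) * (B - A) / (A * B - k) - B * C * (C - B) * (B - A) ^ 3 / (C * A - k) +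
    (B + C - A) ^ 2 * ((B + C - A) ^ 2 - B * C)

/-- `K2` in terms of `A, B, C, k` -/
def KB (A B C k : K) : K :=
  C ^ 4 + (B - A) ^ 3 * (A + C) + C ^ 2 * (B - A) * (A + B + C) + C ^ 2 * (B - A) * (A - C) +
    A * C ^ 2 * (C - B) * (A - C) * (B - A) / (A * B - k) - A * C * (A - C) * (B - A) ^ 3 / (B * C - k) +
    (A + C - B) ^ 2 * ((B + C - A) ^ 2 - B * C)

theorem KP_eq {x y z x1 y1 z1 A B C k l : K} (hA : x * x1 = A) (hB : y * y1 = B) (hC : z * z1 = C)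
    (hx : x = (C - B) * (B * C - k) * l) (hy : y = (A - C) * (C * A - k) * l)
    (hz : z = (B - A) * (A * B - k) * l) (hY : C * A - k ≠ 0) (hZ : A * B - k ≠ 0)
    (hy0 : y ≠ 0) (hz0 : z ≠ 0) : KP x y z x1 y1 z1 = KA A B C k := by
  obtain ⟨Yi, hYi⟩ : ∃ Yi, Yi = (C * A - k)⁻¹ := ⟨_, rfl⟩
  obtain ⟨Zi, hZi⟩ : ∃ Zi, Zi = (A * B - k)⁻¹ := ⟨_, rfl⟩
  have hY1 : (C * A - k) * Yi = 1 := by rw [hYi, mul_inv_cancel₀ hY]
  have hZ1 : (A * B - k) * Zi = 1 := by rw [hZi, mul_inv_cancel₀ hZ]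
  have e1 : (B - A) * (x * z1) = C * (C - B) - B * C * (C - B) * (A - C) * Zi := by
    apply mul_left_cancel₀ hz0
    linear_combination x * (B - A) * hC + (B - A) * C * hx - (C * (C - B) - B * C * (C - B) * (A - C) * Zi) * hz +
      ((B - A) * l * B * C * (C - B) * (A - C)) * hZ1
  have e2 : (x + y + z) * y1 = -(B * (C - B) * (B - A)) * Yi := by
    apply mul_left_cancel₀ hy0
    linear_combination (x + y + z) * hB + B * hx + B * hy + B * hz + B * (C - B) * (B - A) * Yi * hy +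
      ((A - C) * l * B * (C - B) * (B - A)) * hY1
  unfold KP KA
  rw [hA, hB, hC, div_eq_mul_inv, div_eq_mul_inv, ← hYi, ← hZi]
  linear_combination (C * (B - A)) * e1 + C * (B - A) ^ 2 * e2

theorem KQ_eq {x y z x1 y1 z1 A B C k l : K} (hA : x * x1 = A) (hB : y * y1 = B) (hC : z * z1 = C)
    (hx : x = (C - B) * (B * C - k) * l) (hy : y = (A - C) * (C * A - k) * l)
    (hz : z = (B - A) * (A * B - k) * l) (hX : B * C - k ≠ 0) (hZ : A * B - k ≠ 0)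
    (hx0 : x ≠ 0) (hz0 : z ≠ 0) : KQ x y z x1 y1 z1 = KB A B C k := by
  obtain ⟨Xi, hXi⟩ : ∃ Xi, Xi = (B * C - k)⁻¹ := ⟨_, rfl⟩
  obtain ⟨Zi, hZi⟩ : ∃ Zi, Zi = (A * B - k)⁻¹ := ⟨_, rfl⟩
  have hX1 : (B * C - k) * Xi = 1 := by rw [hXi, mul_inv_cancel₀ hX]
  have hZ1 : (A * B - k) * Zi = 1 := by rw [hZi, mul_inv_cancel₀ hZ]
  have e1 : (B - A) * (y * z1) = C * (A - C) + A * C * (C - B) * (A - C) * Zi := by
    apply mul_left_cancel₀ hz0
    linear_combination y * (B - A) * hC + (B - A) * C * hy - (C * (A - C) + A * C * (C - B) * (A - C) * Zi) * hz -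
      ((B - A) * l * A * C * (C - B) * (A - C)) * hZ1
  have e2 : (x + y + z) * x1 = -(A * (A - C) * (B - A)) * Xi := by
    apply mul_left_cancel₀ hx0
    linear_combination (x + y + z) * hA + A * hx + A * hy + A * hz + A * (A - C) * (B - A) * Xi * hx +
      ((C - B) * l * A * (A - C) * (B - A)) * hX1
  unfold KQ KB
  rw [hA, hB, hC, div_eq_mul_inv, div_eq_mul_inv, ← hXi, ← hZi]
  linear_combination (C * (B - A)) * e1 + C * (B - A) ^ 2 * e2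

/-- the quadratic equation -/
theorem quad {B C a u u1 y z y1 z1 : K} (hB : y * y1 = B) (hC : z * z1 = C) (hu : u * u1 = a ^ 2) :
    u1 * (u + y * z) * (u * (u1 + y1 * z1)) - a ^ 2 * (u1 * (u + y * z) + u * (u1 + y1 * z1)) +
      a ^ 2 * (a ^ 2 - B * C) = 0 := by
  rw [← hB, ← hC]
  linear_combination ((u + y * z) * (u1 + y1 * z1) - a ^ 2) * hu

end Convert

section Point

variable {K : Type*} [Field K] [Finite K] {n : ℕ} (hn : Odd n) (hc : Nat.card K = 3 ^ n)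
  {σ : K →+* K} {τ : K × K × K → K × K × K} {G : Type*} [Group G] {R : Rel σ τ G}
  {M : K → K} {d : K} (S : Start σ τ R M d) (hM : IsM σ M)
include hn hc S hM

/-- **(II)** in polynomial form -/
theorem eqII_poly {x y z : K} (hx : x ≠ 0) (hy : y ≠ 0) (hz : z ≠ 0)
    (h : x ^ 2 * σ x + y ^ 2 * σ y + z ^ 2 * σ z = 0) {u v w : K}
    (hu : M (y * σ y + z * σ z - x * σ x) = u) (hv : M (x * σ x + z * σ z - y * σ y) = v)
    (hw : M (y * σ y - x * σ x) = w) :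
    x * σ x * (z * σ z) * (w - u) * ((y * σ y - x * σ x) ^ 2 * z ^ 2 - v * (y * σ y + z * σ z - x * σ x) ^ 2) -
      y * σ y * (z * σ z) * (w - v) * ((y * σ y - x * σ x) ^ 2 * z ^ 2 - u * (x * σ x + z * σ z - y * σ y) ^ 2) +
      (u * v - w * z ^ 2) * ((y * σ y - x * σ x) ^ 4 + (z * σ z) ^ 4 -
        x * σ x * ((y * σ y - x * σ x) ^ 3 - (y * σ y - x * σ x) * (z * σ z) ^ 2 + (z * σ z) ^ 3) -
        y * σ y * ((y * σ y - x * σ x) ^ 3 - (y * σ y - x * σ x) * (z * σ z) ^ 2 - (z * σ z) ^ 3)) +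
      y * z * (w - v) * ((y * σ y - x * σ x) ^ 4 + (z * σ z) ^ 4) = 0 := by
  have h3 := FieldM.three_eq_zero hn hc
  have hz' : σ z ≠ 0 := by rwa [Ne, map_eq_zero]
  have hC : z * σ z ≠ 0 := mul_ne_zero hz hz'
  obtain ⟨b, hb⟩ : ∃ b, b = (y * σ y - x * σ x) / (z * σ z) := ⟨_, rfl⟩
  have hbC : b * (z * σ z) = y * σ y - x * σ x := by rw [hb, div_mul_cancel₀ _ hC]
  have e1 : w = M b * z ^ 2 := by
    rw [← hw, ← hbC, hM.mul, hM.mul_sigma hn hc]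
  have e2 : u = M (b + 1) * z ^ 2 := by
    rw [← hu, ← hM.mul_sigma hn hc z, ← hM.mul]
    congr 1
    linear_combination -hbC
  have e3 : v = M (b - 1) * z ^ 2 := by
    rw [← hv, ← hM.mul_sigma hn hc z, ← hM.mul, ← hM.neg]
    congr 1
    linear_combination -hbC
  have hB : y * σ y = x * σ x + b * (z * σ z) := by linear_combination -hbC
  have h7 := S.eqII h3 hx hy hz h hbC
  rw [hB] at h7
  rw [e1, e2, e3, hB]
  exact hII_aux hC rfl (S.al_eq h3 hM b) (S.al_neg_eq h3 hM b) (S.be_eq h3 hM b) (S.be_neg_eq h3 hM b) h7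

omit [Group G] S in
theorem N_ne {x y z : K} (hz : z ≠ 0) {u v w : K}
    (hu : M (y * σ y + z * σ z - x * σ x) = u) (hv : M (x * σ x + z * σ z - y * σ y) = v)
    (hw : M (y * σ y - x * σ x) = w) : u * v - w * z ^ 2 ≠ 0 := by
  have h3 := FieldM.three_eq_zero hn hc
  have hz' : σ z ≠ 0 := by rwa [Ne, map_eq_zero]
  have hC : z * σ z ≠ 0 := mul_ne_zero hz hz'
  obtain ⟨b, hb⟩ : ∃ b, b = (y * σ y - x * σ x) / (z * σ z) := ⟨_, rfl⟩
  have hbC : b * (z * σ z) = y * σ y - x * σ x := by rw [hb, div_mul_cancel₀ _ hC]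
  have e1 : w = M b * z ^ 2 := by
    rw [← hw, ← hbC, hM.mul, hM.mul_sigma hn hc]
  have e2 : u = M (b + 1) * z ^ 2 := by
    rw [← hu, ← hM.mul_sigma hn hc z, ← hM.mul]
    congr 1
    linear_combination -hbC
  have e3 : v = M (b - 1) * z ^ 2 := by
    rw [← hv, ← hM.mul_sigma hn hc z, ← hM.mul, ← hM.neg]
    congr 1
    linear_combination -hbC
  have h4 := hM.den_ne_zero h3 (FieldM.sq_ne hn hc) b
  intro h0
  apply mul_ne_zero h4 (pow_ne_zero 4 hz)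
  rw [e1, e2, e3] at h0
  linear_combination h0

/-- the six products, first version -/
theorem products {x y z : K} (hx : x ≠ 0) (hy : y ≠ 0) (hz : z ≠ 0)
    (h : x ^ 2 * σ x + y ^ 2 * σ y + z ^ 2 * σ z = 0) (he : x + y + z ≠ 0) {u v : K}
    (hu : M (y * σ y + z * σ z - x * σ x) = u) (hv : M (x * σ x + z * σ z - y * σ y) = v) :
    u * (σ u + σ y * σ z) * (σ v * (v + x * z)) = KP x y z (σ x) (σ y) (σ z) ∧
      v * (σ v + σ x * σ z) * (σ u * (u + y * z)) = KQ x y z (σ x) (σ y) (σ z) := by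
  have h3 := FieldM.three_eq_zero hn hc
  have hI : z * M (y * σ y - x * σ x) * (x + y + z) = u * v + z * (x * u + y * v) := by
    have := MidEq.eqI_poly hn hc S hM hx hy hz h
    rw [hu, hv] at this
    linear_combination this
  have hI1 := congrArg σ hI
  simp only [map_mul, map_add] at hI1
  refine both h3 hz he (N_ne hn hc hM hz hu hv rfl) hI hI1
    (eqII_poly hn hc S hM hx hy hz h hu hv rfl) ?_ ?_ ?_
  · rw [← hu, hM.pow]
  · rw [← hv, hM.pow]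
  · rw [hM.pow]

/-- **The nine equations at a nontrivial point.** -/
theorem input {x y z : K} (hx : x ≠ 0) (hy : y ≠ 0) (hz : z ≠ 0)
    (h : x ^ 2 * σ x + y ^ 2 * σ y + z ^ 2 * σ z = 0) (hne : ¬ (x = y ∧ y = z)) :
    ∃ A B C k p q r ps qs rs : K, A ≠ 0 ∧ B ≠ 0 ∧ C ≠ 0 ∧ B - A ≠ 0 ∧ C - B ≠ 0 ∧ A - C ≠ 0 ∧
      B + C - A ≠ 0 ∧ A + C - B ≠ 0 ∧ A + B - C ≠ 0 ∧ B * C - k ≠ 0 ∧ C * A - k ≠ 0 ∧ A * B - k ≠ 0 ∧
      ps * q = KA A B C k ∧ qs * p = KB A B C k ∧ qs * r = KA B C A k ∧ rs * q = KB B C A k ∧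
      rs * p = KA C A B k ∧ ps * r = KB C A B k ∧
      p * ps - (B + C - A) ^ 2 * (p + ps) + (B + C - A) ^ 2 * ((B + C - A) ^ 2 - B * C) = 0 ∧
      q * qs - (A + C - B) ^ 2 * (q + qs) + (A + C - B) ^ 2 * ((A + C - B) ^ 2 - C * A) = 0 ∧
      r * rs - (A + B - C) ^ 2 * (r + rs) + (A + B - C) ^ 2 * ((A + B - C) ^ 2 - A * B) = 0 ∧
      p ≠ 0 ∧ q ≠ 0 ∧ r ≠ 0 ∧ ps ≠ 0 ∧ qs ≠ 0 ∧ rs ≠ 0 ∧
      (k = 0 → x ^ 3 * (σ x) ^ 2 + y ^ 3 * (σ y) ^ 2 + z ^ 3 * (σ z) ^ 2 = 0) := by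
  obtain ⟨A, hA⟩ : ∃ A, A = x * σ x := ⟨_, rfl⟩
  obtain ⟨B, hB⟩ : ∃ B, B = y * σ y := ⟨_, rfl⟩
  obtain ⟨C, hC⟩ : ∃ C, C = z * σ z := ⟨_, rfl⟩
  obtain ⟨⟨n1, n2, n3⟩, ⟨n4, n5, n6⟩, ⟨n7, n8, n9⟩, he, l, k, hl, ex, ey, ez, hX, hY, hZ, hk⟩ :=
    CertDegen.main hn hc hM (S.EqI hn hc hM) hx hy hz h hne hA hB hC
  have hx1 : σ x ≠ 0 := by rwa [Ne, map_eq_zero]
  have hy1 : σ y ≠ 0 := by rwa [Ne, map_eq_zero]
  have hz1 : σ z ≠ 0 := by rwa [Ne, map_eq_zero]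
  have hA0 : A ≠ 0 := by rw [hA]; exact mul_ne_zero hx hx1
  have hB0 : B ≠ 0 := by rw [hB]; exact mul_ne_zero hy hy1
  have hC0 : C ≠ 0 := by rw [hC]; exact mul_ne_zero hz hz1
  have heq1 : y * σ y + z * σ z - x * σ x = B + C - A := by rw [hA, hB, hC]
  have heq2 : x * σ x + z * σ z - y * σ y = A + C - B := by rw [hA, hB, hC]
  have heq3 : x * σ x + y * σ y - z * σ z = A + B - C := by rw [hA, hB, hC]
  obtain ⟨u, hu⟩ : ∃ u, u = M (B + C - A) := ⟨_, rfl⟩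
  obtain ⟨v, hv⟩ : ∃ v, v = M (A + C - B) := ⟨_, rfl⟩
  obtain ⟨t, ht⟩ : ∃ t, t = M (A + B - C) := ⟨_, rfl⟩
  have uu : u * σ u = (B + C - A) ^ 2 := by rw [hu, hM.pow]
  have vv : v * σ v = (A + C - B) ^ 2 := by rw [hv, hM.pow]
  have tt : t * σ t = (A + B - C) ^ 2 := by rw [ht, hM.pow]
  have u0 : u ≠ 0 := by rw [hu]; exact hM.ne_zero n4
  have v0 : v ≠ 0 := by rw [hv]; exact hM.ne_zero n5
  have t0 : t ≠ 0 := by rw [ht]; exact hM.ne_zero n6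
  have su0 : σ u ≠ 0 := by rwa [Ne, map_eq_zero]
  have sv0 : σ v ≠ 0 := by rwa [Ne, map_eq_zero]
  have st0 : σ t ≠ 0 := by rwa [Ne, map_eq_zero]
  rw [← hu] at n7
  rw [← hv] at n8
  rw [← ht] at n9
  have sn7 : σ u + σ y * σ z ≠ 0 := by
    rw [← map_mul, ← map_add, Ne, map_eq_zero]; exact n7
  have sn8 : σ v + σ z * σ x ≠ 0 := by
    rw [← map_mul, ← map_add, Ne, map_eq_zero]; exact n8
  have sn9 : σ t + σ x * σ y ≠ 0 := by
    rw [← map_mul, ← map_add, Ne, map_eq_zero]; exact n9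
  have p1 := products hn hc S hM hx hy hz h he (u := u) (v := v) (by rw [heq1, hu]) (by rw [heq2, hv])
  have p2 := products hn hc S hM hy hz hx (by linear_combination h) (by rwa [add_comm (y + z), ← add_assoc])
    (u := v) (v := t) (by rw [hv, hA, hB, hC]; congr 1; ring) (by rw [ht, hA, hB, hC]; congr 1; ring)
  have p3 := products hn hc S hM hz hx hy (by linear_combination h) (by rwa [add_assoc, add_comm])
    (u := t) (v := u) (by rw [ht, hA, hB, hC]) (by rw [hu, hA, hB, hC]; congr 1; ring)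
  rw [KP_eq hA.symm hB.symm hC.symm ex ey ez hY hZ hy hz, KQ_eq hA.symm hB.symm hC.symm ex ey ez hX hZ hx hz] at p1
  rw [KP_eq hB.symm hC.symm hA.symm ey ez ex hZ hX hz hx, KQ_eq hB.symm hC.symm hA.symm ey ez ex hY hX hy hx] at p2
  rw [KP_eq hC.symm hA.symm hB.symm ez ex ey hX hY hx hy, KQ_eq hC.symm hA.symm hB.symm ez ex ey hZ hY hz hy] at p3
  refine ⟨A, B, C, k, σ u * (u + y * z), σ v * (v + z * x), σ t * (t + x * y), u * (σ u + σ y * σ z),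
    v * (σ v + σ z * σ x), t * (σ t + σ x * σ y), hA0, hB0, hC0, n1, n2, n3, n4, n5, n6, hX, hY, hZ,
    ?_, ?_, ?_, ?_, ?_, ?_, quad hB.symm hC.symm uu, quad hC.symm hA.symm vv, quad hA.symm hB.symm tt,
    mul_ne_zero su0 n7, mul_ne_zero sv0 n8, mul_ne_zero st0 n9, mul_ne_zero u0 sn7, mul_ne_zero v0 sn8,
    mul_ne_zero t0 sn9, ?_⟩
  · rw [← p1.1]; ring
  · rw [← p1.2]; ring
  · rw [← p2.1]; ring
  · rw [← p2.2]; ring
  · rw [← p3.1]; ring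
  · rw [← p3.2]; ring
  · intro hk0
    rw [hk0, zero_mul, zero_mul, hA, hB, hC] at hk
    linear_combination hk

end Point

end CertIn

end Cfsg.Agent.ReeUniq
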