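/-
**Agreement on `U₁`**: the starting information `Start σ τ R M 1` determines `τ` and the torus part on
`U₁ = {(0,b,c)}`; they are given by Tits' formula.  `τ`: the four-cycle `b ↦ (b+1)/(b-1) ↦ -1/b ↦ …` of
functional equations has a unique solution.  Torus part: two points of `U₁` with the same first coordinate
of `τ`.
-/
import Cfsg.Agent.ReeUniq.Funct
import Cfsg.Agent.ReeUniq.UniqueU1

set_option autoImplicit false
set_option linter.unusedSectionVars false

namespace Cfsg.Agent.ReeUniq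

namespace AgreeTwo

open Cfsg.Lie

variable {K : Type*} [Field K]

/-- functional equations for `F(b) = τ(0, b, -1)` -/
structure FEq (σ : K →+* K) (d : K) (F : K → K × K × K) : Prop where
  W : ∀ s, s ≠ 0 → F (1 + s) = mul σ (0, -s⁻¹, 0) (dil σ (σ s / s)⁻¹ (F (1 - s⁻¹)))
  SS : ∀ b, b ≠ 0 → dil σ (-1) (F (b - 1)) = mul σ (1, 1, -d) (F (-b⁻¹ - 1))
  one : F 1 = (0, 1, -1)

theorem comp (h3 : (3 : K) = 0) (σ : K →+* K) (A A' x : K × K × K) (k k' : K) :
    mul σ A (dil σ k (mul σ A' (dil σ k' x))) = mul σ (mul σ A (dil σ k A')) (dil σ (k * k') x) := by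
  rw [dil_mul, dil_dil, mul_assoc' h3]

theorem fix_unique (σ : K →+* K) {A x y : K × K × K} {k : K} (h1 : k ≠ 1) (h2 : k * σ k ≠ 1)
    (h4 : k ^ 2 * σ k ≠ 1) (hx : x = mul σ A (dil σ k x)) (hy : y = mul σ A (dil σ k y)) : x = y := by
  obtain ⟨a, b, c⟩ := A
  obtain ⟨x1, x2, x3⟩ := x
  obtain ⟨y1, y2, y3⟩ := y
  simp only [mul, dil, Prod.mk.injEq] at hx hy
  obtain ⟨hx1, hx2, hx3⟩ := hx
  obtain ⟨hy1, hy2, hy3⟩ := hy
  have e1 : x1 = y1 := by
    have : (1 - k) * (x1 - y1) = 0 := by linear_combination hx1 - hy1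
    rcases mul_eq_zero.1 this with h | h
    · exact absurd (sub_eq_zero.1 h).symm h1
    · exact sub_eq_zero.1 h
  subst e1
  have e2 : x2 = y2 := by
    have : (1 - k * σ k) * (x2 - y2) = 0 := by linear_combination hx2 - hy2
    rcases mul_eq_zero.1 this with h | h
    · exact absurd (sub_eq_zero.1 h).symm h2
    · exact sub_eq_zero.1 h
  subst e2
  have e3 : x3 = y3 := by
    have : (1 - k ^ 2 * σ k) * (x3 - y3) = 0 := by linear_combination hx3 - hy3
    rcases mul_eq_zero.1 this with h | h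
    · exact absurd (sub_eq_zero.1 h).symm h4
    · exact sub_eq_zero.1 h
  subst e3
  rfl

section Fin

variable [Fintype K] {m : ℕ} (hK : Fintype.card K = 3 ^ (2 * m + 1))
variable {σ : K →+* K} (hσ : ∀ x, σ x = x ^ 3 ^ (m + 1))

include hK hσ

theorem sigma_ne {x : K} (hx : x ≠ 0) : σ x ≠ 0 := fun h => hx ((map_eq_zero σ).1 h)

theorem of_mul_sigma {k : K} (h : k * σ k = 1) : k = 1 ∨ k = -1 := by
  have hk : k ≠ 0 := by rintro rfl; simp at h
  have h1 := congrArg σ h
  rw [map_mul, map_one, Model.sigma_sigma hK hσ] at h1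
  have h2 : k ^ 2 = 1 := by linear_combination (-k ^ 2) * h + h1
  have h4 : (k - 1) * (k + 1) = 0 := by linear_combination h2
  rcases mul_eq_zero.1 h4 with h | h
  · exact Or.inl (sub_eq_zero.1 h)
  · exact Or.inr (eq_neg_of_add_eq_zero_left h)

theorem of_sq_mul_sigma {k : K} (h : k ^ 2 * σ k = 1) : k = 1 := by
  have hk : k ≠ 0 := by rintro rfl; simp at h
  have h1 : (Units.mk0 k hk) = 1 := by
    apply norm_inj hK hσ
    simpa using h
  have := congrArg (fun u : Kˣ => (u : K)) h1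
  simpa using this

theorem of_sigma_eq {x : K} (hx : x ≠ 0) (h : σ x = x ∨ σ x = -x) : x = 1 ∨ x = -1 := by
  have h1 : x ^ 3 = x := by
    rw [← Model.sigma_sigma hK hσ]
    rcases h with h | h
    · rw [h, h]
    · rw [h, map_neg, h, neg_neg]
  have h4 : (x - 1) * (x + 1) = 0 := by
    apply mul_left_cancel₀ hx
    linear_combination h1
  rcases mul_eq_zero.1 h4 with h | h
  · exact Or.inl (sub_eq_zero.1 h)
  · exact Or.inr (eq_neg_of_add_eq_zero_left h)

theorem isSquare_sigma_div {x : K} (hx : x ≠ 0) : IsSquare (σ x / x) := by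
  have h1 : Even (3 ^ (m + 1) + 1) := by
    have : Odd (3 ^ (m + 1)) := Odd.pow (by decide)
    exact this.add_one
  obtain ⟨n, hn⟩ := h1
  refine ⟨x ^ n / x, ?_⟩
  rw [div_mul_div_comm, ← pow_add, ← hn, hσ, pow_add x (3 ^ (m + 1)) 1, pow_one,
    mul_div_mul_right _ _ hx]

/-- `M b = σ(b)/b` -/
theorem eq_sigma_div {b y : K} (hb : b ≠ 0) (h : y * σ y = b ^ 2) (hy : IsSquare y) : y = σ b / b := by
  have hsb := sigma_ne hK hσ hb
  have h3 := Model.three hK
  have e1 : (y / (σ b / b)) * σ (y / (σ b / b)) = 1 := by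
    rw [map_div₀, map_div₀, Model.sigma_sigma hK hσ]
    have : y / (σ b / b) * (σ y / (b ^ 3 / σ b)) = (y * σ y) / b ^ 2 := by
      field_simp
    rw [this, h, div_self (pow_ne_zero 2 hb)]
  have hne : σ b / b ≠ 0 := div_ne_zero hsb hb
  rcases of_mul_sigma hK hσ e1 with h1 | h1
  · rw [div_eq_one_iff_eq hne] at h1
    exact h1
  · exfalso
    apply neg_one_nonsquare hK
    rw [← h1]
    exact hy.div (isSquare_sigma_div hK hσ hb)

/-- **The functional equations have a unique solution.** -/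
theorem FEq.unique {d : K} {F F' : K → K × K × K} (h : FEq σ d F) (h' : FEq σ d F') : F = F' := by
  have h3 := Model.three hK
  have e2 : (2 : K) = -1 := by linear_combination h3
  have two : (2 : K) ≠ 0 := two_ne h3
  have hdd : ∀ p, dil σ (-1) (dil σ (-1) p) = p := fun p => by
    rw [dil_dil, neg_mul_neg, one_mul, dil_one]
  have SS' : ∀ {G : K → K × K × K}, FEq σ d G → ∀ b, b ≠ 0 →
      G (b - 1) = mul σ (dil σ (-1) (1, 1, -d)) (dil σ (-1) (G (-b⁻¹ - 1))) := by
    intro G hG b hb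
    rw [← dil_mul, ← hG.SS b hb, hdd]
  have h0 : F 0 = F' 0 := by
    have a := SS' h 1 one_ne_zero
    have a' := SS' h' 1 one_ne_zero
    have e : (-(1 : K)⁻¹ - 1) = 1 := by rw [inv_one]; linear_combination -h3
    rw [sub_self, e, h.one] at a
    rw [sub_self, e, h'.one] at a'
    rw [a, a']
  have hm1 : F (-1) = F' (-1) := by
    have a := h.W 1 one_ne_zero
    have a' := h'.W 1 one_ne_zero
    have e : (1 : K) + 1 = -1 := by linear_combination h3
    rw [e, inv_one, sub_self, h0] at a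
    rw [e, inv_one, sub_self] at a'
    rw [a, a']
  funext B
  by_cases hB0 : B = 0
  · rw [hB0, h0]
  by_cases hB1 : B = 1
  · rw [hB1, h.one, h'.one]
  by_cases hB2 : B = -1
  · rw [hB2, hm1]
  have n1 : B - 1 ≠ 0 := sub_ne_zero.2 hB1
  have n2 : B + 1 ≠ 0 := fun h => hB2 (eq_neg_of_add_eq_zero_left h)
  -- the cycle
  obtain ⟨k1, hk1⟩ : ∃ k1, k1 = (σ (B - 1) / (B - 1))⁻¹ := ⟨_, rfl⟩
  obtain ⟨k2, hk2⟩ : ∃ k2, k2 = (σ (-B⁻¹ - 1) / (-B⁻¹ - 1))⁻¹ := ⟨_, rfl⟩
  have c1 : ∀ {G : K → K × K × K}, FEq σ d G →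
      G B = mul σ (0, -(B - 1)⁻¹, 0) (dil σ k1 (G (1 - (B - 1)⁻¹))) := by
    intro G hG
    have := hG.W (B - 1) n1
    rw [add_sub_cancel, ← hk1] at this
    exact this
  have c2 : ∀ {G : K → K × K × K}, FEq σ d G →
      G (1 - (B - 1)⁻¹) = mul σ (dil σ (-1) (1, 1, -d)) (dil σ (-1) (G (-B⁻¹))) := by
    intro G hG
    have e : (1 - (B - 1)⁻¹) + 1 = -(B / (B - 1)) := by
      rw [eq_neg_iff_add_eq_zero]
      field_simp
      linear_combination (B - 1) * h3
    have hb : (1 - (B - 1)⁻¹) + 1 ≠ 0 := by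
      rw [e]; exact neg_ne_zero.2 (div_ne_zero hB0 n1)
    have := SS' hG _ hb
    rw [add_sub_cancel_right] at this
    rw [this, e]
    congr 3
    rw [inv_neg, neg_neg, inv_div]
    field_simp
    ring
  have n3 : -B⁻¹ - 1 ≠ 0 := by
    intro h
    field_simp at h
    apply n2
    linear_combination -h
  have c3 : ∀ {G : K → K × K × K}, FEq σ d G →
      G (-B⁻¹) = mul σ (0, -(-B⁻¹ - 1)⁻¹, 0) (dil σ k2 (G (1 - (-B⁻¹ - 1)⁻¹))) := by
    intro G hG
    have := hG.W (-B⁻¹ - 1) n3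
    rw [add_sub_cancel, ← hk2] at this
    exact this
  have c4 : ∀ {G : K → K × K × K}, FEq σ d G →
      G (1 - (-B⁻¹ - 1)⁻¹) = mul σ (dil σ (-1) (1, 1, -d)) (dil σ (-1) (G B)) := by
    intro G hG
    have e : (1 - (-B⁻¹ - 1)⁻¹) + 1 = -(B + 1)⁻¹ := by
      have : (-B⁻¹ - 1)⁻¹ = -(B / (B + 1)) := by
        rw [inv_eq_iff_eq_inv, ← div_neg, inv_div]
        field_simp
        ring
      rw [this, eq_neg_iff_add_eq_zero]
      field_simp
      linear_combination (B + 1) * h3
    have hb : (1 - (-B⁻¹ - 1)⁻¹) + 1 ≠ 0 := by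
      rw [e]; exact neg_ne_zero.2 (inv_ne_zero n2)
    have := SS' hG _ hb
    rw [add_sub_cancel_right] at this
    rw [this, e]
    congr 3
    rw [inv_neg, neg_neg, inv_inv]
    ring
  have key : ∀ {G : K → K × K × K}, FEq σ d G → G B =
      mul σ (mul σ (mul σ (mul σ (0, -(B - 1)⁻¹, 0) (dil σ k1 (dil σ (-1) (1, 1, -d))))
        (dil σ (k1 * -1) (0, -(-B⁻¹ - 1)⁻¹, 0))) (dil σ (k1 * -1 * k2) (dil σ (-1) (1, 1, -d))))
        (dil σ (k1 * -1 * k2 * -1) (G B)) := by
    intro G hG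
    conv_lhs => rw [c1 hG, c2 hG, c3 hG, c4 hG]
    rw [comp h3, comp h3, comp h3]
  have hk : k1 * -1 * k2 * -1 = (σ ((B - 1) * (-B⁻¹ - 1)) / ((B - 1) * (-B⁻¹ - 1)))⁻¹ := by
    rw [hk1, hk2, map_mul, ← div_mul_div_comm, mul_inv]
    ring
  obtain ⟨x, hx⟩ : ∃ x, x = (B - 1) * (-B⁻¹ - 1) := ⟨_, rfl⟩
  have hx0 : x ≠ 0 := by rw [hx]; exact mul_ne_zero n1 n3
  have hxB : x * B = 1 - B ^ 2 := by
    rw [hx]
    field_simp
    ring
  have hx1 : x ≠ 1 := by
    intro h
    rw [h] at hxB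
    apply neg_one_nonsquare hK
    refine ⟨B - 1, ?_⟩
    linear_combination -hxB + (B - 1) * h3
  have hx2 : x ≠ -1 := by
    intro h
    rw [h] at hxB
    apply neg_one_nonsquare hK
    refine ⟨B + 1, ?_⟩
    linear_combination -hxB + (-B - 1) * h3
  rw [← hx] at hk
  have hsx := sigma_ne hK hσ hx0
  have hkk : ∀ k, k = (σ x / x)⁻¹ → (k = 1 ∨ k = -1) → False := by
    rintro k hk (h | h)
    · rw [h, eq_comm, inv_eq_one, div_eq_one_iff_eq hx0] at hk
      rcases of_sigma_eq hK hσ hx0 (Or.inl hk) with h | h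
      · exact hx1 h
      · exact hx2 h
    · rw [h, eq_comm, inv_eq_iff_eq_inv, inv_neg, inv_one, div_eq_iff hx0, neg_one_mul] at hk
      rcases of_sigma_eq hK hσ hx0 (Or.inr hk) with h | h
      · exact hx1 h
      · exact hx2 h
  refine fix_unique σ ?_ ?_ ?_ (key h) (key h')
  · exact fun h => hkk _ hk (Or.inl h)
  · exact fun h => hkk _ hk (of_mul_sigma hK hσ h)
  · exact fun h => hkk _ hk (Or.inl (of_sq_mul_sigma hK hσ h))

/-- Existence of a second point with the same first coordinate. -/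
theorem exists_yz (hm : 1 ≤ m) {x0 : K} (hx : x0 ≠ 0) (z0 : K) :
    ∃ y z, r5 σ (x0, y, z) = 0 ∧ z ≠ z0 := by
  have h3 := Model.three hK
  have hsx := sigma_ne hK hσ hx
  -- an element outside the prime field
  obtain ⟨s, hs⟩ : ∃ s : K, s ^ 3 ≠ s := by
    by_contra hcon
    push Not at hcon
    have h1 : (Finset.univ : Finset K).card ≤ (Polynomial.X ^ 3 - Polynomial.X : Polynomial K).natDegree := by
      apply Polynomial.card_le_degree_of_subset_roots
      intro s _
      rw [Polynomial.mem_roots]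
      · simp [hcon s]
      · intro h0
        have := congrArg (fun p : Polynomial K => p.coeff 3) h0
        simp [Polynomial.coeff_X] at this
    have h2 : (Polynomial.X ^ 3 - Polynomial.X : Polynomial K).natDegree ≤ 3 := by
      compute_degree
    rw [Finset.card_univ, hK] at h1
    have h4 : 3 ^ 3 ≤ 3 ^ (2 * m + 1) := Nat.pow_le_pow_right (by norm_num) (by omega)
    omega
  -- one of three values of `y` is good
  have key : ∃ n : K, (n = 0 ∨ ∃ t : K, t ≠ 0 ∧ n = -t ^ 2) ∧ r5 σ (x0, n - x0 * σ x0, z0) ≠ 0 := by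
    by_contra hcon
    push Not at hcon
    have a0 := hcon 0 (Or.inl rfl)
    have a1 := hcon (-1 ^ 2) (Or.inr ⟨1, one_ne_zero, rfl⟩)
    have hs0 : s ≠ 0 := by rintro rfl; exact hs (by simp)
    have a2 := hcon (-s ^ 2) (Or.inr ⟨s, hs0, rfl⟩)
    simp only [r5, map_sub, map_mul, map_neg, map_pow, map_one, map_zero] at a0 a1 a2
    have b1 : z0 + x0 ^ 2 * σ x0 = σ x0 := by linear_combination a1 - a0
    have b2 : σ x0 * (σ s ^ 2 - s ^ 2) = 0 := by
      linear_combination (s ^ 2) * b1 - (a2 - a0)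
    have b3 : σ s ^ 2 = s ^ 2 := by
      rcases mul_eq_zero.1 b2 with h | h
      · exact absurd h hsx
      · exact sub_eq_zero.1 h
    have b4 : σ s = s ∨ σ s = -s := sq_eq_sq_iff_eq_or_eq_neg.1 b3
    apply hs
    rcases of_sigma_eq hK hσ hs0 b4 with h | h
    · rw [h]; ring
    · rw [h]; ring
  obtain ⟨n, hn, hr⟩ := key
  -- solve for `z`
  have hinj : Function.Injective (fun z : K => σ z - n * z) := by
    intro z z' h
    by_contra hne
    have hd : z - z' ≠ 0 := sub_ne_zero.2 hne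
    have h1 : σ (z - z') = n * (z - z') := by
      rw [map_sub]
      have h' : σ z - n * z = σ z' - n * z' := h
      linear_combination h'
    rcases hn with rfl | ⟨t, ht, rfl⟩
    · rw [zero_mul] at h1
      exact hd ((map_eq_zero σ).1 h1)
    · apply neg_one_nonsquare hK
      have h2 : σ (z - z') / (z - z') = -t ^ 2 := by rw [h1, mul_div_cancel_right₀ _ hd]
      obtain ⟨c, hc⟩ := isSquare_sigma_div hK hσ hd
      refine ⟨c / t, ?_⟩
      rw [div_mul_div_comm, ← hc, h2]
      field_simp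
  have hsurj := Finite.surjective_of_injective hinj
  obtain ⟨z, hz⟩ := hsurj (-(σ x0 * σ (n - x0 * σ x0)) + x0 ^ 2 * σ x0 * (n - x0 * σ x0) + x0 ^ 3 * σ x0 ^ 2)
  have hz' : r5 σ (x0, n - x0 * σ x0, z) = 0 := by
    have h1 : σ z - n * z = -(σ x0 * σ (n - x0 * σ x0)) + x0 ^ 2 * σ x0 * (n - x0 * σ x0) +
      x0 ^ 3 * σ x0 ^ 2 := hz
    simp only [r5]
    linear_combination h1
  refine ⟨_, z, hz', ?_⟩
  rintro rfl
  exact hr hz'

/-- `k ↦ k² σ(k)` is surjective. -/
theorem norm_surj {c : K} (hc : c ≠ 0) : ∃ k : Kˣ, (k : K) ^ 2 * σ k = c := by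
  let f : Kˣ → Kˣ := fun k => Units.mk0 ((k : K) ^ 2 * σ k)
    (mul_ne_zero (pow_ne_zero 2 k.ne_zero) (sigma_ne hK hσ k.ne_zero))
  have hf : Function.Injective f := by
    intro a b h
    exact norm_inj hK hσ (congrArg (fun u : Kˣ => (u : K)) h)
  obtain ⟨k, hk⟩ := Finite.surjective_of_injective hf (Units.mk0 c hc)
  exact ⟨k, congrArg (fun u : Kˣ => (u : K)) hk⟩

omit [Fintype K] hK hσ in
/-- values of `τ` and the torus part on `Y` and at `(0,1,-1)` -/
theorem start_Y (h3 : (3 : K) = 0) {τ : K × K × K → K × K × K} {G : Type*} [Group G] {R : Rel σ τ G}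
    {M : K → K} {d : K} (S : Start σ τ R M d) {b : K} (hb : b ≠ 0) :
    τ (0, b, 0) = (0, -b⁻¹, 0) ∧ (R.kap (0, b, 0) : K) = M b := by
  have hne : ((0, b, 0) : K × K × K) ≠ 0 := fun h => hb (congrArg (fun r : K × K × K => r.2.1) h)
  have hY := S.relY b (Units.mk0 (M b) (S.M_ne hb)) hb rfl
  have h := R.eq_of_rel h3 hne hY
  exact ⟨h.1, by rw [h.2.1]; rfl⟩

omit [Fintype K] hK hσ in
theorem start_C (h3 : (3 : K) = 0) {τ : K × K × K → K × K × K} {G : Type*} [Group G] {R : Rel σ τ G}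
    {M : K → K} {d : K} (S : Start σ τ R M d) :
    τ (0, 1, -1) = (0, 1, -1) ∧ R.kap (0, 1, -1) = -1 := by
  have hne : ((0, 1, -1) : K × K × K) ≠ 0 := fun h => one_ne_zero (congrArg (fun r : K × K × K => r.2.1) h)
  have hC := S.relC
  rw [R.U_inv h3] at hC
  have h := R.eq_of_rel h3 hne hC
  exact ⟨h.1, h.2.1⟩

theorem M_eq {τ : K × K × K → K × K × K} {G : Type*} [Group G] {R : Rel σ τ G}
    {M : K → K} {d : K} (S : Start σ τ R M d) (hM : ∀ b, IsSquare (M b)) {b : K} (hb : b ≠ 0) :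
    M b = σ b / b := eq_sigma_div hK hσ hb (S.M_norm b) (hM b)

/-- the functional equations of a group -/
theorem feq {τ : K × K × K → K × K × K} {G : Type*} [Group G] {R : Rel σ τ G}
    {M : K → K} {d : K} (S : Start σ τ R M d) (hM : ∀ b, IsSquare (M b)) :
    FEq σ d (fun b => τ (0, b, -1)) where
  W s hs := by
    have h := S.eqW (Model.three hK) hs
    rw [M_eq hK hσ S hM hs] at h
    exact h
  SS b hb := S.eqSS (Model.three hK) hb
  one := (start_C (Model.three hK) S).1

/-- The small Ree group satisfies the starting conditions. -/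
theorem model_start : Start σ (tits σ) (Model.modelRel hK hσ) (fun b => σ b / b) 1 where
  M_norm b := by
    by_cases hb : b = 0
    · simp [hb]
    · have hsb := sigma_ne hK hσ hb
      rw [map_div₀, Model.sigma_sigma hK hσ]
      field_simp
  relY b m hb hm := by
    have h3 := Model.three hK
    have hs := sigma_ne hK hσ hb
    have hY : ∀ b : K, b ≠ 0 → tits σ (0, b, 0) = (0, -b⁻¹, 0) := by
      intro b hb
      have hs := sigma_ne hK hσ hb
      have e6 : r6 σ ((0, b, 0) : K × K × K) = -(b * σ b) := by simp [r6]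
      have e5 : r5 σ ((0, b, 0) : K × K × K) = 0 := by simp [r5]
      have e4 : r4 σ ((0, b, 0) : K × K × K) = σ b := by simp [r4]
      have e3 : r3 ((0, b, 0) : K × K × K) = 0 := by simp [r3]
      have t1 : tau1 σ ((0, b, 0) : K × K × K) = 0 := by rw [tau1, e5, zero_div, neg_zero]
      have t2 : tau2 σ ((0, b, 0) : K × K × K) = -b⁻¹ := by
        rw [tau2, t1, e4, e6, map_zero, mul_zero, sub_zero, div_neg]
        congr 1
        field_simp
      unfold tits
      rw [t1, t2, e3, zero_div, zero_mul, sub_zero]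
    have hne : ∀ b : K, b ≠ 0 → ((0, b, 0) : K × K × K) ≠ 0 := fun b hb h =>
      hb (congrArg (fun r : K × K × K => r.2.1) h)
    have h := (Model.modelRel hK hσ).rel' (hne b hb)
    have hi : inv σ ((0, b, 0) : K × K × K) = (0, -b, 0) := by simp [inv]
    have hg : (Model.modelRel hK hσ).gam (0, b, 0) = (0, -b⁻¹, 0) := by
      rw [(Model.modelRel hK hσ).gam_eq h3 (hne b hb), hi, hY _ (neg_ne_zero.2 hb)]
      simp [inv, inv_neg]
    have hk : (Model.modelRel hK hσ).kap (0, b, 0) = m := by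
      apply norm_inj hK hσ
      rw [kap_model hK hσ (hne b hb), hm, map_div₀, Model.sigma_sigma hK hσ]
      have e6 : r6 σ ((0, b, 0) : K × K × K) = -(b * σ b) := by simp [r6]
      rw [e6]
      field_simp
    rw [hY b hb, hg, hk] at h
    exact h
  relC := by
    have h3 := Model.three hK
    have h2 : (2 : K) = -1 := by linear_combination h3
    have e6 : r6 σ ((0, 1, -1) : K × K × K) = 1 := by
      simp only [r6, map_one, map_neg, map_zero]; linear_combination -h3
    have e5 : r5 σ ((0, 1, -1) : K × K × K) = 0 := by simp [r5]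
    have e4 : r4 σ ((0, 1, -1) : K × K × K) = 1 := by simp [r4]
    have e3 : r3 ((0, 1, -1) : K × K × K) = 1 := by simp [r3]
    have t1 : tau1 σ ((0, 1, -1) : K × K × K) = 0 := by rw [tau1, e5, zero_div, neg_zero]
    have t2 : tau2 σ ((0, 1, -1) : K × K × K) = 1 := by
      rw [tau2, t1, e4, e6, map_zero, mul_zero, sub_zero, div_one]
    have ht : tits σ ((0, 1, -1) : K × K × K) = (0, 1, -1) := by
      unfold tits
      rw [t1, t2, e3, e6, zero_mul, div_one, zero_sub]
    have f6 : r6 σ ((0, -1, 1) : K × K × K) = 1 := by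
      simp only [r6, map_one, map_neg, map_zero]; linear_combination -h3
    have f5 : r5 σ ((0, -1, 1) : K × K × K) = -1 := by
      simp only [r5, map_one, map_neg, map_zero]; linear_combination h3
    have f4 : r4 σ ((0, -1, 1) : K × K × K) = -1 := by simp [r4]
    have f3 : r3 ((0, -1, 1) : K × K × K) = -1 := by simp [r3]
    have s1 : tau1 σ ((0, -1, 1) : K × K × K) = 1 := by rw [tau1, f5, f6, div_one, neg_neg]
    have s2 : tau2 σ ((0, -1, 1) : K × K × K) = 1 := by
      rw [tau2, s1, f4, f6, map_one, mul_one, div_one]; linear_combination -h3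
    have hs : tits σ ((0, -1, 1) : K × K × K) = (1, 1, -1) := by
      unfold tits
      rw [s1, s2, f3, f6, mul_one, div_one]
      refine Prod.ext rfl (Prod.ext rfl ?_)
      show (1 : K) - -1 = -1
      linear_combination h3
    have hne : ((0, 1, -1) : K × K × K) ≠ 0 := fun h =>
      one_ne_zero (congrArg (fun r : K × K × K => r.2.1) h)
    have h := (Model.modelRel hK hσ).rel' hne
    have hi : inv σ ((0, 1, -1) : K × K × K) = (0, -1, 1) := by simp [inv]
    have hg : (Model.modelRel hK hσ).gam (0, 1, -1) = inv σ (1, 1, -1) := by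
      rw [(Model.modelRel hK hσ).gam_eq h3 hne, hi, hs]
    have hk : (Model.modelRel hK hσ).kap (0, 1, -1) = -1 := by
      apply norm_inj hK hσ
      rw [kap_model hK hσ hne, e6]
      simp
    rw [ht, hg, hk] at h
    rw [(Model.modelRel hK hσ).U_inv h3]
    exact h

/-- `τ` on `U₁`, for two groups -/
theorem tau_U1 {τ τ' : K × K × K → K × K × K} {G G' : Type*} [Group G] [Group G'] {R : Rel σ τ G}
    {R' : Rel σ τ' G'} {M M' : K → K} {d : K} (S : Start σ τ R M d) (hM : ∀ b, IsSquare (M b))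
    (S' : Start σ τ' R' M' d) (hM' : ∀ b, IsSquare (M' b)) (b c : K)
    (hne : ((0, b, c) : K × K × K) ≠ 0) : τ (0, b, c) = τ' (0, b, c) := by
  have h3 := Model.three hK
  by_cases hc : c = 0
  · subst hc
    have hb : b ≠ 0 := by rintro rfl; exact hne rfl
    rw [(start_Y h3 S hb).1, (start_Y h3 S' hb).1]
  · obtain ⟨k, hk⟩ := norm_surj hK hσ (neg_ne_zero.2 hc)
    have hk0 := k.ne_zero
    have hsk := sigma_ne hK hσ hk0
    have e : ((0, b, c) : K × K × K) = dil σ k (0, b / (k * σ k), -1) := by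
      simp only [dil, Prod.mk.injEq]
      refine ⟨by ring, ?_, ?_⟩
      · field_simp
      · rw [hk]; ring
    have hne' : ((0, b / (k * σ k), -1) : K × K × K) ≠ 0 :=
      Start.ne_zero_of_last (neg_ne_zero.2 one_ne_zero)
    have hF := congrFun (FEq.unique hK hσ (feq hK hσ S hM) (feq hK hσ S' hM')) (b / (k * σ k))
    have hF' : τ (0, b / (k * σ k), -1) = τ' (0, b / (k * σ k), -1) := hF
    rw [e, R.tau_dil h3 k hne', R'.tau_dil h3 k hne', hF']

/-- The torus part on `U₁`, for a group and the small Ree group. -/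
theorem kap_U1 (hm : 1 ≤ m) {τ : K × K × K → K × K × K} {G : Type*} [Group G] {R : Rel σ τ G}
    {M : K → K} (S : Start σ τ R M 1) (hM : ∀ b, IsSquare (M b)) (b c : K)
    (hne : ((0, b, c) : K × K × K) ≠ 0) :
    R.kap (0, b, c) = (Model.modelRel hK hσ).kap (0, b, c) := by
  have h3 := Model.three hK
  obtain ⟨R', hR'⟩ : ∃ R', R' = Model.modelRel hK hσ := ⟨_, rfl⟩
  have S' : Start σ (tits σ) R' (fun b => σ b / b) 1 := hR' ▸ model_start hK hσ
  have hM' : ∀ b : K, IsSquare (σ b / b) := by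
    intro b
    by_cases hb : b = 0
    · rw [hb, map_zero, zero_div]; exact IsSquare.zero
    · exact isSquare_sigma_div hK hσ hb
  have hkm : ∀ p : K × K × K, p ≠ 0 → (R'.kap p : K) ^ 2 * σ (R'.kap p) = -r6 σ p := by
    intro p hp; rw [hR']; exact kap_model hK hσ hp
  rw [← hR']
  have hτ := tau_U1 hK hσ S hM S' hM'
  by_cases hc : c = 0
  · subst hc
    have hb : b ≠ 0 := by rintro rfl; exact hne rfl
    apply Units.ext
    rw [(start_Y h3 S hb).2, (start_Y h3 S' hb).2, M_eq hK hσ S hM hb]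
  by_cases hx : tau1 σ (0, b, c) = 0
  · -- a multiple of `(0,1,-1)`
    have h6 : r6 σ (0, b, c) ≠ 0 := by
      have := hkm _ hne
      intro h
      rw [h, neg_zero] at this
      exact mul_ne_zero (pow_ne_zero 2 (R'.kap (0, b, c)).ne_zero)
        (sigma_ne hK hσ (R'.kap (0, b, c)).ne_zero) this
    have h5 : σ c - b * c = 0 := by
      rw [tau1, neg_eq_zero, div_eq_zero_iff] at hx
      rcases hx with h | h
      · simpa [r5] using h
      · exact absurd h h6
    obtain ⟨k, hk⟩ := norm_surj hK hσ (neg_ne_zero.2 hc)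
    have hk0 := k.ne_zero
    have hsk := sigma_ne hK hσ hk0
    have e : ((0, b, c) : K × K × K) = dil σ k (0, 1, -1) := by
      simp only [dil, Prod.mk.injEq]
      refine ⟨by ring, ?_, ?_⟩
      · have h7 : c = -((k : K) ^ 2 * σ k) := by rw [hk, neg_neg]
        have h8 : σ c = -(σ (k : K) ^ 2 * (k : K) ^ 3) := by
          rw [h7, map_neg, map_mul, map_pow, Model.sigma_sigma hK hσ]
        apply mul_right_cancel₀ hc
        rw [h8] at h5
        linear_combination -h5 - (k * σ k) * h7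
      · rw [hk]; ring
    have hne1 : ((0, 1, -1) : K × K × K) ≠ 0 := Start.ne_zero_of_last (neg_ne_zero.2 one_ne_zero)
    rw [e, (R.dil_rules h3 k hne1).2.1, (R'.dil_rules h3 k hne1).2.1, (start_C h3 S).2,
      (start_C h3 S').2]
  · -- the main case
    obtain ⟨y, z, hr, hz⟩ := exists_yz hK hσ hm hx (tits σ (0, b, c)).2.2
    obtain ⟨x0, hx0⟩ : ∃ x0, x0 = tau1 σ (0, b, c) := ⟨_, rfl⟩
    obtain ⟨y0, hy0⟩ : ∃ y0, y0 = (tits σ (0, b, c)).2.1 := ⟨_, rfl⟩
    obtain ⟨z0, hz0⟩ : ∃ z0, z0 = (tits σ (0, b, c)).2.2 := ⟨_, rfl⟩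
    rw [← hx0] at hr hx
    rw [← hz0] at hz
    have ht0 : tits σ (0, b, c) = (x0, y0, z0) := by rw [hx0, hy0, hz0]; rfl
    have hrne : ((x0, y, z) : K × K × K) ≠ 0 := fun h => hx (congrArg Prod.fst h)
    -- the second point
    obtain ⟨q, hq⟩ : ∃ q, q = tits σ (x0, y, z) := ⟨_, rfl⟩
    have hq1 : q.1 = 0 := by
      rw [hq]
      show tau1 σ (x0, y, z) = 0
      rw [tau1, hr, zero_div, neg_zero]
    have hq0 : q ≠ 0 := by rw [hq]; exact R'.tau_ne_zero h3 hrne
    have htq : tits σ q = (x0, y, z) := by rw [hq]; exact (R'.tau_rules h3 hrne).1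
    obtain ⟨q1, b', c'⟩ := q
    obtain rfl : q1 = 0 := hq1
    -- the product
    have hp0 : ((0, -b, -c) : K × K × K) ≠ 0 := by
      intro h
      apply hc
      have := congrArg (fun r : K × K × K => r.2.2) h
      exact neg_eq_zero.1 this
    have hinv : inv σ ((0, -b, -c) : K × K × K) = (0, b, c) := by simp [inv]
    have hpq : mul σ ((0, -b, -c) : K × K × K) (0, b', c') = (0, b' - b, c' - c) := by
      simp only [mul, map_zero, Prod.mk.injEq]
      refine ⟨by ring, by ring, by ring⟩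
    have hpq0 : ((0, b' - b, c' - c) : K × K × K) ≠ 0 := by
      intro h
      have h1 : b' = b := sub_eq_zero.1 (congrArg (fun r : K × K × K => r.2.1) h)
      have h2 : c' = c := sub_eq_zero.1 (congrArg (fun r : K × K × K => r.2.2) h)
      rw [h1, h2, ht0] at htq
      exact hz (congrArg (fun r : K × K × K => r.2.2) htq).symm
    have hg : R.gam (0, -b, -c) = inv σ (x0, y0, z0) := by
      rw [R.gam_eq h3 hp0, hinv, hτ b c hne, ht0]
    have hg' : R'.gam (0, -b, -c) = inv σ (x0, y0, z0) := by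
      rw [R'.gam_eq h3 hp0, hinv, ht0]
    have hkk : mul σ (inv σ (x0, y0, z0)) (x0, y, z) = (0, y - y0, z - z0) := by
      simp only [mul, inv, Prod.mk.injEq]
      refine ⟨by ring, by ring, by ring⟩
    have hk0 : ((0, y - y0, z - z0) : K × K × K) ≠ 0 :=
      Start.ne_zero_of_last (sub_ne_zero.2 hz)
    have m1 := R.mul_rules h3 hp0 hq0 (by rw [hpq]; exact hpq0)
      (by rw [hg, hτ b' c' hq0, htq, hkk]; exact hk0)
    have m2 := R'.mul_rules h3 hp0 hq0 (by rw [hpq]; exact hpq0)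
      (by rw [hg', htq, hkk]; exact hk0)
    rw [hg, hτ b' c' hq0, htq, hkk, hpq] at m1
    rw [hg', htq, hkk, hpq] at m2
    have e1 := m1.1
    have e2 := m2.1
    rw [hτ _ _ hpq0, hτ _ _ hp0, hτ _ _ hk0] at e1
    rw [e2] at e1
    -- cancel
    have e3 : dil σ (((R'.kap (0, -b, -c))⁻¹ : Kˣ) : K) (tits σ (0, y - y0, z - z0)) =
        dil σ (((R.kap (0, -b, -c))⁻¹ : Kˣ) : K) (tits σ (0, y - y0, z - z0)) := by
      have h := congrArg (mul σ (inv σ (tits σ (0, -b, -c)))) e1
      rwa [← mul_assoc' h3, ← mul_assoc' h3, inv_mul', zero_mul', zero_mul'] at h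
    obtain ⟨t1, t2, t3, ht⟩ : ∃ t1 t2 t3, tits σ (0, y - y0, z - z0) = (t1, t2, t3) := ⟨_, _, _, rfl⟩
    rw [ht] at e3
    have hnot : t1 ≠ 0 ∨ t3 ≠ 0 := by
      by_contra hcon
      push Not at hcon
      obtain ⟨rfl, rfl⟩ := hcon
      have h5 := R'.tau_ne_zero h3 hk0
      rw [ht] at h5
      have h6 : t2 ≠ 0 := by rintro rfl; exact h5 rfl
      have h7 := (R'.tau_rules h3 hk0).1
      rw [ht, (start_Y h3 S' h6).1] at h7
      have h8 := congrArg (fun r : K × K × K => r.2.2) h7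
      exact hz (sub_eq_zero.1 h8.symm)
    simp only [dil, Prod.mk.injEq] at e3
    have hkap : (R.kap (0, -b, -c))⁻¹ = (R'.kap (0, -b, -c))⁻¹ := by
      rcases hnot with h | h
      · exact Units.ext (mul_right_cancel₀ h e3.1).symm
      · exact norm_inj hK hσ (mul_right_cancel₀ h e3.2.2).symm
    have hfin := inv_injective hkap
    have i1 := (R.inv_rules h3 hp0).2.1
    have i2 := (R'.inv_rules h3 hp0).2.1
    rw [hinv] at i1 i2
    rw [i1, i2, hfin]

/-- **Agreement on `U₁`.** -/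
theorem agree_U1 (hm : 1 ≤ m) {τ : K × K × K → K × K × K} {G : Type*} [Group G] {R : Rel σ τ G}
    {M : K → K} (S : Start σ τ R M 1) (hM : ∀ b, IsSquare (M b)) (b c : K)
    (hne : ((0, b, c) : K × K × K) ≠ 0) : τ (0, b, c) = tits σ (0, b, c) ∧
      (R.kap (0, b, c) : K) ^ 2 * σ (R.kap (0, b, c)) = -r6 σ (0, b, c) := by
  have hM' : ∀ b : K, IsSquare (σ b / b) := by
    intro b
    by_cases hb : b = 0
    · rw [hb, map_zero, zero_div]; exact IsSquare.zero
    · exact isSquare_sigma_div hK hσ hb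
  refine ⟨tau_U1 hK hσ S hM (model_start hK hσ) hM' b c hne, ?_⟩
  rw [kap_U1 hK hσ hm S hM b c hne]
  exact kap_model hK hσ hne

/-- **Recognition of the small Ree groups from the starting conditions.** -/
theorem isoRee_of_start (hm : 1 ≤ m) {τ : K × K × K → K × K × K} {G : Type*} [Group G] (R : Rel σ τ G)
    {M : K → K} (S : Start σ τ R M 1) (hM : ∀ b, IsSquare (M b)) : Cfsg.Lie.IsoRee G :=
  isoRee'' hK hσ hm R fun b c hne => agree_U1 hK hσ hm S hM b c hne

end Fin

end AgreeTwo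

end Cfsg.Agent.ReeUniq
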