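/-
The commutator maps of the Sylow 3-subgroup of a group of Ree type are given by monomials.
-/
import Cfsg.Agent.LieRecognition.FieldAutBasis

set_option autoImplicit false

namespace Cfsg.Agent.ReeUniq.Alg

open Cfsg.Agent.LieRecognition.FieldAutBasis

variable {F : Type*} [Field F] [Finite F]

theorem two_ne (h3 : (3 : F) = 0) : (2 : F) ≠ 0 := by
  intro h
  apply one_ne_zero (α := F)
  linear_combination h3 - h

omit [Finite F] in
theorem aut_mul (u v : F ≃+* F) (x : F) : (u * v) x = u (v x) := rfl

theorem finite_aut : Finite (F ≃+* F) :=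
  Finite.of_injective (fun e : F ≃+* F => (e : F → F)) DFunLike.coe_injective

/-- coefficients of a combination of three distinct automorphisms -/
theorem three_indep {A B C : F ≃+* F} (hAB : A ≠ B) (hAC : A ≠ C) (hBC : B ≠ C) {a b c : F}
    (h : ∀ x, a * A x + b * B x + c * C x = 0) : a = 0 ∧ b = 0 ∧ c = 0 := by
  classical
  have := finite_aut (F := F)
  let _ : Fintype (F ≃+* F) := Fintype.ofFinite _
  have h1 := eq_zero_of_sum_eq_zero (F := F)
    (fun s => (if s = A then a else 0) + (if s = B then b else 0) + (if s = C then c else 0)) (fun x => by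
      simp only [add_mul, ite_mul, zero_mul, Finset.sum_add_distrib, Finset.sum_ite_eq', Finset.mem_univ, if_true]
      exact h x)
  have e1 := congrFun h1 A
  have e2 := congrFun h1 B
  have e3 := congrFun h1 C
  simp only [if_true, if_neg hAB, if_neg hAC, if_neg hAB.symm, if_neg hAC.symm, if_neg hBC, if_neg hBC.symm,
    add_zero, zero_add, Pi.zero_apply] at e1 e2 e3
  exact ⟨e1, e2, e3⟩

/-- multiplicities -/
theorem three_sum {A B C A' B' C' : F ≃+* F} (h : ∀ x, A x + B x + C x = A' x + B' x + C' x) [DecidableEq (F ≃+* F)]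
    (s : F ≃+* F) : (if s = A then (1 : F) else 0) + (if s = B then 1 else 0) + (if s = C then 1 else 0) =
      (if s = A' then 1 else 0) + (if s = B' then 1 else 0) + (if s = C' then 1 else 0) := by
  have := finite_aut (F := F)
  let _ : Fintype (F ≃+* F) := Fintype.ofFinite _
  have h1 := eq_zero_of_sum_eq_zero (F := F)
    (fun s => (if s = A then 1 else 0) + (if s = B then 1 else 0) + (if s = C then 1 else 0) -
      ((if s = A' then 1 else 0) + (if s = B' then 1 else 0) + (if s = C' then 1 else 0))) (fun x => by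
      simp only [sub_mul, add_mul, ite_mul, zero_mul, one_mul, Finset.sum_add_distrib, Finset.sum_sub_distrib,
        Finset.sum_ite_eq', Finset.mem_univ, if_true]
      rw [h x, sub_self])
  have e1 := congrFun h1 s
  exact sub_eq_zero.1 e1

theorem two_sum (h3 : (3 : F) = 0) {A B A' B' : F ≃+* F} (h : ∀ x, A x + B x = A' x + B' x) :
    (A = A' ∧ B = B') ∨ (A = B' ∧ B = A') := by
  classical
  have := finite_aut (F := F)
  let _ : Fintype (F ≃+* F) := Fintype.ofFinite _
  have h2 := two_ne h3
  have key : ∀ s : F ≃+* F, (if s = A then (1 : F) else 0) + (if s = B then 1 else 0) =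
      (if s = A' then 1 else 0) + (if s = B' then 1 else 0) := by
    intro s
    have h1 := eq_zero_of_sum_eq_zero (F := F)
      (fun s => (if s = A then 1 else 0) + (if s = B then 1 else 0) -
        ((if s = A' then 1 else 0) + (if s = B' then 1 else 0))) (fun x => by
        simp only [sub_mul, add_mul, ite_mul, zero_mul, one_mul, Finset.sum_add_distrib, Finset.sum_sub_distrib,
          Finset.sum_ite_eq', Finset.mem_univ, if_true]
        rw [h x, sub_self])
    exact sub_eq_zero.1 (congrFun h1 s)
  have hA := key A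
  rw [if_pos rfl] at hA
  by_cases hAA : A = A'
  · left
    refine ⟨hAA, ?_⟩
    apply RingEquiv.ext
    intro x
    have := h x
    rw [hAA] at this
    exact add_left_cancel this
  · right
    rw [if_neg hAA, zero_add] at hA
    have hAB' : A = B' := by
      by_contra hne
      rw [if_neg hne] at hA
      by_cases hAB : A = B
      · rw [if_pos hAB] at hA
        exact h2 (by linear_combination hA)
      · rw [if_neg hAB, add_zero] at hA
        exact one_ne_zero hA
    refine ⟨hAB', ?_⟩
    apply RingEquiv.ext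
    intro x
    have := h x
    rw [hAB', add_comm (A' x)] at this
    exact add_left_cancel this

omit [Finite F] in
theorem all_of_gen {μ : F} (hμ : ∀ x : F, x ≠ 0 → ∃ k : ℕ, x = μ ^ k) {f g : F → F}
    (hf : ∀ k : ℕ, f (μ ^ k) = f μ ^ k) (hg : ∀ k : ℕ, g (μ ^ k) = g μ ^ k) (hf0 : f 0 = 0) (hg0 : g 0 = 0)
    (h : f μ = g μ) (x : F) : f x = g x := by
  by_cases hx : x = 0
  · rw [hx, hf0, hg0]
  · obtain ⟨k, rfl⟩ := hμ x hx
    rw [hf, hg, h]

theorem pair (h3 : (3 : F) = 0) {μ : F} (hμ : ∀ x : F, x ≠ 0 → ∃ k : ℕ, x = μ ^ k) {s t s' t' : F ≃+* F}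
    (h : s μ * t μ = s' μ * t' μ) : (s = s' ∧ t = t') ∨ (s = t' ∧ t = s') := by
  apply two_sum h3
  have h1 : ∀ x, s x * t x = s' x * t' x :=
    all_of_gen hμ (f := fun x => s x * t x) (g := fun x => s' x * t' x)
      (fun k => by show s (μ ^ k) * t (μ ^ k) = (s μ * t μ) ^ k; rw [map_pow, map_pow, mul_pow])
      (fun k => by show s' (μ ^ k) * t' (μ ^ k) = (s' μ * t' μ) ^ k; rw [map_pow, map_pow, mul_pow])
      (by simp) (by simp) h
  intro x
  have h2 := h1 (x + 1)
  simp only [map_add, map_one] at h2
  linear_combination h2 - h1 x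

/-- the combinatorial lemma for the second commutator map -/
theorem triple (h3 : (3 : F) = 0) {μ : F} (hμ : ∀ x : F, x ≠ 0 → ∃ k : ℕ, x = μ ^ k) {r : F ≃+* F} (hr : r ≠ 1)
    (hr2 : r * r ≠ 1) {u v u' v' : F ≃+* F}
    (h : u (r μ) * u μ * v μ = u' (r μ) * u' μ * v' μ) : (u = u' ∧ v = v') ∨
      (u' = u * r ∧ v = u * r * r ∧ v' = u) ∨ (u = u' * r ∧ v' = u' * r * r ∧ v = u') := by
  classical
  have h2 := two_ne h3
  have h1 : ∀ x, u (r x) * u x * v x = u' (r x) * u' x * v' x :=
    all_of_gen hμ (f := fun x => u (r x) * u x * v x) (g := fun x => u' (r x) * u' x * v' x)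
      (fun k => by
        show u (r (μ ^ k)) * u (μ ^ k) * v (μ ^ k) = (u (r μ) * u μ * v μ) ^ k
        simp only [map_pow, mul_pow])
      (fun k => by
        show u' (r (μ ^ k)) * u' (μ ^ k) * v' (μ ^ k) = (u' (r μ) * u' μ * v' μ) ^ k
        simp only [map_pow, mul_pow])
      (by simp) (by simp) h
  have h4 : ∀ x, (u * r) x + u x + v x = (u' * r) x + u' x + v' x := by
    intro x
    have e1 := h1 (x + 1)
    have e2 := h1 (-x + 1)
    have e0 := h1 x
    have e0' := h1 (-x)
    simp only [map_add, map_one, map_neg] at e1 e2 e0 e0'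
    show u (r x) + u x + v x = u' (r x) + u' x + v' x
    have : 2 * (u (r x) + u x + v x) = 2 * (u' (r x) + u' x + v' x) := by
      linear_combination (e1 - e0) - (e2 - e0')
    exact mul_left_cancel₀ h2 this
  have key := three_sum h4
  by_cases huu : u = u'
  · left
    refine ⟨huu, ?_⟩
    apply RingEquiv.ext
    intro x
    have := h4 x
    rw [huu] at this
    exact add_left_cancel this
  · right
    have hur : ∀ w : F ≃+* F, w * r ≠ w := fun w h => hr (mul_eq_left.1 h)
    have hurr : ∀ w : F ≃+* F, w * r * r ≠ w := fun w h => hr2 (mul_eq_left.1 (by rw [← mul_assoc]; exact h))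
    have hne : u * r ≠ u' * r := fun h => huu (mul_right_cancel h)
    have kB := key u
    have kA := key (u * r)
    have kB' := key u'
    have kA' := key (u' * r)
    rw [if_neg (hur u).symm, if_pos rfl, if_neg huu] at kB
    rw [if_pos rfl, if_neg (hur u), if_neg hne] at kA
    rw [if_neg (hur u').symm, if_pos rfl, if_neg (Ne.symm huu)] at kB'
    rw [if_pos rfl, if_neg (hur u'), if_neg hne.symm] at kA'
    by_cases huv : u = v
    · -- impossible
      exfalso
      rw [if_pos huv] at kB
      have a1 : u = u' * r := by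
        by_contra hh
        rw [if_neg hh] at kB
        by_cases hh' : u = v'
        · rw [if_pos hh'] at kB
          exact one_ne_zero (by linear_combination kB : (1 : F) = 0)
        · rw [if_neg hh'] at kB
          exact h2 (by linear_combination kB)
      have a2 : u = v' := by
        by_contra hh
        rw [if_pos a1, if_neg hh] at kB
        exact one_ne_zero (by linear_combination kB : (1 : F) = 0)
      rw [if_neg (show ¬ (u * r = v) from fun h => hur u (h.trans huv.symm)),
        if_neg (show ¬ (u * r = v') from fun h => hur u (h.trans a2.symm))] at kA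
      by_cases hh : u * r = u'
      · apply hurr u'
        rw [← a1, hh]
      · rw [if_neg hh] at kA
        exact one_ne_zero (by linear_combination kA : (1 : F) = 0)
    · rw [if_neg huv] at kB
      by_cases a1 : u = u' * r
      · right
        have a2 : u ≠ v' := by
          intro hh
          rw [if_pos a1, if_pos hh] at kB
          exact one_ne_zero (by linear_combination -kB : (1 : F) = 0)
        have a3 : u * r ≠ u' := by rw [a1]; exact hurr u'
        rw [if_neg a3] at kA
        have a4 : u * r = v' := by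
          by_contra hh
          rw [if_neg hh] at kA
          by_cases hh' : u * r = v
          · rw [if_pos hh'] at kA
            exact h2 (by linear_combination kA)
          · rw [if_neg hh'] at kA
            exact one_ne_zero (by linear_combination kA : (1 : F) = 0)
        rw [if_neg (show ¬ (u' = u * r) from Ne.symm a3),
          if_neg (show ¬ (u' = v') from fun h => a3 (a4.trans h.symm))] at kB'
        have a5 : u' = v := by
          by_contra hh
          rw [if_neg hh] at kB'
          exact one_ne_zero (by linear_combination -kB' : (1 : F) = 0)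
        exact ⟨a1, by rw [← a1, a4], a5.symm⟩
      · left
        rw [if_neg a1] at kB
        have a2 : u = v' := by
          by_contra hh
          rw [if_neg hh] at kB
          exact one_ne_zero (by linear_combination kB : (1 : F) = 0)
        rw [if_neg (show ¬ (u * r = v') from fun h => hur u (h.trans a2.symm))] at kA
        have a3 : u * r = u' := by
          by_contra hh
          rw [if_neg hh] at kA
          by_cases hh' : u * r = v
          · rw [if_pos hh'] at kA
            exact h2 (by linear_combination kA)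
          · rw [if_neg hh'] at kA
            exact one_ne_zero (by linear_combination kA : (1 : F) = 0)
        rw [if_neg (show ¬ (u' * r = u) from Ne.symm a1),
          if_neg (show ¬ (u' * r = v') from fun h => a1 (a2.trans h.symm))] at kA'
        have a5 : u' * r = v := by
          by_contra hh
          rw [if_neg hh] at kA'
          exact one_ne_zero (by linear_combination -kA' : (1 : F) = 0)
        exact ⟨a3.symm, by rw [a3, a5], a2.symm⟩

/-- no automorphism of order two -/
theorem no_invol {n : ℕ} (hn : Odd n) (hcard : Nat.card F = 3 ^ n) {r : F ≃+* F} (hr2 : r * r = 1) : r = 1 := by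
  classical
  let _ : Fintype F := Fintype.ofFinite F
  have hfc : Fintype.card F = 3 ^ n := by rw [← Nat.card_eq_fintype_card, hcard]
  have : Fact (Nat.Prime 3) := ⟨Nat.prime_three⟩
  have : CharP F 3 := charP_of_card_eq_prime_pow hfc
  let _ : Algebra (ZMod 3) F := ZMod.algebra F 3
  have : IsGalois (ZMod 3) F := inferInstance
  have hfr : Module.finrank (ZMod 3) F = n := by
    have h1 := Module.card_eq_pow_finrank (K := ZMod 3) (V := F)
    rw [hfc, ZMod.card] at h1
    exact (Nat.pow_right_injective (le_refl 2 |>.trans (by norm_num) : 2 ≤ 3) h1).symm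
  let a : F ≃ₐ[ZMod 3] F := AlgEquiv.ofRingEquiv (f := r) (fun x => by
    have := DFunLike.congr_fun (Subsingleton.elim ((r : F →+* F).comp (algebraMap (ZMod 3) F))
      (algebraMap (ZMod 3) F)) x
    exact this)
  have ha : a ^ 2 = 1 := by
    apply AlgEquiv.ext
    intro x
    have := DFunLike.congr_fun hr2 x
    rw [pow_two]
    exact this
  have h1 : orderOf a ∣ 2 := orderOf_dvd_of_pow_eq_one ha
  have h2 : orderOf a ∣ n := by
    have := orderOf_dvd_natCard a
    rwa [IsGalois.card_aut_eq_finrank, hfr] at this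
  have h3 : orderOf a ∣ 1 := by
    have h4 : Nat.gcd 2 n = 1 := (Nat.coprime_two_left.2 hn)
    rw [← h4]
    exact Nat.dvd_gcd h1 h2
  have h4 : a = 1 := orderOf_eq_one_iff.1 (Nat.dvd_one.1 h3)
  apply RingEquiv.ext
  intro x
  exact DFunLike.congr_fun h4 x

/-- coefficients of a biadditive map -/
theorem exists_coeff (h3 : (3 : F) = 0) [Fintype (F ≃+* F)] (α : F → F → F)
    (h1 : ∀ x x' y, α (x + x') y = α x y + α x' y) (h2 : ∀ x y y', α x (y + y') = α x y + α x y') :
    ∃ c : (F ≃+* F) × (F ≃+* F) → F, ∀ x y, α x y = ∑ p, c p * (p.1 x * p.2 y) := by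
  have : Fact (Nat.Prime 3) := ⟨Nat.prime_three⟩
  have : CharP F 3 := by
    refine CharP.congr (ringChar F) ?_
    have hdvd : ringChar F ∣ 3 := by
      rw [← ringChar.spec]
      exact_mod_cast h3
    rcases (Nat.dvd_prime Nat.prime_three).1 hdvd with h | h
    · exfalso
      have := (ringChar.spec F 1).2 (by rw [h])
      exact one_ne_zero (by exact_mod_cast this : (1 : F) = 0)
    · exact h
  let B : F →+ F →+ F := AddMonoidHom.mk' (fun x => AddMonoidHom.mk' (fun y => α x y) (fun y y' => h2 x y y'))
    (fun x x' => AddMonoidHom.ext (fun y => h1 x x' y))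
  obtain ⟨c, hc⟩ := existsUnique_coeff₂ 3 B
  refine ⟨fun p => c p.1 p.2, fun x y => ?_⟩
  rw [Fintype.sum_prod_type]
  exact hc x y

theorem coeff_zero [Fintype (F ≃+* F)] (c : (F ≃+* F) × (F ≃+* F) → F)
    (h : ∀ x y, ∑ p, c p * (p.1 x * p.2 y) = 0) (p : (F ≃+* F) × (F ≃+* F)) : c p = 0 := by
  have h1 : ∀ y s, ∑ t, c (s, t) * t y = 0 := by
    intro y s
    have := eq_zero_of_sum_eq_zero (fun s => ∑ t, c (s, t) * t y) (fun x => by
      have h2 := h x y
      rw [Fintype.sum_prod_type] at h2
      rw [← h2]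
      refine Finset.sum_congr rfl fun s _ => ?_
      rw [Finset.sum_mul]
      exact Finset.sum_congr rfl fun t _ => by ring)
    exact congrFun this s
  have := eq_zero_of_sum_eq_zero (fun t => c (p.1, t)) (fun y => h1 y p.1)
  exact congrFun this p.2

/-- the support of the coefficients of a semi-invariant biadditive map -/
theorem coeff_support [Fintype (F ≃+* F)] (α : F → F → F) (c : (F ≃+* F) × (F ≃+* F) → F)
    (hc : ∀ x y, α x y = ∑ p, c p * (p.1 x * p.2 y)) {μ ρ ν : F} (hα : ∀ x y, α (μ * x) (ρ * y) = ν * α x y)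
    {p : (F ≃+* F) × (F ≃+* F)} (hp : c p ≠ 0) : p.1 μ * p.2 ρ = ν := by
  have h1 := coeff_zero (fun p => c p * (p.1 μ * p.2 ρ) - ν * c p) (fun x y => by
    have h2 := hα x y
    rw [hc, hc, Finset.mul_sum] at h2
    rw [← sub_eq_zero, ← Finset.sum_sub_distrib] at h2
    rw [← h2]
    refine Finset.sum_congr rfl fun p _ => ?_
    rw [map_mul, map_mul]
    ring) p
  have h2 : c p * (p.1 μ * p.2 ρ - ν) = 0 := by linear_combination h1
  exact sub_eq_zero.1 ((mul_eq_zero.1 h2).resolve_left hp)

/-- the first commutator map is `a (s(x) t(y) - t(x) s(y))` -/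
theorem alpha_form (h3 : (3 : F) = 0) {μ ν : F} (hμ : ∀ x : F, x ≠ 0 → ∃ k : ℕ, x = μ ^ k) (α : F → F → F)
    (h1 : ∀ x x' y, α (x + x') y = α x y + α x' y) (h2 : ∀ x y y', α x (y + y') = α x y + α x y')
    (halt : ∀ x, α x x = 0) (hα : ∀ x y, α (μ * x) (μ * y) = ν * α x y) (hα0 : ∃ x y, α x y ≠ 0) :
    ∃ (a : F) (s t : F ≃+* F), a ≠ 0 ∧ s ≠ t ∧ s μ * t μ = ν ∧ ∀ x y, α x y = a * (s x * t y - t x * s y) := by
  classical
  have := finite_aut (F := F)
  let _ : Fintype (F ≃+* F) := Fintype.ofFinite _
  obtain ⟨c, hc⟩ := exists_coeff h3 α h1 h2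
  have hanti : ∀ x y, α x y = -α y x := by
    intro x y
    have h := halt (x + y)
    rw [h1, h2, h2, halt, halt] at h
    linear_combination h
  have hcanti : ∀ s t, c (s, t) = -c (t, s) := by
    intro s t
    have h := coeff_zero (fun p => c p + c (p.2, p.1)) (fun x y => by
      have e : ∑ p : (F ≃+* F) × (F ≃+* F), c (p.2, p.1) * (p.1 x * p.2 y) = α y x := by
        rw [hc]
        rw [← (Equiv.prodComm (F ≃+* F) (F ≃+* F)).sum_comp]
        exact Finset.sum_congr rfl fun p _ => by
          show c (p.1, p.2) * (p.2 x * p.1 y) = c p * (p.1 y * p.2 x)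
          ring
      simp only [add_mul, Finset.sum_add_distrib]
      rw [e, ← hc, hanti x y]
      ring) (s, t)
    linear_combination h
  have hdiag : ∀ s, c (s, s) = 0 := by
    intro s
    have h := hcanti s s
    have : 2 * c (s, s) = 0 := by linear_combination h
    exact (mul_eq_zero.1 this).resolve_left (two_ne h3)
  obtain ⟨⟨s, t⟩, hst⟩ : ∃ p, c p ≠ 0 := by
    by_contra hcon
    push Not at hcon
    obtain ⟨x, y, hxy⟩ := hα0
    apply hxy
    rw [hc]
    exact Finset.sum_eq_zero fun p _ => by rw [hcon p, zero_mul]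
  have hne : s ≠ t := by
    rintro rfl
    exact hst (hdiag s)
  have hν := coeff_support α c hc hα hst
  refine ⟨c (s, t), s, t, hst, hne, hν, fun x y => ?_⟩
  rw [hc]
  have hsub : ∑ p, c p * (p.1 x * p.2 y) = ∑ p ∈ {(s, t), (t, s)}, c p * (p.1 x * p.2 y) := by
    symm
    apply Finset.sum_subset (Finset.subset_univ _)
    intro p _ hp
    by_cases hcp : c p = 0
    · rw [hcp, zero_mul]
    · exfalso
      have h4 := coeff_support α c hc hα hcp
      apply hp
      rcases pair h3 hμ (h4.trans hν.symm) with ⟨e1, e2⟩ | ⟨e1, e2⟩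
      · exact Finset.mem_insert.2 (Or.inl (Prod.ext e1 e2))
      · exact Finset.mem_insert_of_mem (Finset.mem_singleton.2 (Prod.ext e1 e2))
  rw [hsub, Finset.sum_pair (fun h => hne (congrArg Prod.fst h)), hcanti t s]
  ring

/-- the second commutator map is `b u(y x)` or `b u(y r(x))` -/
theorem beta_form (h3 : (3 : F) = 0) {n : ℕ} (hn : Odd n) (hcard : Nat.card F = 3 ^ n) {μ l : F}
    (hμ : ∀ x : F, x ≠ 0 → ∃ k : ℕ, x = μ ^ k) {r : F ≃+* F} (hr : r ≠ 1) (β : F → F → F)
    (h1 : ∀ x x' y, β (x + x') y = β x y + β x' y) (h2 : ∀ x y y', β x (y + y') = β x y + β x y')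
    (hβ : ∀ y x, β (r μ * μ * y) (μ * x) = l * β y x) (hnd : β 1 1 ≠ 0)
    (hjac : ∀ x y w, β (r x * y - x * r y) w + β (r y * w - y * r w) x + β (r w * x - w * r x) y = 0) :
    ∃ (b : F) (u v : F ≃+* F), b ≠ 0 ∧ (v = u ∨ v = u * r) ∧ u (r μ * μ) * v μ = l ∧
      ∀ y x, β y x = b * (u y * v x) := by
  classical
  have := finite_aut (F := F)
  let _ : Fintype (F ≃+* F) := Fintype.ofFinite _
  have hr2 : r * r ≠ 1 := fun h => hr (no_invol hn hcard h)
  obtain ⟨c, hc⟩ := exists_coeff h3 β h1 h2
  obtain ⟨⟨u, v⟩, huv⟩ : ∃ p, c p ≠ 0 := by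
    by_contra hcon
    push Not at hcon
    apply hnd
    rw [hc]
    exact Finset.sum_eq_zero fun p _ => by rw [hcon p, zero_mul]
  have hl := coeff_support β c hc hβ huv
  have hur : ∀ w : F ≃+* F, w * r ≠ w := fun w h => hr (mul_eq_left.1 h)
  have hurr : ∀ w : F ≃+* F, w * r * r ≠ w := fun w h => hr2 (mul_eq_left.1 (by rw [← mul_assoc]; exact h))
  -- comparison of two pairs in the support
  have hcmp : ∀ p q : (F ≃+* F) × (F ≃+* F), c p ≠ 0 → c q ≠ 0 → (p.1 = q.1 ∧ p.2 = q.2) ∨
      (q.1 = p.1 * r ∧ p.2 = p.1 * r * r ∧ q.2 = p.1) ∨ (p.1 = q.1 * r ∧ q.2 = q.1 * r * r ∧ p.2 = q.1) := by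
    intro p q hp hq
    have e1 := coeff_support β c hc hβ hp
    have e2 := coeff_support β c hc hβ hq
    apply triple h3 hμ hr hr2
    rw [← map_mul, ← map_mul, e1, e2]
  by_cases hsingle : ∀ q, c q ≠ 0 → q = (u, v)
  · -- one monomial
    have hform : ∀ y x, β y x = c (u, v) * (u y * v x) := by
      intro y x
      rw [hc, Finset.sum_eq_single (u, v)]
      · intro q _ hq
        by_cases hcq : c q = 0
        · rw [hcq, zero_mul]
        · exact absurd (hsingle q hcq) hq
      · intro h
        exact absurd (Finset.mem_univ _) h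
    refine ⟨c (u, v), u, v, huv, ?_, hl, hform⟩
    by_contra hcon
    push Not at hcon
    obtain ⟨hvu, hvr⟩ := hcon
    obtain ⟨y, hy⟩ : ∃ y, r y ≠ y := by
      by_contra hh
      push Not at hh
      exact hr (RingEquiv.ext hh)
    have h4 := three_indep (A := u * r) (B := u) (C := v) (hur u) (fun h => hvr h.symm) (fun h => hvu h.symm)
      (a := u y * v 1 - u 1 * v y) (b := u (r 1) * v y - u (r y) * v 1) (c := u (r y * 1 - y * r 1)) (fun x => by
        have h5 := hjac x y 1
        rw [hform, hform, hform, ← mul_add, ← mul_add] at h5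
        have h6 := (mul_eq_zero.1 h5).resolve_left huv
        simp only [map_sub, map_mul] at h6 ⊢
        rw [aut_mul]
        linear_combination h6)
    have h5 := h4.2.2
    rw [map_one, mul_one, mul_one, map_eq_zero_iff u u.injective] at h5
    exact hy (sub_eq_zero.1 h5)
  · -- two or three monomials: impossible
    exfalso
    push Not at hsingle
    obtain ⟨q, hq, hqne⟩ := hsingle
    -- normalise
    obtain ⟨w, hw1, hw2⟩ : ∃ w : F ≃+* F, c (w, w * r * r) ≠ 0 ∧ c (w * r, w) ≠ 0 := by
      rcases hcmp (u, v) q huv hq with ⟨e1, e2⟩ | ⟨e1, e2, e4⟩ | ⟨e1, e2, e4⟩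
      · exact absurd (Prod.ext e1.symm e2.symm) hqne
      · refine ⟨u, ?_, ?_⟩
        · have : (u, v) = (u, u * r * r) := Prod.ext rfl e2
          rw [← this]; exact huv
        · have : q = (u * r, u) := Prod.ext e1 e4
          rw [← this]; exact hq
      · refine ⟨q.1, ?_, ?_⟩
        · have : q = (q.1, q.1 * r * r) := Prod.ext rfl e2
          rw [← this]; exact hq
        · have : (u, v) = (q.1 * r, q.1) := Prod.ext e1 e4
          rw [← this]; exact huv
    have hsupp : ∀ p, c p ≠ 0 → p = (w, w * r * r) ∨ p = (w * r, w) ∨ (p = (w * r * r, w * r) ∧ w * r * r * r = w) := by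
      intro p hp
      rcases hcmp (w, w * r * r) p hw1 hp with ⟨e1, e2⟩ | ⟨e1, _, e4⟩ | ⟨e1, e2, e4⟩
      · exact Or.inl (Prod.ext e1.symm e2.symm)
      · exact Or.inr (Or.inl (Prod.ext e1 e4))
      · right; right
        have e1' : w = p.1 * r := e1
        have e4' : w * r * r = p.1 := e4
        refine ⟨Prod.ext e4'.symm ?_, ?_⟩
        · rw [e2, ← e1']
        · rw [e4', ← e1']
    have hform : ∀ y x, β y x = c (w, w * r * r) * (w y * w (r (r x))) + c (w * r, w) * (w (r y) * w x) +
        c (w * r * r, w * r) * (w (r (r y)) * w (r x)) := by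
      intro y x
      have hsub : ∑ p, c p * (p.1 y * p.2 x) =
          ∑ p ∈ {(w, w * r * r), (w * r, w), (w * r * r, w * r)}, c p * (p.1 y * p.2 x) := by
        symm
        apply Finset.sum_subset (Finset.subset_univ _)
        intro p _ hp
        by_cases hcp : c p = 0
        · rw [hcp, zero_mul]
        · exfalso
          apply hp
          rcases hsupp p hcp with h | h | ⟨h, _⟩
          · rw [h]; simp
          · rw [h]; simp
          · rw [h]; simp
      rw [hc, hsub, Finset.sum_insert, Finset.sum_pair]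
      · simp only [aut_mul]
        ring
      · intro h
        exact hur (w * r) (congrArg Prod.fst h).symm
      · intro h
        rcases Finset.mem_insert.1 h with h | h
        · exact hur w (congrArg Prod.fst h).symm
        · exact hurr w (congrArg Prod.fst (Finset.mem_singleton.1 h)).symm
    have hthird : ∀ x, c (w * r * r, w * r) * w (r (r (r x))) = c (w * r * r, w * r) * w x := by
      intro x
      by_cases h : c (w * r * r, w * r) = 0
      · rw [h, zero_mul, zero_mul]
      · rcases hsupp _ h with h' | h' | ⟨_, h'⟩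
        · exact absurd (congrArg Prod.fst h') (hurr w)
        · exact absurd (congrArg Prod.fst h') (hur (w * r))
        · have := DFunLike.congr_fun h' x
          rw [← this]
          rfl
    have hsum : c (w, w * r * r) + c (w * r, w) + c (w * r * r, w * r) ≠ 0 := by
      have := hnd
      rw [hform] at this
      simpa only [map_one, mul_one] using this
    obtain ⟨y, hy⟩ : ∃ y, r y ≠ y := by
      by_contra hh
      push Not at hh
      exact hr (RingEquiv.ext hh)
    have h4 := three_indep (A := w) (B := w * r) (C := w * r * r) (hur w).symm (hurr w).symm (hur (w * r)).symm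
      (a := w (r y) * w (r (r 1)) - w (r (r y)) * w (r 1)) (b := w (r (r y)) * w 1 - w y * w (r (r 1)))
      (c := w y * w (r 1) - w (r y) * w 1) (fun x => by
        have h5 := hjac x y 1
        rw [hform, hform, hform] at h5
        simp only [map_sub, map_mul] at h5
        have t1 := hthird x
        have t2 := hthird y
        have t3 := hthird 1
        simp only [map_one, mul_one, one_mul] at h5 t3 ⊢
        have h6 : (c (w, w * r * r) + c (w * r, w) + c (w * r * r, w * r)) *
            ((w (r y) - w (r (r y))) * w x + (w (r (r y)) - w y) * w (r x) + (w y - w (r y)) * w (r (r x))) = 0 := by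
          linear_combination -h5 + (w (r (r y)) - w (r y)) * t1 + (w (r x) - w (r (r x))) * t2
        have h7 := (mul_eq_zero.1 h6).resolve_left hsum
        rw [aut_mul, aut_mul, aut_mul]
        exact h7)
    have h5 := h4.2.2
    rw [map_one, map_one, mul_one, mul_one, sub_eq_zero] at h5
    exact hy (w.injective h5).symm

/-- **The monomials.** -/
theorem _root_.Cfsg.Agent.ReeUniq.monomials {F : Type*} [Field F] [Finite F] {n : ℕ} (hn : Odd n) (hn1 : 1 < n)
    (hcard : Nat.card F = 3 ^ n)
    (μ ν l : F) (hμ : ∀ x : F, x ≠ 0 → ∃ k : ℕ, x = μ ^ k) (α β : F → F → F)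
    (hα1 : ∀ x x' y, α (x + x') y = α x y + α x' y) (hα2 : ∀ x y y', α x (y + y') = α x y + α x y')
    (hβ1 : ∀ x x' y, β (x + x') y = β x y + β x' y) (hβ2 : ∀ x y y', β x (y + y') = β x y + β x y')
    (halt : ∀ x, α x x = 0) (hα : ∀ x y, α (μ * x) (μ * y) = ν * α x y) (hβ : ∀ y x, β (ν * y) (μ * x) = l * β y x)
    (hα0 : ∃ x y, α x y ≠ 0) (hnd : ∀ y x, β y x = 0 → y = 0 ∨ x = 0)
    (hjac : ∀ x y w, β (α x y) w + β (α y w) x + β (α w x) y = 0) :
    ∃ (σ : F ≃+* F) (e f : F ≃+ F), σ ≠ 1 ∧ (∀ x y, e (α x y) = σ x * y - x * σ y) ∧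
      (∀ y x, f (β y x) = -(e y * x)) ∧ (∀ y, e (ν * y) = μ * σ μ * e y) ∧
      (∀ w, f (l * w) = μ * μ * σ μ * f w) := by
  have h3 : (3 : F) = 0 := by
    let _ : Fintype F := Fintype.ofFinite F
    have h1 : ((Fintype.card F : ℕ) : F) = 0 := Nat.cast_card_eq_zero F
    rw [← Nat.card_eq_fintype_card, hcard, Nat.cast_pow, pow_eq_zero_iff (by omega)] at h1
    exact_mod_cast h1
  obtain ⟨a, s, t, ha, hst, hν, hform⟩ := alpha_form h3 hμ α hα1 hα2 halt hα hα0
  -- normalise the first map
  set r := t⁻¹ * s with hr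
  have hs : s = t * r := by rw [hr, mul_inv_cancel_left]
  have hr1 : r ≠ 1 := by
    intro h
    rw [h, mul_one] at hs
    exact hst hs
  -- multiplication by a nonzero element as an additive equivalence
  let m : (c : F) → c ≠ 0 → (F ≃+ F) := fun c hc =>
    { toFun := fun x => c * x
      invFun := fun x => c⁻¹ * x
      left_inv := fun x => inv_mul_cancel_left₀ hc x
      right_inv := fun x => mul_inv_cancel_left₀ hc x
      map_add' := fun x y => mul_add c x y }
  have hm : ∀ c hc x, m c hc x = c * x := fun _ _ _ => rfl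
  have hts : ∀ x, t.symm (t x) = x := t.symm_apply_apply
  let e1 : F ≃+ F := (m a⁻¹ (inv_ne_zero ha)).trans (t.symm : F ≃+* F).toAddEquiv
  have he1 : ∀ y, e1 y = t.symm (a⁻¹ * y) := fun _ => rfl
  have he1α : ∀ x y, e1 (α x y) = r x * y - x * r y := by
    intro x y
    rw [he1, hform, inv_mul_cancel_left₀ ha, hs]
    simp only [aut_mul, map_sub, map_mul, hts]
  have he1inv : ∀ y, e1 (a * t y) = y := by
    intro y
    rw [he1, inv_mul_cancel_left₀ ha, hts]
  have hsymm : ∀ y, e1.symm y = a * t y := by
    intro y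
    rw [AddEquiv.symm_apply_eq, he1inv]
  have hν' : ν = t (r μ * μ) := by rw [← hν, hs, aut_mul, ← map_mul]
  have he1ν : ∀ y, e1 (ν * y) = μ * r μ * e1 y := by
    intro y
    rw [he1, he1, hν']
    have : a⁻¹ * (t (r μ * μ) * y) = t (r μ * μ) * (a⁻¹ * y) := by ring
    rw [this, map_mul, hts]
    ring
  -- the second map
  obtain ⟨b, u, v, hb, hv, hl, hβform⟩ := beta_form (μ := μ) (l := l) (r := r) h3 hn hcard hμ hr1
    (fun y x => β (e1.symm y) x) (fun x x' y => by rw [map_add, hβ1]) (fun x y y' => hβ2 _ _ _)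
    (fun y x => by
      have : e1.symm (r μ * μ * y) = ν * e1.symm y := by
        rw [AddEquiv.symm_apply_eq, he1ν, AddEquiv.apply_symm_apply]; ring
      rw [this, hβ])
    (fun h => by
      rcases hnd _ _ h with h' | h'
      · rw [hsymm, map_one, mul_one] at h'
        exact ha h'
      · exact one_ne_zero h')
    (fun x y w => by
      have h4 := hjac x y w
      rw [← he1α, ← he1α, ← he1α, AddEquiv.symm_apply_apply, AddEquiv.symm_apply_apply, AddEquiv.symm_apply_apply]
      exact h4)
  have hβ' : ∀ y x, β y x = b * (u (e1 y) * v x) := by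
    intro y x
    have := hβform (e1 y) x
    rwa [AddEquiv.symm_apply_apply] at this
  have hus : ∀ x, u.symm (u x) = x := u.symm_apply_apply
  rcases hv with rfl | rfl
  · -- `v = u`
    refine ⟨r, e1, (m (-b⁻¹) (neg_ne_zero.2 (inv_ne_zero hb))).trans (v.symm : F ≃+* F).toAddEquiv, hr1, he1α, ?_,
      he1ν, ?_⟩
    · intro y x
      show v.symm (-b⁻¹ * β y x) = -(e1 y * x)
      rw [hβ', neg_mul, inv_mul_cancel_left₀ hb, ← map_mul, map_neg, hus]
    · intro w
      show v.symm (-b⁻¹ * (l * w)) = μ * μ * r μ * v.symm (-b⁻¹ * w)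
      rw [← hl, ← map_mul]
      have : -b⁻¹ * (v (r μ * μ * μ) * w) = v (r μ * μ * μ) * (-b⁻¹ * w) := by ring
      rw [this, map_mul, hus]
      ring
  · -- `v = u * r`
    have hrs : ∀ x, r.symm (r x) = x := r.symm_apply_apply
    have hrs' : ∀ x, r (r.symm x) = x := r.apply_symm_apply
    have hr' : (r.symm : F ≃+* F) ≠ 1 := by
      intro h
      apply hr1
      apply RingEquiv.ext
      intro x
      have := DFunLike.congr_fun h (r x)
      rw [hrs] at this
      exact this.symm
    refine ⟨r.symm, e1.trans ((m (-1) (neg_ne_zero.2 one_ne_zero)).trans (r.symm : F ≃+* F).toAddEquiv),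
      (m b⁻¹ (inv_ne_zero hb)).trans ((u.symm : F ≃+* F).toAddEquiv.trans (r.symm : F ≃+* F).toAddEquiv), hr', ?_, ?_,
      ?_, ?_⟩
    · intro x y
      show r.symm (-1 * e1 (α x y)) = r.symm x * y - x * r.symm y
      rw [he1α, neg_one_mul, neg_sub, map_sub, map_mul, map_mul, hrs, hrs]
    · intro y x
      show r.symm (u.symm (b⁻¹ * β y x)) = -(r.symm (-1 * e1 y) * x)
      rw [hβ', inv_mul_cancel_left₀ hb, aut_mul, ← map_mul, hus, map_mul, hrs, neg_one_mul, map_neg]
      ring
    · intro y
      show r.symm (-1 * e1 (ν * y)) = μ * r.symm μ * r.symm (-1 * e1 y)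
      rw [he1ν]
      simp only [map_mul, map_neg, map_one, hrs]
      ring
    · intro w
      show r.symm (u.symm (b⁻¹ * (l * w))) = μ * μ * r.symm μ * r.symm (u.symm (b⁻¹ * w))
      rw [← hl, aut_mul u r μ, ← map_mul]
      have : b⁻¹ * (u (r μ * μ * r μ) * w) = u (r μ * μ * r μ) * (b⁻¹ * w) := by ring
      rw [this, map_mul, hus, map_mul]
      simp only [map_mul, hrs]
      ring

end Cfsg.Agent.ReeUniq.Alg
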