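import Cfsg.Agent.ReeUniq.Coords

/-!
# S1149: commutators in coordinates

`Raw.exists_alpha`, `Raw.exists_beta` : the commutator maps `U/U1 × U/U1 → E` and `E × U/U1 → ZZ` in coordinates,
biadditive, equivariant, and with the Jacobi identity.
-/

set_option autoImplicit false
set_option linter.unusedSectionVars false

namespace Cfsg.Agent.ReeUniq

open MulAction Cfsg.Agent.OddUThree

variable {G Ω : Type*} [Group G] [MulAction G Ω] {U : Ω → Subgroup G} {n : ℕ}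

namespace Raw

variable {a b : Ω} {F : Type*} [Field F] (R : Raw U a b F)
include R

theorem c_zero : R.c 0 = 1 := by
  have h := R.c_mul 0 0
  rw [add_zero] at h
  exact (mul_eq_left.mp h.symm)

theorem z_zero : R.z 0 = 1 := by
  have h := R.z_mul 0 0
  rw [add_zero] at h
  exact (mul_eq_left.mp h.symm)

theorem c_neg (y : F) : R.c (-y) = (R.c y)⁻¹ := by
  have h := R.c_mul (-y) y
  rw [neg_add_cancel, R.c_zero] at h
  exact eq_inv_of_mul_eq_one_left h.symm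

theorem z_neg (y : F) : R.z (-y) = (R.z y)⁻¹ := by
  have h := R.z_mul (-y) y
  rw [neg_add_cancel, R.z_zero] at h
  exact eq_inv_of_mul_eq_one_left h.symm

theorem c_inj {y y' : F} (h : R.c y = R.c y') : y = y' := by
  have h1 := R.c_mul (y - y') y'
  rw [sub_add_cancel, h] at h1
  exact sub_eq_zero.mp (R.c_one _ (mul_eq_right.mp h1.symm))

theorem z_inj {y y' : F} (h : R.z y = R.z y') : y = y' := by
  have h1 := R.z_mul (y - y') y'
  rw [sub_add_cancel, h] at h1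
  exact sub_eq_zero.mp (R.z_one _ (mul_eq_right.mp h1.symm))

theorem cU (y : F) : R.c y ∈ U a := E_le_U (R.c_mem y)
theorem zU (y : F) : R.z y ∈ U a := ZZ_le_U (R.z_mem y)
theorem z_cen (y : F) {u : G} (hu : u ∈ U a) : R.z y * u = u * R.z y := (mem_ZZ.mp (R.z_mem y)).2 u hu

theorem X_one : R.X 1 = 0 := (R.X_ker 1 (U a).one_mem).mpr (U1 U a b).one_mem

theorem X_inv {u : G} (hu : u ∈ U a) : R.X u⁻¹ = -R.X u := by
  have h := R.X_mul u hu u⁻¹ ((U a).inv_mem hu)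
  rw [mul_inv_cancel, R.X_one] at h
  exact (neg_eq_of_add_eq_zero_right h.symm).symm

theorem X_c (y : F) : R.X (R.c y) = 0 := (R.X_ker _ (R.cU y)).mpr (E_le_U1 (R.c_mem y))
theorem X_z (y : F) : R.X (R.z y) = 0 := (R.X_ker _ (R.zU y)).mpr (ZZ_le_U1 (R.z_mem y))

theorem exists_of_U1 {x : G} (hx : x ∈ U1 U a b) : ∃ y w, x = R.c y * R.z w := by
  obtain ⟨e, he, z, hz, rfl⟩ := mem_U1.mp hx
  obtain ⟨y, rfl⟩ := R.c_surj e he
  obtain ⟨w, rfl⟩ := R.z_surj z hz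
  exact ⟨y, w, rfl⟩

theorem X_ker' {u : G} (hu : u ∈ U a) : R.X u = 0 ↔ ∃ y w, u = R.c y * R.z w := by
  rw [R.X_ker u hu]
  refine ⟨R.exists_of_U1, ?_⟩
  rintro ⟨y, w, rfl⟩
  exact mem_U1.mpr ⟨_, R.c_mem y, _, R.z_mem w, rfl⟩

variable (S : Setup G Ω U n) [Finite G] (hab : a ≠ b)

include S hab in
theorem cz_inj {y y' w w' : F} (h : R.c y * R.z w = R.c y' * R.z w') : y = y' ∧ w = w' := by
  have := S.U1_unique hab (R.c_mem y) (R.c_mem y') (R.z_mem w) (R.z_mem w') h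
  exact ⟨R.c_inj this.1, R.z_inj this.2⟩

/-- `u v = v u c(r)` modulo `ZZ`. -/
def P (u v : G) (r : F) : Prop := ∃ w, u * v = v * u * (R.c r * R.z w)

/-- `c(y) u = u c(y) z(s)`. -/
def Q (y : F) (u : G) (s : F) : Prop := R.c y * u = u * (R.c y * R.z s)

include S hab in
theorem P_unique {u v : G} {r r' : F} (h : R.P u v r) (h' : R.P u v r') : r = r' := by
  obtain ⟨w, hw⟩ := h
  obtain ⟨w', hw'⟩ := h'
  rw [hw] at hw'
  exact (R.cz_inj S hab (mul_left_cancel hw')).1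

theorem Q_unique {y : F} {u : G} {s s' : F} (h : R.Q y u s) (h' : R.Q y u s') : s = s' := by
  unfold Q at h h'
  rw [h] at h'
  exact R.z_inj (mul_left_cancel (mul_left_cancel h'))

include S hab in
theorem exists_P {u v : G} (hu : u ∈ U a) (hv : v ∈ U a) : ∃ r, R.P u v r := by
  have h1 := S.comm_mem_U1 hab ((U a).inv_mem hu) ((U a).inv_mem hv)
  rw [inv_inv, inv_inv] at h1
  obtain ⟨y, w, h⟩ := R.exists_of_U1 h1
  refine ⟨y, w, ?_⟩
  rw [← h]; group

include S hab in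
theorem exists_Q (y : F) {u : G} (hu : u ∈ U a) : ∃ s, R.Q y u s := by
  have h1 := S.commE hab (R.c_mem y) hu
  obtain ⟨s, hs⟩ := R.z_surj _ h1
  refine ⟨s, ?_⟩
  show R.c y * u = u * (R.c y * R.z s)
  rw [← R.z_cen s (R.cU y), ← mul_assoc, ← R.z_cen s hu, hs]
  group

theorem Q_add_left {y y' : F} {u : G} {s s' : F} (h : R.Q y u s) (h' : R.Q y' u s') : R.Q (y + y') u (s + s') := by
  unfold Q at *
  rw [R.c_mul, R.z_mul, mul_assoc, h', ← mul_assoc, h]
  have h1 := R.z_cen s (R.cU y')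
  calc u * (R.c y * R.z s) * (R.c y' * R.z s') = u * (R.c y * (R.z s * R.c y') * R.z s') := by group
    _ = u * (R.c y * R.c y' * (R.z s * R.z s')) := by rw [h1]; group

theorem Q_add_right {y : F} {u u' : G} (hu' : u' ∈ U a) {s s' : F} (h : R.Q y u s) (h' : R.Q y u' s') :
    R.Q y (u * u') (s + s') := by
  unfold Q at *
  rw [R.z_mul]
  have h1 := R.z_cen s hu'
  have h2 := R.z_cen s (R.zU s')
  calc R.c y * (u * u') = R.c y * u * u' := by group
    _ = u * R.c y * (R.z s * u') := by rw [h]; group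
    _ = u * (R.c y * u') * R.z s := by rw [h1]; group
    _ = u * u' * (R.c y * (R.z s' * R.z s)) := by rw [h']; group
    _ = u * u' * (R.c y * (R.z s * R.z s')) := by rw [h2]

include S hab in
theorem Q_ker {y : F} {u : G} (hu : u ∈ U1 U a b) : R.Q y u 0 := by
  unfold Q
  rw [R.z_zero, mul_one]
  exact S.U1_comm hab (E_le_U1 (R.c_mem y)) hu

include S hab in
theorem P_add_left {u u' v : G} (hu' : u' ∈ U a) {r r' : F} (h : R.P u v r)
    (h' : R.P u' v r') : R.P (u * u') v (r + r') := by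
  obtain ⟨w, hw⟩ := h
  obtain ⟨w', hw'⟩ := h'
  obtain ⟨s, hs⟩ := R.exists_Q S hab r hu'
  unfold Q at hs
  refine ⟨s + w + w', ?_⟩
  rw [R.c_mul, R.z_mul, R.z_mul]
  have h1 := R.z_cen w hu'
  have h2 := R.z_cen s (R.cU r')
  have h3 := R.z_cen w (R.cU r')
  calc u * u' * v = u * (u' * v) := by group
    _ = (u * v) * u' * (R.c r' * R.z w') := by rw [hw']; group
    _ = v * u * (R.c r * (R.z w * u')) * (R.c r' * R.z w') := by rw [hw]; group
    _ = v * u * (R.c r * u') * R.z w * (R.c r' * R.z w') := by rw [h1]; group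
    _ = v * (u * u') * R.c r * (R.z s * (R.z w * R.c r')) * R.z w' := by rw [hs]; group
    _ = v * (u * u') * R.c r * (R.z s * R.c r') * (R.z w * R.z w') := by rw [h3]; group
    _ = v * (u * u') * (R.c r * R.c r' * (R.z s * R.z w * R.z w')) := by rw [h2]; group

theorem P_symm {u v : G} {r : F} (h : R.P u v r) : R.P v u (-r) := by
  obtain ⟨w, hw⟩ := h
  refine ⟨-w, ?_⟩
  rw [hw, R.c_neg, R.z_neg]
  have := R.z_cen w (R.cU r)
  calc v * u = v * u * (R.c r * R.z w * (R.z w * R.c r)⁻¹) * (R.z w * R.c r * (R.c r * R.z w)⁻¹) := by group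
    _ = v * u * (R.c r * R.z w) * ((R.z w * R.c r)⁻¹ * (R.z w * R.c r * (R.c r * R.z w)⁻¹)) := by group
    _ = v * u * (R.c r * R.z w) * ((R.c r * R.z w)⁻¹) := by rw [this]; group
    _ = v * u * (R.c r * R.z w) * ((R.z w * R.c r)⁻¹) := by rw [this]
    _ = v * u * (R.c r * R.z w) * ((R.c r)⁻¹ * (R.z w)⁻¹) := by group

include S hab in
theorem P_ker_left {u v : G} (hu : u ∈ U1 U a b) (hv : v ∈ U a) : R.P u v 0 := by
  obtain ⟨y, w, rfl⟩ := R.exists_of_U1 hu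
  obtain ⟨s, hs⟩ := R.exists_Q S hab y hv
  unfold Q at hs
  refine ⟨s, ?_⟩
  rw [R.c_zero, one_mul]
  have h1 := R.z_cen w hv
  have h2 := R.z_cen w (R.zU s)
  calc R.c y * R.z w * v = R.c y * (R.z w * v) := by group
    _ = (R.c y * v) * R.z w := by rw [h1]; group
    _ = v * R.c y * (R.z s * R.z w) := by rw [hs]; group
    _ = v * (R.c y * R.z w) * R.z s := by rw [← h2]; group

/-- The commutator map `U/U1 × U/U1 → E`. -/
theorem exists_alpha (S : Setup G Ω U n) (hab : a ≠ b) : ∃ α : F → F → F,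
    (∀ u ∈ U a, ∀ v ∈ U a, R.P u v (α (R.X u) (R.X v))) ∧
    (∀ x x' y, α (x + x') y = α x y + α x' y) ∧ (∀ x y, α x y = -α y x) ∧ (∀ x, α x x = 0) ∧
    (∀ x y, α (R.μ * x) (R.μ * y) = R.ν * α x y) := by
  choose s hsU hsX using R.X_surj
  choose α hα using fun x y => R.exists_P S hab (hsU x) (hsU y)
  have hsym : ∀ u ∈ U a, ∀ v ∈ U a, ∀ r, R.P u v r → R.P v u (-r) := fun u _ v _ r h => R.P_symm h
  -- dependence on the left argument
  have hleft : ∀ u ∈ U a, ∀ v ∈ U a, ∀ r, R.P (s (R.X u)) v r → R.P u v r := by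
    intro u hu v hv r h
    have hk : (s (R.X u))⁻¹ * u ∈ U1 U a b := by
      rw [← R.X_ker _ ((U a).mul_mem ((U a).inv_mem (hsU _)) hu), R.X_mul _ ((U a).inv_mem (hsU _)) _ hu,
        R.X_inv (hsU _), hsX, neg_add_cancel]
    have h1 := R.P_add_left S hab (U1_le_U hk) h (R.P_ker_left S hab hk hv)
    rw [add_zero, mul_inv_cancel_left] at h1
    exact h1
  have hmain : ∀ u ∈ U a, ∀ v ∈ U a, R.P u v (α (R.X u) (R.X v)) := by
    intro u hu v hv
    apply hleft u hu v hv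
    have h1 := hsym _ hv _ (hsU (R.X u)) _ (hleft v hv (s (R.X u)) (hsU _) _ (hsym _ (hsU _) _ (hsU _) _ (hα (R.X u) (R.X v))))
    rwa [neg_neg] at h1
  refine ⟨α, hmain, ?_, ?_, ?_, ?_⟩
  · intro x x' y
    have h1 := R.P_add_left S hab (hsU x') (hα x y) (hα x' y)
    have h2 := hmain _ ((U a).mul_mem (hsU x) (hsU x')) _ (hsU y)
    rw [R.X_mul _ (hsU x) _ (hsU x'), hsX, hsX, hsX] at h2
    exact R.P_unique S hab h2 h1
  · intro x y
    exact R.P_unique S hab (hα x y) (hsym _ (hsU y) _ (hsU x) _ (hα y x))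
  · intro x
    refine R.P_unique S hab (hα x x) ⟨0, ?_⟩
    rw [R.c_zero, R.z_zero, mul_one, mul_one]
  · intro x y
    obtain ⟨w, hw⟩ := hα x y
    have hgU : ∀ u ∈ U a, R.g * u * R.g⁻¹ ∈ U a := fun u hu => S.conj_U_stab (mem_HH.mp R.g_mem).1 hu
    have h1 : R.P (R.g * s x * R.g⁻¹) (R.g * s y * R.g⁻¹) (R.ν * α x y) := by
      refine ⟨R.l * w, ?_⟩
      rw [← R.g_c, ← R.g_z]
      calc R.g * s x * R.g⁻¹ * (R.g * s y * R.g⁻¹) = R.g * (s x * s y) * R.g⁻¹ := by group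
        _ = _ := by rw [hw]; group
    have h2 := hmain _ (hgU _ (hsU x)) _ (hgU _ (hsU y))
    rw [R.X_g _ (hsU x), R.X_g _ (hsU y), hsX, hsX] at h2
    exact R.P_unique S hab h2 h1

/-- The commutator map `E × U/U1 → ZZ`. -/
theorem exists_beta (S : Setup G Ω U n) (hab : a ≠ b) : ∃ β : F → F → F,
    (∀ y, ∀ u ∈ U a, R.Q y u (β y (R.X u))) ∧
    (∀ y y' x, β (y + y') x = β y x + β y' x) ∧ (∀ y x x', β y (x + x') = β y x + β y x') ∧
    (∀ y x, β (R.ν * y) (R.μ * x) = R.l * β y x) := by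
  choose s hsU hsX using R.X_surj
  choose β hβ using fun y x => R.exists_Q S hab y (hsU x)
  have hmain : ∀ y, ∀ u ∈ U a, R.Q y u (β y (R.X u)) := by
    intro y u hu
    have hk : (s (R.X u))⁻¹ * u ∈ U1 U a b := by
      rw [← R.X_ker _ ((U a).mul_mem ((U a).inv_mem (hsU _)) hu), R.X_mul _ ((U a).inv_mem (hsU _)) _ hu,
        R.X_inv (hsU _), hsX, neg_add_cancel]
    have h1 := R.Q_add_right (U1_le_U hk) (hβ y (R.X u)) (R.Q_ker S hab hk)
    rw [add_zero, mul_inv_cancel_left] at h1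
    exact h1
  refine ⟨β, hmain, ?_, ?_, ?_⟩
  · intro y y' x
    exact R.Q_unique (hβ _ _) (R.Q_add_left (hβ y x) (hβ y' x))
  · intro y x x'
    have h1 := R.Q_add_right (hsU x') (hβ y x) (hβ y x')
    have h2 := hmain y _ ((U a).mul_mem (hsU x) (hsU x'))
    rw [R.X_mul _ (hsU x) _ (hsU x'), hsX, hsX] at h2
    exact R.Q_unique h2 h1
  · intro y x
    have h1 := hβ y x
    unfold Q at h1
    have hgU : ∀ u ∈ U a, R.g * u * R.g⁻¹ ∈ U a := fun u hu => S.conj_U_stab (mem_HH.mp R.g_mem).1 hu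
    have h2 : R.Q (R.ν * y) (R.g * s x * R.g⁻¹) (R.l * β y x) := by
      unfold Q
      rw [← R.g_c, ← R.g_z]
      calc R.g * R.c y * R.g⁻¹ * (R.g * s x * R.g⁻¹) = R.g * (R.c y * s x) * R.g⁻¹ := by group
        _ = _ := by rw [h1]; group
    have h3 := hmain (R.ν * y) _ (hgU _ (hsU x))
    rw [R.X_g _ (hsU x), hsX] at h3
    exact R.Q_unique h3 h2

/-- The commutator `[[u, v], w]` in coordinates. -/
theorem comm_comm {α β : F → F → F} (hα : ∀ u ∈ U a, ∀ v ∈ U a, R.P u v (α (R.X u) (R.X v)))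
    (hβ : ∀ y, ∀ u ∈ U a, R.Q y u (β y (R.X u))) {u v w : G} (hu : u ∈ U a) (hv : v ∈ U a) (hw : w ∈ U a) :
    ((v * u)⁻¹ * (u * v))⁻¹ * w⁻¹ * ((v * u)⁻¹ * (u * v)) * w = R.z (β (α (R.X u) (R.X v)) (R.X w)) := by
  obtain ⟨r, hr⟩ := hα u hu v hv
  have h1 : (v * u)⁻¹ * (u * v) = R.c (α (R.X u) (R.X v)) * R.z r := by rw [hr]; group
  have h2 := hβ (α (R.X u) (R.X v)) w hw
  unfold Q at h2
  rw [h1]
  set cc := R.c (α (R.X u) (R.X v)) with hcc
  have h3 := R.z_cen r hw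
  have h4 := R.z_cen r (R.cU (α (R.X u) (R.X v)))
  rw [← hcc] at h4
  set zz := R.z (β (α (R.X u) (R.X v)) (R.X w)) with hzz
  have h5 := R.z_cen r (R.zU (β (α (R.X u) (R.X v)) (R.X w)))
  rw [← hzz] at h5
  calc (cc * R.z r)⁻¹ * w⁻¹ * (cc * R.z r) * w = (cc * R.z r)⁻¹ * w⁻¹ * cc * (R.z r * w) := by group
    _ = (cc * R.z r)⁻¹ * w⁻¹ * (cc * w) * R.z r := by rw [h3]; group
    _ = (cc * R.z r)⁻¹ * cc * (zz * R.z r) := by rw [h2]; group
    _ = (cc * R.z r)⁻¹ * (cc * R.z r) * zz := by rw [← h5]; group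
    _ = zz := by group

/-- The Jacobi identity. -/
theorem jacobi {α β : F → F → F} (hα : ∀ u ∈ U a, ∀ v ∈ U a, R.P u v (α (R.X u) (R.X v)))
    (hβ : ∀ y, ∀ u ∈ U a, R.Q y u (β y (R.X u))) (hα2 : ∀ x y, α x (-y) = -α x y) (hβ1 : ∀ y x, β (-y) x = -β y x)
    (x y w : F) : β (α x y) w + β (α y w) x + β (α w x) y = 0 := by
  obtain ⟨u, hu, rfl⟩ := R.X_surj x
  obtain ⟨v, hv, rfl⟩ := R.X_surj y
  obtain ⟨t, ht, rfl⟩ := R.X_surj w
  have h1 := R.comm_comm hα hβ hu ((U a).inv_mem hv) ht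
  have h2 := R.comm_comm hα hβ hv ((U a).inv_mem ht) hu
  have h3 := R.comm_comm hα hβ ht ((U a).inv_mem hu) hv
  rw [R.X_inv hv, hα2, hβ1] at h1
  rw [R.X_inv ht, hα2, hβ1] at h2
  rw [R.X_inv hu, hα2, hβ1] at h3
  have c1 := R.z_cen (-β (α (R.X u) (R.X v)) (R.X t)) hv
  have c2 := R.z_cen (-β (α (R.X v) (R.X t)) (R.X u)) ht
  have c3 := R.z_cen (-β (α (R.X t) (R.X u)) (R.X v)) hu
  have key : R.z (-β (α (R.X u) (R.X v)) (R.X t)) * R.z (-β (α (R.X v) (R.X t)) (R.X u)) *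
      R.z (-β (α (R.X t) (R.X u)) (R.X v)) = 1 := by
    have e1 : R.z (-β (α (R.X u) (R.X v)) (R.X t)) = v⁻¹ * R.z (-β (α (R.X u) (R.X v)) (R.X t)) * v := by
      rw [mul_assoc, c1]; group
    have e2 : R.z (-β (α (R.X v) (R.X t)) (R.X u)) = t⁻¹ * R.z (-β (α (R.X v) (R.X t)) (R.X u)) * t := by
      rw [mul_assoc, c2]; group
    have e3 : R.z (-β (α (R.X t) (R.X u)) (R.X v)) = u⁻¹ * R.z (-β (α (R.X t) (R.X u)) (R.X v)) * u := by
      rw [mul_assoc, c3]; group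
    rw [e1, e2, e3, ← h1, ← h2, ← h3]
    group
  rw [← R.z_mul, ← R.z_mul] at key
  have := R.z_one _ key
  linear_combination -this

end Raw

end Cfsg.Agent.ReeUniq
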