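import Cfsg.Agent.ReeUniq.Series2
import Cfsg.Agent.LieRecognition.HigmanTypeA

/-!
# S1149: coordinates on the three factors of `U`

`Raw` : coordinates in a field `F` with `q` elements of `U / U1`, `E`, `ZZ`, on which a generator of the torus acts as
multiplication by field elements.
-/

set_option autoImplicit false
set_option linter.unusedSectionVars false

namespace Cfsg.Agent.ReeUniq

open MulAction Cfsg.Agent.OddUThree

variable {G Ω : Type*} [Group G] [MulAction G Ω] {U : Ω → Subgroup G} {n : ℕ}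

theorem trans_of_free {V : Type*} [Group V] [Finite V] (f : V →* V) (hf : Function.Injective f)
    (hfree : ∀ v : V, v ≠ 1 → ∀ i : ℕ, (f^[i]) v = v → Nat.card V - 1 ∣ i) (v w : V) (hv : v ≠ 1) (hw : w ≠ 1) :
    ∃ i : ℕ, (f^[i]) v = w := by
  classical
  have hfi : ∀ i : ℕ, Function.Injective (f^[i]) := fun i => hf.iterate i
  have hf1 : ∀ i : ℕ, (f^[i]) 1 = 1 := by
    intro i
    induction i with
    | zero => rfl
    | succ n ih => rw [Function.iterate_succ_apply, map_one]; exact ih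
  have hc : Nat.card {v : V // v ≠ 1} = Nat.card V - 1 := by
    have h1 := Set.ncard_compl ({1} : Set V)
    rw [Set.ncard_singleton] at h1
    rw [← h1]
    rfl
  let g : Fin (Nat.card V - 1) → {v : V // v ≠ 1} := fun i => ⟨(f^[i.1]) v, fun h => hv (hfi i.1 (h.trans (hf1 _).symm))⟩
  have key : ∀ i j : Fin (Nat.card V - 1), i.1 ≤ j.1 → g i = g j → i = j := by
    intro i j hle h
    have h1 : (f^[i.1]) v = (f^[j.1]) v := congrArg Subtype.val h
    have h2 : (f^[i.1]) ((f^[j.1 - i.1]) v) = (f^[i.1]) v := by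
      rw [← Function.iterate_add_apply, Nat.add_sub_cancel' hle, ← h1]
    have h3 := hfree v hv _ (hfi _ h2)
    have h4 : j.1 - i.1 = 0 := Nat.eq_zero_of_dvd_of_lt h3 (by have := j.2; omega)
    exact Fin.ext (by omega)
  have hg : Function.Injective g := by
    intro i j h
    rcases Nat.le_total i.1 j.1 with hle | hle
    · exact key i j hle h
    · exact (key j i hle h.symm).symm
  have hb : Function.Bijective g := (Nat.bijective_iff_injective_and_card g).mpr ⟨hg, by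
    rw [hc, Nat.card_eq_fintype_card, Fintype.card_fin]⟩
  obtain ⟨i, hi⟩ := hb.2 ⟨w, hw⟩
  exact ⟨i.1, congrArg Subtype.val hi⟩

/-- Field coordinates. -/
theorem exists_coord {V : Type*} [Group V] [Finite V] [Nontrivial V] (hcomm : ∀ x y : V, x * y = y * x)
    (f : V →* V) (hf : Function.Injective f)
    (hfree : ∀ v : V, v ≠ 1 → ∀ i : ℕ, (f^[i]) v = v → Nat.card V - 1 ∣ i)
    (F : Type*) [Field F] [Finite F] (hF : Nat.card F = Nat.card V) :
    ∃ (e : V ≃* Multiplicative F) (l : F), (∀ v, (e (f v)).toAdd = l * (e v).toAdd) ∧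
      ∀ x : F, x ≠ 0 → ∃ i : ℕ, x = l ^ i := by
  have : Fintype F := Fintype.ofFinite F
  have htr := trans_of_free f hf hfree
  obtain ⟨e, l, he⟩ := LieRecognition.HigmanTypeA.exists_field_model' hcomm f hf htr F (by
    rw [← hF, Nat.card_eq_fintype_card])
  refine ⟨e, l, he, fun x hx => ?_⟩
  have hpow : ∀ (i : ℕ) (v : V), (e ((f^[i]) v)).toAdd = l ^ i * (e v).toAdd := by
    intro i
    induction i with
    | zero => intro v; simp
    | succ i ih => intro v; rw [Function.iterate_succ_apply', he, ih, pow_succ']; ring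
  have h1 : e.symm (Multiplicative.ofAdd (1 : F)) ≠ 1 := by
    intro h
    exact one_ne_zero (ofAdd_eq_one.mp ((MulEquiv.map_eq_one_iff e.symm).mp h))
  have h2 : e.symm (Multiplicative.ofAdd x) ≠ 1 := by
    intro h
    exact hx (ofAdd_eq_one.mp ((MulEquiv.map_eq_one_iff e.symm).mp h))
  obtain ⟨i, hi⟩ := htr _ _ h1 h2
  refine ⟨i, ?_⟩
  have h3 := hpow i (e.symm (Multiplicative.ofAdd (1 : F)))
  rw [hi, MulEquiv.apply_symm_apply, MulEquiv.apply_symm_apply, toAdd_ofAdd, toAdd_ofAdd, mul_one] at h3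
  exact h3

theorem exists_coord_sub {V : Subgroup G} {F : Type*} [Field F] (e : V ≃* Multiplicative F) (φ : V → V) (l : F)
    (he : ∀ v, (e (φ v)).toAdd = l * (e v).toAdd) :
    ∃ z : F → G, (∀ y, z y ∈ V) ∧ (∀ y y', z (y + y') = z y * z y') ∧ (∀ x ∈ V, ∃ y, z y = x) ∧
      (∀ y, z y = 1 → y = 0) ∧ ∀ y, ∃ hy : z y ∈ V, ((φ ⟨z y, hy⟩ : V) : G) = z (l * y) := by
  let z : F → G := fun y => (e.symm (Multiplicative.ofAdd y) : V)
  have hz : ∀ y, z y = (e.symm (Multiplicative.ofAdd y) : V) := fun _ => rfl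
  refine ⟨z, fun y => Subtype.mem _, fun y y' => ?_, fun x hx => ?_, fun y hy => ?_, fun y => ⟨Subtype.mem _, ?_⟩⟩
  · rw [hz, hz, hz, ofAdd_add, map_mul]; rfl
  · refine ⟨(e ⟨x, hx⟩).toAdd, ?_⟩
    rw [hz, ofAdd_toAdd, MulEquiv.symm_apply_apply]
  · have h1 : e.symm (Multiplicative.ofAdd y) = 1 := Subtype.ext hy
    exact ofAdd_eq_one.mp ((MulEquiv.map_eq_one_iff e.symm).mp h1)
  · have h1 := he (e.symm (Multiplicative.ofAdd y))
    rw [MulEquiv.apply_symm_apply, toAdd_ofAdd] at h1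
    rw [hz (l * y), ← h1, ofAdd_toAdd, MulEquiv.symm_apply_apply]

/-- Conjugation restricted to an invariant subgroup. -/
def conjRes (V : Subgroup G) (g : G) (hg : ∀ v ∈ V, g * v * g⁻¹ ∈ V) : V →* V where
  toFun v := ⟨g * v * g⁻¹, hg v v.2⟩
  map_one' := Subtype.ext (by simp)
  map_mul' x y := Subtype.ext (by simp)

theorem conjRes_apply {V : Subgroup G} {g : G} {hg : ∀ v ∈ V, g * v * g⁻¹ ∈ V} (v : V) :
    (conjRes V g hg v : G) = g * v * g⁻¹ := rfl

theorem conjRes_injective {V : Subgroup G} {g : G} {hg : ∀ v ∈ V, g * v * g⁻¹ ∈ V} :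
    Function.Injective (conjRes V g hg) := by
  intro x y h
  have h1 : g * (x : G) * g⁻¹ = g * y * g⁻¹ := congrArg Subtype.val h
  exact Subtype.ext (mul_left_cancel (mul_right_cancel h1))

theorem conjRes_iterate {V : Subgroup G} {g : G} {hg : ∀ v ∈ V, g * v * g⁻¹ ∈ V} (i : ℕ) (v : V) :
    (((conjRes V g hg)^[i]) v : G) = g ^ i * v * (g ^ i)⁻¹ := by
  induction i with
  | zero => simp
  | succ i ih =>
    rw [Function.iterate_succ_apply', conjRes_apply, ih, pow_succ']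
    group

/-- Coordinates on the three factors of `U a`. -/
structure Raw (U : Ω → Subgroup G) (a b : Ω) (F : Type*) [Field F] where
  g : G
  X : G → F
  c : F → G
  z : F → G
  μ : F
  ν : F
  l : F
  g_mem : g ∈ HH G a b
  gen : ∀ h ∈ HH G a b, ∃ i : ℕ, h = g ^ i
  X_mul : ∀ u ∈ U a, ∀ v ∈ U a, X (u * v) = X u + X v
  X_surj : ∀ x, ∃ u ∈ U a, X u = x
  X_ker : ∀ u ∈ U a, (X u = 0 ↔ u ∈ U1 U a b)
  X_g : ∀ u ∈ U a, X (g * u * g⁻¹) = μ * X u
  μ_gen : ∀ x : F, x ≠ 0 → ∃ i : ℕ, x = μ ^ i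
  c_mem : ∀ y, c y ∈ E U a b
  c_mul : ∀ y y', c (y + y') = c y * c y'
  c_surj : ∀ e ∈ E U a b, ∃ y, c y = e
  c_one : ∀ y, c y = 1 → y = 0
  g_c : ∀ y, g * c y * g⁻¹ = c (ν * y)
  z_mem : ∀ y, z y ∈ ZZ U a
  z_mul : ∀ y y', z (y + y') = z y * z y'
  z_surj : ∀ e ∈ ZZ U a, ∃ y, z y = e
  z_one : ∀ y, z y = 1 → y = 0
  g_z : ∀ y, g * z y * g⁻¹ = z (l * y)

namespace Setup

variable (S : Setup G Ω U n) [Finite G]
include S

theorem exists_gen {a b : Ω} (hab : a ≠ b) : ∃ g ∈ HH G a b, orderOf g = 3 ^ n - 1 ∧ ∀ h ∈ HH G a b, ∃ i : ℕ, h = g ^ i := by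
  have hcyc := S.cyc a b hab
  obtain ⟨g0, hg0⟩ := IsCyclic.exists_generator (α := ↥(HH G a b))
  refine ⟨g0, g0.2, ?_, fun h hh => ?_⟩
  · rw [Subgroup.orderOf_coe, orderOf_eq_card_of_forall_mem_zpowers hg0, S.cardH a b hab]
  · have h1 := hg0 ⟨h, hh⟩
    rw [← mem_powers_iff_mem_zpowers] at h1
    obtain ⟨i, hi⟩ := h1
    exact ⟨i, (congrArg Subtype.val hi).symm⟩

theorem pow_eq_one_iff {g : G} (ho : orderOf g = 3 ^ n - 1) {i : ℕ} : g ^ i = 1 ↔ 3 ^ n - 1 ∣ i := by
  rw [← ho]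
  exact ⟨orderOf_dvd_of_pow_eq_one, fun h => orderOf_dvd_iff_pow_eq_one.mp h⟩

theorem exists_coord_ZZ {a b : Ω} (hab : a ≠ b) {g : G} (hg : g ∈ HH G a b) (ho : orderOf g = 3 ^ n - 1)
    (F : Type*) [Field F] [Finite F] (hF : Nat.card F = 3 ^ n) :
    ∃ (z : F → G) (l : F), (∀ y, z y ∈ ZZ U a) ∧ (∀ y y', z (y + y') = z y * z y') ∧ (∀ e ∈ ZZ U a, ∃ y, z y = e) ∧
      (∀ y, z y = 1 → y = 0) ∧ (∀ y, g * z y * g⁻¹ = z (l * y)) := by
  have hcard := S.card_ZZ hab
  have : Nontrivial (ZZ U a) := by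
    rw [← Finite.one_lt_card_iff_nontrivial, hcard]; exact S.one_lt
  obtain ⟨e, l, he, -⟩ := exists_coord (V := ZZ U a) (fun x y => Subtype.ext (S.ZZ_comm x.2 y.2))
    (conjRes (ZZ U a) g ((S.inv_ZZ (b := b)).2 g hg)) conjRes_injective (by
      intro v hv i hi
      have h1 : g ^ i * (v : G) * (g ^ i)⁻¹ = v := by
        rw [← conjRes_iterate (hg := (S.inv_ZZ (b := b)).2 g hg), hi]
      rw [mul_inv_eq_iff_eq_mul] at h1
      rw [hcard, ← S.pow_eq_one_iff ho]
      by_contra hne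
      exact hv (Subtype.ext (S.free_ZZ hab ((HH G a b).pow_mem hg i) hne v.2 h1))) F (by rw [hF, hcard])
  obtain ⟨z, z1, z2, z3, z4, z5⟩ := exists_coord_sub e _ l he
  exact ⟨z, l, z1, z2, z3, z4, fun y => (z5 y).choose_spec⟩

theorem exists_coord_E {a b : Ω} (hab : a ≠ b) {g : G} (hg : g ∈ HH G a b) (ho : orderOf g = 3 ^ n - 1)
    (F : Type*) [Field F] [Finite F] (hF : Nat.card F = 3 ^ n) :
    ∃ (c : F → G) (ν : F), (∀ y, c y ∈ E U a b) ∧ (∀ y y', c (y + y') = c y * c y') ∧ (∀ e ∈ E U a b, ∃ y, c y = e) ∧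
      (∀ y, c y = 1 → y = 0) ∧ (∀ y, g * c y * g⁻¹ = c (ν * y)) := by
  have hcard := S.card_E hab
  have : Nontrivial (E U a b) := by
    rw [← Finite.one_lt_card_iff_nontrivial, hcard]; exact S.one_lt
  have hcomm : ∀ x y : E U a b, x * y = y * x := fun x y => Subtype.ext (S.E_comm hab x.2 y.2)
  have hginv := (S.inv_E hab).2 g hg
  let f : E U a b →* E U a b :=
    { toFun := fun v => (conjRes (E U a b) g hginv v)⁻¹
      map_one' := by rw [map_one, inv_one]
      map_mul' := fun x y => by rw [map_mul, mul_inv_rev, hcomm] }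
  have hfi : Function.Injective f := by
    intro x y h
    exact conjRes_injective (inv_injective h)
  have hinv3 : ∀ v : E U a b, v = v⁻¹ → v = 1 := by
    intro v hv
    have h3 := S.E_cube hab v.2
    have hv' : (v : G) = (v : G)⁻¹ := congrArg Subtype.val hv
    have h4 : (v : G) * v = 1 := by nth_rewrite 2 [hv']; exact mul_inv_cancel _
    rw [pow_succ, pow_two, h4, one_mul] at h3
    exact Subtype.ext h3
  have hf2 : ∀ (i : ℕ) (v : E U a b), (f^[i]) v = ((conjRes (E U a b) g hginv)^[i]) v ∧ Even i ∨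
      (f^[i]) v = (((conjRes (E U a b) g hginv)^[i]) v)⁻¹ ∧ Odd i := by
    intro i
    induction i with
    | zero => intro v; left; exact ⟨rfl, Even.zero⟩
    | succ i ih =>
      intro v
      rcases ih v with ⟨h, hi⟩ | ⟨h, hi⟩
      · right
        rw [Function.iterate_succ_apply', h, Function.iterate_succ_apply']
        exact ⟨rfl, hi.add_one⟩
      · left
        rw [Function.iterate_succ_apply', h, Function.iterate_succ_apply']
        refine ⟨?_, hi.add_one⟩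
        show (conjRes (E U a b) g hginv _)⁻¹ = _
        rw [map_inv, inv_inv]
  have hfixE : ∀ (i : ℕ) (v : E U a b), v ≠ 1 → ((conjRes (E U a b) g hginv)^[i]) v = v → g ^ (2 * i) = 1 := by
    intro i v hv hi
    have h1 : g ^ i * (v : G) * (g ^ i)⁻¹ = v := by
      rw [← conjRes_iterate (hg := hginv), hi]
    rw [mul_inv_eq_iff_eq_mul] at h1
    have hmem := (HH G a b).pow_mem hg i
    have h2 : g ^ i = 1 ∨ g ^ i = jj G a b := by
      by_contra hcon
      push Not at hcon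
      exact hv (Subtype.ext (S.fpf' hab hmem hcon.1 hcon.2 (E_le_U v.2) h1))
    rw [mul_comm, pow_mul, pow_two]
    rcases h2 with h2 | h2
    · rw [h2, one_mul]
    · rw [h2, S.jj_mul_self hab]
  have hq := S.qmod
  obtain ⟨e, κ, he, -⟩ := exists_coord (V := E U a b) hcomm f hfi (by
    intro v hv i hi
    rw [hcard]
    rcases hf2 i v with ⟨h, hev⟩ | ⟨h, hod⟩
    · rw [h] at hi
      have h1 := hfixE i v hv hi
      rw [S.pow_eq_one_iff ho] at h1
      -- `i` even and `q - 1 ∣ 2 i`, `q - 1 = 2 m`, `m` odd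
      obtain ⟨r, hr⟩ := hev
      obtain ⟨m, hm, hmo⟩ : ∃ m, 3 ^ n - 1 = 2 * m ∧ Odd m := by
        refine ⟨(3 ^ n - 1) / 2, by omega, ?_⟩
        rw [Nat.odd_iff]; omega
      rw [hm] at h1 ⊢
      have h2 : m ∣ i := Nat.dvd_of_mul_dvd_mul_left (by norm_num) h1
      have h3 : 2 ∣ i := ⟨r, by omega⟩
      exact Nat.Coprime.mul_dvd_of_dvd_of_dvd (Nat.coprime_two_left.mpr hmo) h3 h2
    · exfalso
      rw [h] at hi
      have h0 : ((conjRes (E U a b) g hginv)^[i]) v = v⁻¹ := inv_eq_iff_eq_inv.mp hi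
      have h1 : ((conjRes (E U a b) g hginv)^[2 * i]) v = v := by
        rw [two_mul, Function.iterate_add_apply, h0]
        have : ∀ (k : ℕ) (w : E U a b), ((conjRes (E U a b) g hginv)^[k]) w⁻¹ = (((conjRes (E U a b) g hginv)^[k]) w)⁻¹ := by
          intro k
          induction k with
          | zero => intro w; rfl
          | succ k ih => intro w; rw [Function.iterate_succ_apply, map_inv, ih, Function.iterate_succ_apply]
        rw [this, h0, inv_inv]
      have h2 := hfixE _ v hv h1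
      rw [S.pow_eq_one_iff ho] at h2
      obtain ⟨m, hm, hmo⟩ : ∃ m, 3 ^ n - 1 = 2 * m ∧ Odd m := by
        refine ⟨(3 ^ n - 1) / 2, by omega, ?_⟩
        rw [Nat.odd_iff]; omega
      rw [hm] at h2
      have h3 : m ∣ 2 * i := Nat.dvd_of_mul_dvd_mul_left (by norm_num) h2
      have h4 : m ∣ i := (Nat.Coprime.dvd_mul_left (Nat.coprime_two_right.mpr hmo)).mp h3
      -- `i = m k`, `k` odd, so `g ^ i = g ^ m` squares to one: it centralises `v`
      have h5 : g ^ i * g ^ i = 1 := by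
        rw [← pow_add, S.pow_eq_one_iff ho, hm, ← two_mul]
        exact mul_dvd_mul_left 2 h4
      have hmem := (HH G a b).pow_mem hg i
      have h6 : g ^ i * (v : G) = v * g ^ i := by
        by_cases h7 : g ^ i = 1
        · rw [h7, one_mul, mul_one]
        · rw [S.eq_jj hab hmem h7 h5]
          exact (mem_E.mp v.2).2
      have h7 : (v : G) = (v : G)⁻¹ := by
        have h8 : g ^ i * (v : G) * (g ^ i)⁻¹ = (v : G)⁻¹ := by
          rw [← conjRes_iterate (hg := hginv), h0]; rfl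
        rw [h6, mul_inv_cancel_right] at h8
        exact h8
      exact hv (hinv3 v (Subtype.ext h7))) F (by rw [hF, hcard])
  obtain ⟨c, c1, c2, c3, c4, c5⟩ := exists_coord_sub e (conjRes (E U a b) g hginv) (-κ) (by
    intro v
    have h1 := he v
    have h2 : f v = (conjRes (E U a b) g hginv v)⁻¹ := rfl
    rw [h2, map_inv, toAdd_inv] at h1
    rw [neg_mul, ← h1, neg_neg])
  exact ⟨c, -κ, c1, c2, c3, c4, fun y => (c5 y).choose_spec⟩

theorem exists_coord_X {a b : Ω} (hab : a ≠ b) {g : G} (hg : g ∈ HH G a b) (ho : orderOf g = 3 ^ n - 1)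
    (F : Type*) [Field F] [Finite F] (hF : Nat.card F = 3 ^ n) :
    ∃ (X : G → F) (μ : F), (∀ u ∈ U a, ∀ v ∈ U a, X (u * v) = X u + X v) ∧ (∀ x, ∃ u ∈ U a, X u = x) ∧
      (∀ u ∈ U a, (X u = 0 ↔ u ∈ U1 U a b)) ∧ (∀ u ∈ U a, X (g * u * g⁻¹) = μ * X u) ∧
      (∀ x : F, x ≠ 0 → ∃ i : ℕ, x = μ ^ i) := by
  classical
  set N : Subgroup (U a) := (U1 U a b).subgroupOf (U a) with hN
  have hNn : N.Normal := ⟨fun x hx k => by
    rw [hN, Subgroup.mem_subgroupOf] at *
    exact S.U1_normal hab k k.2 x hx⟩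
  have hmemN : ∀ u : U a, u ∈ N ↔ (u : G) ∈ U1 U a b := fun u => Subgroup.mem_subgroupOf
  have hcard : Nat.card (U a ⧸ N) = 3 ^ n := by
    have h1 := Subgroup.card_eq_card_quotient_mul_card_subgroup N
    have h2 : Nat.card N = 3 ^ (n * 2) := by
      rw [← S.card_U1 hab]
      exact Nat.card_congr (Subgroup.subgroupOfEquivOfLe (U1_le_U (U := U) (a := a) (b := b))).toEquiv
    rw [h2, S.cardU a] at h1
    have h3 : 3 ^ (3 * n) = 3 ^ n * 3 ^ (n * 2) := by rw [← pow_add]; congr 1; ring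
    rw [h3] at h1
    exact (Nat.eq_of_mul_eq_mul_right (by positivity) h1).symm
  have : Nontrivial (U a ⧸ N) := by
    rw [← Finite.one_lt_card_iff_nontrivial, hcard]; exact S.one_lt
  have hgU : ∀ v ∈ U a, g * v * g⁻¹ ∈ U a := fun v hv => S.conj_U_stab (mem_HH.mp hg).1 hv
  have hle : N ≤ N.comap (conjRes (U a) g hgU) := by
    intro x hx
    rw [Subgroup.mem_comap, hmemN]
    exact (S.inv_U1 hab).2 g hg x ((hmemN x).mp hx)
  let f : (U a ⧸ N) →* (U a ⧸ N) := QuotientGroup.map N N (conjRes (U a) g hgU) hle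
  have hfmk : ∀ u : U a, f (QuotientGroup.mk u) = QuotientGroup.mk (conjRes (U a) g hgU u) := fun u => rfl
  have hfmk' : ∀ (i : ℕ) (u : U a), (f^[i]) (QuotientGroup.mk u) = QuotientGroup.mk (((conjRes (U a) g hgU)^[i]) u) := by
    intro i
    induction i with
    | zero => intro u; rfl
    | succ i ih => intro u; rw [Function.iterate_succ_apply', ih, hfmk, Function.iterate_succ_apply']
  have hmk1 : ∀ u : U a, (QuotientGroup.mk u : U a ⧸ N) = 1 ↔ (u : G) ∈ U1 U a b := fun u => by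
    rw [QuotientGroup.eq_one_iff, hmemN]
  have hfree : ∀ v : U a ⧸ N, v ≠ 1 → ∀ i : ℕ, (f^[i]) v = v → Nat.card (U a ⧸ N) - 1 ∣ i := by
    intro v hv i hi
    obtain ⟨u, rfl⟩ := QuotientGroup.mk_surjective v
    rw [hfmk'] at hi
    rw [hcard, ← S.pow_eq_one_iff ho]
    by_contra hne
    apply hv
    rw [hmk1]
    refine S.free_U1 hab ((HH G a b).pow_mem hg i) hne u.2 ?_
    have h1 : (QuotientGroup.mk (((conjRes (U a) g hgU)^[i]) u * u⁻¹) : U a ⧸ N) = 1 := by
      rw [QuotientGroup.mk_mul, hi, QuotientGroup.mk_inv, mul_inv_cancel]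
    rw [hmk1] at h1
    have h2 : ((((conjRes (U a) g hgU)^[i]) u * u⁻¹ : U a) : G) = g ^ i * u * (g ^ i)⁻¹ * (u : G)⁻¹ := by
      rw [Subgroup.coe_mul, conjRes_iterate, Subgroup.coe_inv]
    rw [h2] at h1
    exact h1
  have hfi : Function.Injective f := by
    rw [injective_iff_map_eq_one]
    intro v hv
    by_contra hne
    obtain ⟨u, rfl⟩ := QuotientGroup.mk_surjective v
    rw [hfmk, hmk1] at hv
    apply hne
    rw [hmk1]
    have := (S.inv_U1 hab).2 g⁻¹ ((HH G a b).inv_mem hg) _ hv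
    rw [conjRes_apply] at this
    have e : g⁻¹ * (g * (u : G) * g⁻¹) * g⁻¹⁻¹ = u := by group
    rwa [e] at this
  have hcomm : ∀ x y : U a ⧸ N, x * y = y * x := by
    intro x y
    obtain ⟨u, rfl⟩ := QuotientGroup.mk_surjective x
    obtain ⟨v, rfl⟩ := QuotientGroup.mk_surjective y
    have h1 : (QuotientGroup.mk (u * v * u⁻¹ * v⁻¹) : U a ⧸ N) = 1 := by
      rw [hmk1]
      exact S.comm_mem_U1 hab u.2 v.2
    rw [QuotientGroup.mk_mul, QuotientGroup.mk_mul, QuotientGroup.mk_mul, QuotientGroup.mk_inv, QuotientGroup.mk_inv,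
      mul_inv_eq_one, mul_inv_eq_iff_eq_mul] at h1
    exact h1
  obtain ⟨e, μ, he, hμ⟩ := exists_coord hcomm f hfi hfree F (by rw [hF, hcard])
  let X : G → F := fun u => if h : u ∈ U a then (e (QuotientGroup.mk ⟨u, h⟩)).toAdd else 0
  have hX : ∀ u : U a, X u = (e (QuotientGroup.mk u)).toAdd := fun u => by
    simp only [X, dif_pos u.2, Subtype.coe_eta]
  refine ⟨X, μ, ?_, ?_, ?_, ?_, hμ⟩
  · intro u hu v hv
    have h1 := hX (⟨u, hu⟩ * ⟨v, hv⟩)
    rw [QuotientGroup.mk_mul, map_mul, toAdd_mul, ← hX, ← hX] at h1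
    exact h1
  · intro x
    obtain ⟨u, hu⟩ := QuotientGroup.mk_surjective (e.symm (Multiplicative.ofAdd x))
    refine ⟨u, u.2, ?_⟩
    rw [hX, hu, MulEquiv.apply_symm_apply, toAdd_ofAdd]
  · intro u hu
    have h1 := hX ⟨u, hu⟩
    have h1' : X u = (e (QuotientGroup.mk ⟨u, hu⟩)).toAdd := h1
    rw [h1', ← hmk1 ⟨u, hu⟩, ← e.map_eq_one_iff]
    exact Iff.rfl
  · intro u hu
    have h1 := he (QuotientGroup.mk ⟨u, hu⟩)
    rw [hfmk, ← hX, ← hX, conjRes_apply] at h1
    exact h1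

/-- Existence of coordinates. -/
theorem exists_raw {a b : Ω} (hab : a ≠ b) (F : Type*) [Field F] [Finite F] (hF : Nat.card F = 3 ^ n) :
    ∃ R : Raw U a b F, orderOf R.g = 3 ^ n - 1 := by
  obtain ⟨g, hg, ho, hgen⟩ := S.exists_gen hab
  obtain ⟨X, μ, x1, x2, x3, x4, x5⟩ := S.exists_coord_X hab hg ho F hF
  obtain ⟨c, ν, c1, c2, c3, c4, c5⟩ := S.exists_coord_E hab hg ho F hF
  obtain ⟨z, l, z1, z2, z3, z4, z5⟩ := S.exists_coord_ZZ hab hg ho F hF
  exact ⟨⟨g, X, c, z, μ, ν, l, hg, hgen, x1, x2, x3, x4, x5, c1, c2, c3, c4, c5, z1, z2, z3, z4, z5⟩, ho⟩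

end Setup

end Cfsg.Agent.ReeUniq
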