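/-
The group `PΓL(2, 8)`: a set of relations, the normal form of the elements, and the transfer of all relations which
hold for the explicit permutations of the projective line over the field with eight elements.
-/
import Mathlib

set_option autoImplicit false

namespace Cfsg.Agent.ReeUniq.PGamma

open Equiv

/-- Relations of `PΓL(2, 8)`, acting on the projective line: `t : v ↦ v + 1`, `r : v ↦ ω v` (`ω ^ 3 = ω + 1`),
`i : v ↦ 1 / v`, `x : v ↦ v ^ 2`. -/
structure PGam {G : Type*} [Group G] (t r i x : G) : Prop where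
  tt : t * t = 1
  rr : r ^ 7 = 1
  ii : i * i = 1
  xx : x ^ 3 = 1
  xr : x * r = r ^ 2 * x
  ir : i * r = r ^ 6 * i
  iti : i * t * i = t * i * t
  add : r ^ 3 * t * r ^ 4 = r * t * r ^ 6 * t
  xt : x * t = t * x
  xi : x * i = i * x

namespace PGam

variable {G : Type*} [Group G] {t r i x : G} (P : PGam t r i x)

/-- the translation `v ↦ v + ω ^ k` -/
def s (t r : G) (k : ℕ) : G := r ^ k * t * (r ^ k)⁻¹

omit P in
theorem s_zero : s t r 0 = t := by rw [s]; simp

include P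

theorem r_inv : r⁻¹ = r ^ 6 := by
  rw [inv_eq_iff_mul_eq_one, ← pow_succ', P.rr]

theorem i_inv : i⁻¹ = i := inv_eq_of_mul_eq_one_left P.ii

theorem t_inv : t⁻¹ = t := inv_eq_of_mul_eq_one_left P.tt

theorem x_inv : x⁻¹ = x ^ 2 := by
  rw [inv_eq_iff_mul_eq_one, ← pow_succ', P.xx]

theorem pow_mod (k : ℕ) : r ^ (k % 7) = r ^ k := by
  conv_rhs => rw [← Nat.div_add_mod k 7, pow_add, pow_mul, P.rr, one_pow, one_mul]

theorem s_mod (k : ℕ) : s t r (k % 7) = s t r k := by
  rw [s, s, P.pow_mod]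

omit P in
theorem r_conj_s (a k : ℕ) : r ^ a * s t r k * (r ^ a)⁻¹ = s t r (a + k) := by
  rw [s, s, pow_add]; group

theorem s_sq (k : ℕ) : s t r k * s t r k = 1 := by
  rw [s]
  calc r ^ k * t * (r ^ k)⁻¹ * (r ^ k * t * (r ^ k)⁻¹) = r ^ k * (t * t) * (r ^ k)⁻¹ := by group
    _ = 1 := by rw [P.tt]; group

theorem s_three : s t r 3 = s t r 1 * t := by
  have h := P.add
  rw [s, s, pow_one, P.r_inv, show (r ^ 3)⁻¹ = r ^ 4 by rw [inv_eq_iff_mul_eq_one, ← pow_add, P.rr]]
  exact h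

theorem x_s (k : ℕ) : x * s t r k * x⁻¹ = s t r (2 * k) := by
  have h1 : ∀ k : ℕ, x * r ^ k * x⁻¹ = r ^ (2 * k) := by
    intro k
    have : x * r * x⁻¹ = r ^ 2 := by rw [P.xr]; group
    calc x * r ^ k * x⁻¹ = (x * r * x⁻¹) ^ k := by rw [conj_pow]
      _ = _ := by rw [this, ← pow_mul]
  rw [s, s]
  calc x * (r ^ k * t * (r ^ k)⁻¹) * x⁻¹ = (x * r ^ k * x⁻¹) * (x * t * x⁻¹) * (x * r ^ k * x⁻¹)⁻¹ := by group
    _ = _ := by
      rw [h1, show x * t * x⁻¹ = t by rw [P.xt]; group]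

theorem comm (k : ℕ) : s t r k * t = t * s t r k := by
  -- `s_1` commutes with `t` since `s_3` is an involution
  have key : ∀ {a b : G}, a * a = 1 → b * b = 1 → (a * b) * (a * b) = 1 → a * b = b * a := by
    intro a b ha hb hab
    calc a * b = a * (a * b * (a * b)) * b := by rw [hab]; group
      _ = (a * a) * (b * a) * (b * b) := by group
      _ = b * a := by rw [ha, hb]; group
  have h1 : s t r 1 * t = t * s t r 1 := by
    apply key (P.s_sq 1) P.tt
    rw [← P.s_three]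
    exact P.s_sq 3
  have hx : ∀ k, s t r k * t = t * s t r k → s t r (2 * k) * t = t * s t r (2 * k) := by
    intro k hk
    rw [← P.x_s k]
    have hxt : x * t * x⁻¹ = t := by rw [P.xt]; group
    calc x * s t r k * x⁻¹ * t = x * s t r k * x⁻¹ * (x * t * x⁻¹) := by rw [hxt]
      _ = x * (s t r k * t) * x⁻¹ := by group
      _ = x * (t * s t r k) * x⁻¹ := by rw [hk]
      _ = (x * t * x⁻¹) * (x * s t r k * x⁻¹) := by group
      _ = _ := by rw [hxt]
  have h2 := hx 1 h1
  have h4 := hx 2 h2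
  have h3 : s t r 3 * t = t * s t r 3 := by
    rw [P.s_three, mul_assoc, P.tt, mul_one, h1, ← mul_assoc, P.tt, one_mul]
  have h6 := hx 3 h3
  have h5 : s t r 5 * t = t * s t r 5 := by
    have := hx 6 h6
    rwa [← P.s_mod (2 * 6)] at this
  rw [← P.s_mod k]
  have : k % 7 < 7 := Nat.mod_lt _ (by norm_num)
  interval_cases k % 7
  · rw [s_zero]
  · exact h1
  · exact h2
  · exact h3
  · exact h4
  · exact h5
  · exact h6

/-- the translations -/
def T (t r : G) : Set G := {g | g = 1 ∨ ∃ k, g = s t r k}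

theorem s_mul_t (k : ℕ) : s t r k * t ∈ T t r := by
  have h3 := P.s_three
  have h1t : s t r 3 * t = s t r 1 := by rw [h3, mul_assoc, P.tt, mul_one]
  have hx : ∀ k l, s t r k * t = s t r l → s t r (2 * k) * t = s t r (2 * l) := by
    intro k l hk
    have hxt : x * t * x⁻¹ = t := by rw [P.xt]; group
    rw [← P.x_s k, ← P.x_s l, ← hk]
    calc x * s t r k * x⁻¹ * t = x * s t r k * x⁻¹ * (x * t * x⁻¹) := by rw [hxt]
      _ = _ := by group
  rw [← P.s_mod k]
  have : k % 7 < 7 := Nat.mod_lt _ (by norm_num)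
  interval_cases k % 7
  · left; rw [s_zero, P.tt]
  · right; exact ⟨3, h3.symm⟩
  · right; exact ⟨6, hx 1 3 h3.symm⟩
  · right; exact ⟨1, h1t⟩
  · right; exact ⟨12, hx 2 6 (hx 1 3 h3.symm)⟩
  · right; refine ⟨4, ?_⟩
    rw [← P.s_mod 4, ← P.s_mod 5]
    have := hx 6 2 (hx 3 1 h1t)
    rw [← P.s_mod (2 * 6)] at this
    exact this
  · right; exact ⟨2, hx 3 1 h1t⟩

omit P in
theorem T_conj {g : G} (hg : g ∈ T t r) (a : ℕ) : r ^ a * g * (r ^ a)⁻¹ ∈ T t r := by
  rcases hg with rfl | ⟨k, rfl⟩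
  · left; group
  · right; exact ⟨a + k, r_conj_s a k⟩

theorem T_mul_s {g : G} (hg : g ∈ T t r) (a : ℕ) : g * s t r a ∈ T t r := by
  have ha : r ^ a = r ^ (a % 7) := (P.pow_mod a).symm
  have hlt : a % 7 < 7 := Nat.mod_lt _ (by norm_num)
  have hinv : (r ^ a)⁻¹ = r ^ (7 - a % 7) := by
    rw [inv_eq_iff_mul_eq_one, ha, ← pow_add, show a % 7 + (7 - a % 7) = 7 by omega, P.rr]
  have h1 : r ^ (7 - a % 7) * g * (r ^ (7 - a % 7))⁻¹ ∈ T t r := T_conj hg _
  have h2 : r ^ (7 - a % 7) * g * (r ^ (7 - a % 7))⁻¹ * t ∈ T t r := by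
    rcases h1 with h | ⟨k, h⟩
    · rw [h]; right; exact ⟨0, by rw [s_zero, one_mul]⟩
    · rw [h]; exact P.s_mul_t k
  have h3 := T_conj h2 a
  have : r ^ a * (r ^ (7 - a % 7) * g * (r ^ (7 - a % 7))⁻¹ * t) * (r ^ a)⁻¹ = g * s t r a := by
    rw [← hinv, s]; group
  rwa [this] at h3

/-- the normal forms of the elements of the stabiliser of `∞` -/
def NF (t r x : G) : Set G := {g | ∃ s ∈ T t r, ∃ a b : ℕ, a < 7 ∧ b < 3 ∧ g = s * r ^ a * x ^ b}

theorem NF_mk {g : G} (hg : g ∈ T t r) (a b : ℕ) : g * r ^ a * x ^ b ∈ NF t r x := by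
  refine ⟨g, hg, a % 7, b % 3, Nat.mod_lt _ (by norm_num), Nat.mod_lt _ (by norm_num), ?_⟩
  rw [P.pow_mod]
  congr 1
  conv_lhs => rw [← Nat.div_add_mod b 3, pow_add, pow_mul, P.xx, one_pow, one_mul]

theorem NF_t {g : G} (hg : g ∈ NF t r x) : g * t ∈ NF t r x := by
  obtain ⟨s', hs, a, b, -, -, rfl⟩ := hg
  have hxt : x ^ b * t = t * x ^ b := ((Commute.pow_left (show Commute x t from P.xt)) b)
  have : s' * r ^ a * x ^ b * t = (s' * s t r a) * r ^ a * x ^ b := by
    rw [s]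
    calc s' * r ^ a * x ^ b * t = s' * r ^ a * (x ^ b * t) := by group
      _ = s' * r ^ a * (t * x ^ b) := by rw [hxt]
      _ = _ := by group
  rw [this]
  exact P.NF_mk (P.T_mul_s hs a) a b

theorem x_r_pow (b a : ℕ) : x ^ b * r ^ a = r ^ (2 ^ b * a) * x ^ b := by
  have h1 : ∀ k : ℕ, x * r ^ k = r ^ (2 * k) * x := by
    intro k
    have : x * r * x⁻¹ = r ^ 2 := by rw [P.xr]; group
    calc x * r ^ k = (x * r ^ k * x⁻¹) * x := by group
      _ = (x * r * x⁻¹) ^ k * x := by rw [conj_pow]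
      _ = _ := by rw [this, ← pow_mul]
  induction b with
  | zero => simp
  | succ b ih =>
    calc x ^ (b + 1) * r ^ a = x * (x ^ b * r ^ a) := by rw [pow_succ']; group
      _ = x * (r ^ (2 ^ b * a) * x ^ b) := by rw [ih]
      _ = (x * r ^ (2 ^ b * a)) * x ^ b := by group
      _ = r ^ (2 * (2 ^ b * a)) * x * x ^ b := by rw [h1]
      _ = _ := by rw [pow_succ' 2 b, mul_assoc, ← pow_succ' x b, mul_assoc 2]

theorem NF_r {g : G} (hg : g ∈ NF t r x) : g * r ∈ NF t r x := by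
  obtain ⟨s', hs, a, b, -, -, rfl⟩ := hg
  have h := P.x_r_pow b 1
  rw [pow_one, mul_one] at h
  have : s' * r ^ a * x ^ b * r = s' * r ^ (a + 2 ^ b) * x ^ b := by
    rw [pow_add]
    calc s' * r ^ a * x ^ b * r = s' * r ^ a * (x ^ b * r) := by group
      _ = _ := by rw [h]; group
  rw [this]
  exact P.NF_mk hs _ _

theorem NF_x {g : G} (hg : g ∈ NF t r x) : g * x ∈ NF t r x := by
  obtain ⟨s', hs, a, b, -, -, rfl⟩ := hg
  have : s' * r ^ a * x ^ b * x = s' * r ^ a * x ^ (b + 1) := by rw [pow_succ]; group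
  rw [this]
  exact P.NF_mk hs _ _

omit P in
theorem NF_one : (1 : G) ∈ NF t r x := ⟨1, Or.inl rfl, 0, 0, by norm_num, by norm_num, by simp⟩

theorem NF_r_pow {g : G} (hg : g ∈ NF t r x) (k : ℕ) : g * r ^ k ∈ NF t r x := by
  induction k with
  | zero => simpa using hg
  | succ k ih =>
    rw [pow_succ, ← mul_assoc]
    exact P.NF_r ih

/-- all the normal forms -/
def NG (t r i x : G) : Set G := {g | g ∈ NF t r x ∨ ∃ n ∈ NF t r x, ∃ s ∈ T t r, g = n * i * s}

theorem NG_t {g : G} (hg : g ∈ NG t r i x) : g * t ∈ NG t r i x := by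
  rcases hg with hg | ⟨n, hn, s', hs, rfl⟩
  · left; exact P.NF_t hg
  · right
    refine ⟨n, hn, s' * t, ?_, by group⟩
    have := P.T_mul_s hs 0
    rwa [s_zero] at this

theorem i_r_pow (k : ℕ) : i * r ^ k = r ^ (6 * k) * i := by
  have : i * r * i⁻¹ = r ^ 6 := by rw [P.ir]; group
  calc i * r ^ k = (i * r ^ k * i⁻¹) * i := by group
    _ = (i * r * i⁻¹) ^ k * i := by rw [conj_pow]
    _ = _ := by rw [this, ← pow_mul]

theorem NG_r {g : G} (hg : g ∈ NG t r i x) : g * r ∈ NG t r i x := by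
  rcases hg with hg | ⟨n, hn, s', hs, rfl⟩
  · left; exact P.NF_r hg
  · right
    refine ⟨n * r ^ 6, P.NF_r_pow hn 6, r ^ 6 * s' * (r ^ 6)⁻¹, T_conj hs 6, ?_⟩
    have h6 : r⁻¹ = r ^ 6 := P.r_inv
    calc n * i * s' * r = n * (i * r) * (r⁻¹ * s' * r⁻¹⁻¹) := by group
      _ = n * (r ^ 6 * i) * (r ^ 6 * s' * (r ^ 6)⁻¹) := by rw [P.ir, h6]
      _ = _ := by group

theorem NG_x {g : G} (hg : g ∈ NG t r i x) : g * x ∈ NG t r i x := by
  rcases hg with hg | ⟨n, hn, s', hs, rfl⟩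
  · left; exact P.NF_x hg
  · right
    refine ⟨n * x, P.NF_x hn, x⁻¹ * s' * x, ?_, ?_⟩
    · rcases hs with rfl | ⟨k, rfl⟩
      · left; group
      · right
        refine ⟨4 * k, ?_⟩
        have := P.x_s (4 * k)
        rw [← P.s_mod (2 * (4 * k)), show 2 * (4 * k) % 7 = k % 7 by omega, P.s_mod k] at this
        rw [← this]; group
    · calc n * i * s' * x = n * (i * x) * (x⁻¹ * s' * x) := by group
        _ = n * (x * i) * (x⁻¹ * s' * x) := by rw [P.xi]
        _ = _ := by group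

theorem NG_i {g : G} (hg : g ∈ NG t r i x) : g * i ∈ NG t r i x := by
  rcases hg with hg | ⟨n, hn, s', hs, rfl⟩
  · right; exact ⟨g, hg, 1, Or.inl rfl, by rw [mul_one]⟩
  · rcases hs with rfl | ⟨k, rfl⟩
    · left
      rw [mul_one, mul_assoc, P.ii, mul_one]; exact hn
    · right
      have h1 : ∀ k, (r ^ k)⁻¹ = r ^ (6 * k) := by
        intro k
        rw [← inv_pow, P.r_inv, ← pow_mul]
      refine ⟨n * r ^ (6 * k) * t * r ^ (6 * k), P.NF_r_pow (P.NF_t (P.NF_r_pow hn _)) _,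
        s t r (6 * k), Or.inr ⟨_, rfl⟩, ?_⟩
      have h2 : (r ^ k)⁻¹ * i = i * r ^ k := by rw [h1, ← P.i_r_pow]
      have h3 : i * r ^ k * t * i * t = (r ^ k)⁻¹ * t * i := by
        calc i * r ^ k * t * i * t = (r ^ k)⁻¹ * (i * t * i) * t := by rw [← h2]; group
          _ = (r ^ k)⁻¹ * t * i * (t * t) := by rw [P.iti]; group
          _ = _ := by rw [P.tt]; group
      have h4 : i * t * (r ^ k)⁻¹ * i = t * i * t * r ^ k := by
        calc i * t * (r ^ k)⁻¹ * i = i * t * ((r ^ k)⁻¹ * i) := by group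
          _ = i * t * (i * r ^ k) := by rw [h2]
          _ = (i * t * i) * r ^ k := by group
          _ = _ := by rw [P.iti]
      have h5 : i * r ^ k = r ^ (6 * k) * i := P.i_r_pow k
      calc n * i * s t r k * i = n * (i * r ^ k) * t * (r ^ k)⁻¹ * i := by rw [s]; group
        _ = n * r ^ (6 * k) * (i * t * (r ^ k)⁻¹ * i) := by rw [h5]; group
        _ = n * r ^ (6 * k) * (t * i * t * r ^ k) := by rw [h4]
        _ = n * r ^ (6 * k) * t * (i * r ^ k) * ((r ^ k)⁻¹ * t * r ^ k) := by group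
        _ = n * r ^ (6 * k) * t * (r ^ (6 * k) * i) * ((r ^ k)⁻¹ * t * r ^ k) := by rw [h5]
        _ = _ := by
          rw [s, ← h1]; group

/-- every element of the generated group has a normal form -/
theorem mem_NG {g : G} (hg : g ∈ Subgroup.closure {t, r, i, x}) : g ∈ NG t r i x := by
  induction hg using Subgroup.closure_induction_right with
  | one => exact Or.inl NF_one
  | mul_right g _ y hy hg =>
    simp only [Set.mem_insert_iff, Set.mem_singleton_iff] at hy
    rcases hy with rfl | rfl | rfl | rfl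
    · exact P.NG_t hg
    · exact P.NG_r hg
    · exact P.NG_i hg
    · exact P.NG_x hg
  | mul_inv_cancel g _ y hy hg =>
    simp only [Set.mem_insert_iff, Set.mem_singleton_iff] at hy
    rcases hy with rfl | rfl | rfl | rfl
    · rw [P.t_inv]; exact P.NG_t hg
    · rw [P.r_inv]
      have : ∀ k : ℕ, g * y ^ k ∈ NG t y i x := by
        intro k
        induction k with
        | zero => simpa using hg
        | succ k ih => rw [pow_succ, ← mul_assoc]; exact P.NG_r ih
      exact this 6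
    · rw [P.i_inv]; exact P.NG_i hg
    · rw [P.x_inv, pow_two, ← mul_assoc]
      exact P.NG_x (P.NG_x hg)

end PGam

/-! ### The permutations

Points: `8 = ∞`, `7 = 0`, `k = ω ^ k` for `k < 7`. -/

/-- `v ↦ v + 1` -/
def pT : Perm (Fin 9) :=
  ⟨![7, 3, 6, 1, 5, 4, 2, 0, 8], ![7, 3, 6, 1, 5, 4, 2, 0, 8], by decide, by decide⟩
/-- `v ↦ ω v` -/
def pR : Perm (Fin 9) :=
  ⟨![1, 2, 3, 4, 5, 6, 0, 7, 8], ![6, 0, 1, 2, 3, 4, 5, 7, 8], by decide, by decide⟩
/-- `v ↦ 1 / v` -/
def pI : Perm (Fin 9) :=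
  ⟨![0, 6, 5, 4, 3, 2, 1, 8, 7], ![0, 6, 5, 4, 3, 2, 1, 8, 7], by decide, by decide⟩
/-- `v ↦ v ^ 2` -/
def pX : Perm (Fin 9) :=
  ⟨![0, 2, 4, 6, 1, 3, 5, 7, 8], ![0, 4, 1, 5, 2, 6, 3, 7, 8], by decide, by decide⟩

theorem pGam_perm : PGam pT pR pI pX where
  tt := by decide
  rr := by decide
  ii := by decide
  xx := by decide
  xr := by decide
  ir := by decide
  iti := by decide
  add := by decide
  xt := by decide
  xi := by decide

namespace PGam

variable {G : Type*} [Group G] {t r i x : G}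

theorem prod {G' : Type*} [Group G'] {t' r' i' x' : G'} (P : PGam t r i x) (P' : PGam t' r' i' x') :
    PGam (t, t') (r, r') (i, i') (x, x') where
  tt := by ext <;> simp [P.tt, P'.tt]
  rr := by ext <;> simp [P.rr, P'.rr]
  ii := by ext <;> simp [P.ii, P'.ii]
  xx := by ext <;> simp [P.xx, P'.xx]
  xr := by ext <;> simp [P.xr, P'.xr]
  ir := by ext <;> simp [P.ir, P'.ir]
  iti := by ext <;> simp [P.iti, P'.iti]
  add := by ext <;> simp [P.add, P'.add]
  xt := by ext <;> simp [P.xt, P'.xt]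
  xi := by ext <;> simp [P.xi, P'.xi]

/-- the explicit permutation group -/
def M9 : Subgroup (Perm (Fin 9)) := Subgroup.closure {pT, pR, pI, pX}

/-- the graph -/
def graph (t r i x : G) : Subgroup (G × Perm (Fin 9)) := Subgroup.closure {(t, pT), (r, pR), (i, pI), (x, pX)}

theorem s_snd {G' : Type*} [Group G'] (t r : G) (t' r' : G') (k : ℕ) :
    s (t, t') (r, r') k = (s t r k, s t' r' k) := by
  simp only [s]; rfl

theorem pS_seven : ∀ k < 7, (s pT pR k) 7 ≠ 7 := by decide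

theorem pS_eight : ∀ k < 7, (s pT pR k) 8 = 8 := by decide

theorem pR_zero : ∀ a < 7, (pR ^ a) 0 = 0 → a = 0 := by decide

theorem pX_one : ∀ b < 3, (pX ^ b) 1 = 1 → b = 0 := by decide

theorem pI_eight : pI 8 ≠ 8 := by decide

theorem pR_eight (a : ℕ) : (pR ^ a) 8 = 8 := by
  induction a with
  | zero => rfl
  | succ a ih => rw [pow_succ', Perm.mul_apply, ih]; decide

theorem pR_seven (a : ℕ) : (pR ^ a) 7 = 7 := by
  induction a with
  | zero => rfl
  | succ a ih => rw [pow_succ', Perm.mul_apply, ih]; decide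

theorem pX_eight (a : ℕ) : (pX ^ a) 8 = 8 := by
  induction a with
  | zero => rfl
  | succ a ih => rw [pow_succ', Perm.mul_apply, ih]; decide

theorem pX_seven (a : ℕ) : (pX ^ a) 7 = 7 := by
  induction a with
  | zero => rfl
  | succ a ih => rw [pow_succ', Perm.mul_apply, ih]; decide

theorem pX_zero (a : ℕ) : (pX ^ a) 0 = 0 := by
  induction a with
  | zero => rfl
  | succ a ih => rw [pow_succ', Perm.mul_apply, ih]; decide

theorem T_snd {g : G × Perm (Fin 9)} (P : PGam t r i x) (hg : g ∈ T (t, pT) (r, pR)) :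
    g = 1 ∨ ∃ k < 7, g = (s t r k, s pT pR k) := by
  rcases hg with h | ⟨k, h⟩
  · exact Or.inl h
  · right
    refine ⟨k % 7, Nat.mod_lt _ (by norm_num), ?_⟩
    rw [P.s_mod, pGam_perm.s_mod, ← s_snd]; exact h

theorem T_snd_eight {g : G × Perm (Fin 9)} (P : PGam t r i x) (hg : g ∈ T (t, pT) (r, pR)) : g.2 8 = 8 := by
  rcases P.T_snd hg with rfl | ⟨k, hk, rfl⟩
  · rfl
  · exact pS_eight k hk

theorem NF_snd_eight {g : G × Perm (Fin 9)} (P : PGam t r i x) (hg : g ∈ NF (t, pT) (r, pR) (x, pX)) :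
    g.2 8 = 8 := by
  obtain ⟨s', hs, a, b, -, -, rfl⟩ := hg
  simp only [Prod.snd_mul, Prod.pow_snd, Perm.mul_apply, pX_eight, pR_eight]
  exact P.T_snd_eight hs

theorem aux_one {s' : Perm (Fin 9)} {a b : ℕ} (h : 1 = s' * pR ^ a * pX ^ b) (p : Fin 9) :
    s' ((pR ^ a) ((pX ^ b) p)) = p := by
  rw [← Perm.mul_apply, ← Perm.mul_apply, ← h, Perm.one_apply]

theorem aux_zero {a b : ℕ} (h : 1 = 1 * pR ^ a * pX ^ b) (ha : a < 7) (hb : b < 3) : a = 0 ∧ b = 0 := by
  have h0 := aux_one h 0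
  rw [pX_zero, Perm.one_apply] at h0
  have ha0 := pR_zero a ha h0
  subst ha0
  have h1 := aux_one h 1
  rw [pow_zero, Perm.one_apply, Perm.one_apply] at h1
  exact ⟨rfl, pX_one b hb h1⟩

theorem aux_ne {a b k : ℕ} (hk : k < 7) (h : 1 = s pT pR k * pR ^ a * pX ^ b) : False := by
  have h0 := aux_one h 7
  rw [pX_seven, pR_seven] at h0
  exact pS_seven k hk h0

theorem aux_i {n s' : Perm (Fin 9)} (hn : n 8 = 8) (hs : s' 8 = 8) (h : 1 = n * pI * s') : False := by
  have h8 : n (pI (s' 8)) = 8 := by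
    rw [← Perm.mul_apply, ← Perm.mul_apply, ← h, Perm.one_apply]
  rw [hs] at h8
  exact pI_eight (n.injective (h8.trans hn.symm))

/-- all relations between the permutations hold in the group -/
theorem eq_one_of_mem (P : PGam t r i x) {g : G} (hg : (g, 1) ∈ graph t r i x) : g = 1 := by
  rcases (P.prod pGam_perm).mem_NG hg with ⟨s', hs, a, b, ha, hb, he⟩ | ⟨n, hn, s', hs, he⟩
  · have he2 : (1 : Perm (Fin 9)) = s'.2 * pR ^ a * pX ^ b := congrArg Prod.snd he
    have he1 : g = s'.1 * r ^ a * x ^ b := congrArg Prod.fst he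
    rcases P.T_snd hs with rfl | ⟨k, hk, rfl⟩
    · obtain ⟨rfl, rfl⟩ := aux_zero he2 ha hb
      rw [he1, pow_zero, pow_zero, mul_one, mul_one]
      rfl
    · exact (aux_ne hk he2).elim
  · have he2 : (1 : Perm (Fin 9)) = n.2 * pI * s'.2 := congrArg Prod.snd he
    exact (aux_i (P.NF_snd_eight hn) (P.T_snd_eight hs) he2).elim

theorem graph_snd {p : G × Perm (Fin 9)} (hp : p ∈ graph t r i x) : p.2 ∈ M9 := by
  have h : graph t r i x ≤ M9.comap (MonoidHom.snd G (Perm (Fin 9))) := by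
    rw [graph, Subgroup.closure_le]
    rintro q hq
    simp only [Set.mem_insert_iff, Set.mem_singleton_iff] at hq
    simp only [Subgroup.coe_comap, Set.mem_preimage, SetLike.mem_coe]
    rcases hq with rfl | rfl | rfl | rfl <;> exact Subgroup.subset_closure (by simp)
  exact h hp

theorem exists_graph {π : Perm (Fin 9)} (hπ : π ∈ M9) : ∃ g : G, (g, π) ∈ graph t r i x := by
  have h : M9 ≤ (graph t r i x).map (MonoidHom.snd G (Perm (Fin 9))) := by
    rw [M9, Subgroup.closure_le]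
    rintro q hq
    simp only [Set.mem_insert_iff, Set.mem_singleton_iff] at hq
    rcases hq with rfl | rfl | rfl | rfl
    · exact ⟨(t, pT), Subgroup.subset_closure (by simp), rfl⟩
    · exact ⟨(r, pR), Subgroup.subset_closure (by simp), rfl⟩
    · exact ⟨(i, pI), Subgroup.subset_closure (by simp), rfl⟩
    · exact ⟨(x, pX), Subgroup.subset_closure (by simp), rfl⟩
  obtain ⟨⟨g, π'⟩, hg, rfl⟩ := h hπ
  exact ⟨g, hg⟩

theorem graph_unique (P : PGam t r i x) {g g' : G} {π : Perm (Fin 9)} (hg : (g, π) ∈ graph t r i x)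
    (hg' : (g', π) ∈ graph t r i x) : g = g' := by
  have h := (graph t r i x).mul_mem hg ((graph t r i x).inv_mem hg')
  have h1 : (g, π) * (g', π)⁻¹ = (g * g'⁻¹, 1) := by ext <;> simp
  rw [h1] at h
  exact mul_inv_eq_one.1 (P.eq_one_of_mem h)

/-- The homomorphism from the explicit permutation group. -/
noncomputable def hom (P : PGam t r i x) : M9 →* G where
  toFun π := (exists_graph (t := t) (r := r) (i := i) (x := x) π.2).choose
  map_one' := P.graph_unique (exists_graph (1 : M9).2).choose_spec (graph t r i x).one_mem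
  map_mul' a b := P.graph_unique (exists_graph (a * b).2).choose_spec
    ((graph t r i x).mul_mem (exists_graph a.2).choose_spec (exists_graph b.2).choose_spec)

theorem hom_mem (P : PGam t r i x) (π : M9) : (P.hom π, (π : Perm (Fin 9))) ∈ graph t r i x :=
  (exists_graph π.2).choose_spec

theorem hom_eq (P : PGam t r i x) {π : M9} {g : G} (h : (g, (π : Perm (Fin 9))) ∈ graph t r i x) : P.hom π = g :=
  P.graph_unique (P.hom_mem π) h

/-- the four generators of `M9` -/
def mT : M9 := ⟨pT, Subgroup.subset_closure (by simp)⟩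
/-- generator -/
def mR : M9 := ⟨pR, Subgroup.subset_closure (by simp)⟩
/-- generator -/
def mI : M9 := ⟨pI, Subgroup.subset_closure (by simp)⟩
/-- generator -/
def mX : M9 := ⟨pX, Subgroup.subset_closure (by simp)⟩

theorem hom_T (P : PGam t r i x) : P.hom mT = t := P.hom_eq (Subgroup.subset_closure (by simp [mT]))
theorem hom_R (P : PGam t r i x) : P.hom mR = r := P.hom_eq (Subgroup.subset_closure (by simp [mR]))
theorem hom_I (P : PGam t r i x) : P.hom mI = i := P.hom_eq (Subgroup.subset_closure (by simp [mI]))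
theorem hom_X (P : PGam t r i x) : P.hom mX = x := P.hom_eq (Subgroup.subset_closure (by simp [mX]))

/-- If `t ≠ 1` then `r ≠ 1`. -/
theorem r_ne (P : PGam t r i x) (ht : t ≠ 1) : r ≠ 1 := by
  rintro rfl
  have h := P.s_three
  simp only [s, one_pow, one_mul, inv_one, mul_one, P.tt] at h
  exact ht h

theorem pow_eq_one_iff (P : PGam t r i x) (ht : t ≠ 1) {k : ℕ} (hk : k < 7) : r ^ k = 1 ↔ k = 0 := by
  constructor
  · intro h
    by_contra hk0
    have h7 : orderOf r = 7 := by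
      have : Fact (Nat.Prime 7) := ⟨by norm_num⟩
      exact orderOf_eq_prime P.rr (P.r_ne ht)
    have := orderOf_dvd_of_pow_eq_one h
    rw [h7] at this
    exact absurd (Nat.le_of_dvd (Nat.pos_of_ne_zero hk0) this) (by omega)
  · rintro rfl; simp

theorem s_ne (_P : PGam t r i x) (ht : t ≠ 1) (k : ℕ) : s t r k ≠ 1 := by
  intro h
  apply ht
  rw [s, mul_inv_eq_one] at h
  exact mul_left_cancel (h.trans (mul_one _).symm)

/-- The homomorphism is injective. -/
theorem graph_injective (P : PGam t r i x) (ht : t ≠ 1) {π : Perm (Fin 9)} (hg : (1, π) ∈ graph t r i x) : π = 1 := by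
  have hx3 : ∀ b < 3, x ^ b = 1 → b = 0 := by
    intro b hb hxb
    have hne : x ≠ 1 := by
      rintro rfl
      have h1 := P.xr
      rw [one_mul, mul_one, pow_two] at h1
      exact P.r_ne ht (mul_left_cancel ((mul_one r).trans h1)).symm
    interval_cases b
    · rfl
    · rw [pow_one] at hxb; exact (hne hxb).elim
    · exfalso; apply hne
      have := P.xx
      rwa [pow_succ, hxb, one_mul] at this
  rcases (P.prod pGam_perm).mem_NG hg with ⟨s', hs, a, b, ha, hb, he⟩ | ⟨n, hn, s', hs, he⟩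
  · have he2 : π = s'.2 * pR ^ a * pX ^ b := congrArg Prod.snd he
    have he1 : 1 = s'.1 * r ^ a * x ^ b := congrArg Prod.fst he
    -- `(r ^ a x ^ b) ^ 21 = 1`
    have h21 : (r ^ a * x ^ b) ^ 21 = 1 := by
      have h3 : ∃ c, (r ^ a * x ^ b) ^ 3 = r ^ c := by
        refine ⟨a + (2 ^ b * a + 2 ^ b * (2 ^ b * a)), ?_⟩
        have hb3 : x ^ b * x ^ b * x ^ b = 1 := by
          rw [← pow_add, ← pow_add, show b + b + b = 3 * b by ring, pow_mul, P.xx, one_pow]
        calc (r ^ a * x ^ b) ^ 3 = r ^ a * (x ^ b * r ^ a) * (x ^ b * r ^ a) * x ^ b := by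
              rw [pow_three]; group
          _ = r ^ a * (r ^ (2 ^ b * a) * x ^ b) * (r ^ (2 ^ b * a) * x ^ b) * x ^ b := by rw [P.x_r_pow]
          _ = r ^ a * r ^ (2 ^ b * a) * (x ^ b * r ^ (2 ^ b * a)) * x ^ b * x ^ b := by group
          _ = r ^ a * r ^ (2 ^ b * a) * (r ^ (2 ^ b * (2 ^ b * a)) * x ^ b) * x ^ b * x ^ b := by rw [P.x_r_pow]
          _ = r ^ a * r ^ (2 ^ b * a) * r ^ (2 ^ b * (2 ^ b * a)) * (x ^ b * x ^ b * x ^ b) := by group
          _ = _ := by rw [hb3, mul_one, pow_add, pow_add, mul_assoc]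
      obtain ⟨c, hc⟩ := h3
      rw [show 21 = 3 * 7 by norm_num, pow_mul, hc, ← pow_mul, mul_comm, pow_mul, P.rr, one_pow]
    rcases P.T_snd hs with rfl | ⟨k, hk, rfl⟩
    · simp only [Prod.fst_one, one_mul] at he1
      have hb0 : b = 0 := by
        apply hx3 b hb
        have h7 : (x ^ b) ^ 7 = 1 := by
          have : x ^ b = (r ^ a)⁻¹ := eq_inv_of_mul_eq_one_right he1.symm
          rw [this, inv_pow, ← pow_mul, mul_comm, pow_mul, P.rr, one_pow, inv_one]
        calc x ^ b = (x ^ b) ^ 7 * ((x ^ 3) ^ (2 * b))⁻¹ := by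
              rw [← pow_mul, ← pow_mul, eq_mul_inv_iff_mul_eq, ← pow_add]; congr 1; ring
          _ = 1 := by rw [h7, P.xx]; simp
      subst hb0
      rw [pow_zero, mul_one] at he1
      have ha0 := (P.pow_eq_one_iff ht ha).1 he1.symm
      subst ha0
      rw [he2]; simp
    · exfalso
      simp only at he1
      apply P.s_ne ht k
      have h1 : s t r k = (r ^ a * x ^ b)⁻¹ := by
        rw [mul_assoc] at he1
        exact eq_inv_of_mul_eq_one_left he1.symm
      have h2 : s t r k ^ 21 = 1 := by rw [h1, inv_pow, h21, inv_one]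
      have h3 : s t r k ^ 2 = 1 := by rw [pow_two, P.s_sq]
      calc s t r k = (s t r k) ^ 21 * ((s t r k ^ 2) ^ 10)⁻¹ := by
            rw [← pow_mul, eq_mul_inv_iff_mul_eq, ← pow_succ']
        _ = 1 := by rw [h2, h3]; simp
  · exfalso
    have he1 : 1 = n.1 * i * s'.1 := congrArg Prod.fst he
    obtain ⟨s'', hs'', a, b, ha, hb, rfl⟩ := hn
    -- `i ∈ T r ^ a x ^ b T`
    have hTsq : ∀ {g : G}, g ∈ T t r → g * g = 1 := by
      rintro g (rfl | ⟨k, rfl⟩)
      · simp
      · exact P.s_sq k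
    have h1 : s''.1 ∈ T t r := by
      rcases P.T_snd hs'' with rfl | ⟨k, hk, rfl⟩
      · exact Or.inl rfl
      · exact Or.inr ⟨k, rfl⟩
    have h2 : s'.1 ∈ T t r := by
      rcases P.T_snd hs with rfl | ⟨k, hk, rfl⟩
      · exact Or.inl rfl
      · exact Or.inr ⟨k, rfl⟩
    set τ := s''.1 * s'.1 with hτ
    have hτT : τ ∈ T t r := by
      rcases h2 with h | ⟨k, h⟩
      · rw [hτ, h, mul_one]; exact h1
      · rw [hτ, h]; exact P.T_mul_s h1 k
    have hτi : τ⁻¹ = τ := inv_eq_of_mul_eq_one_left (hTsq hτT)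
    have hi : s''.1 * r ^ a * x ^ b * i * s'.1 = 1 := he1.symm
    have hi' : i = (x ^ b)⁻¹ * (r ^ a)⁻¹ * τ := by
      have e1 : s''.1⁻¹ = s''.1 := inv_eq_of_mul_eq_one_left (hTsq h1)
      have e2 : s'.1⁻¹ = s'.1 := inv_eq_of_mul_eq_one_left (hTsq h2)
      calc i = (x ^ b)⁻¹ * (r ^ a)⁻¹ * s''.1⁻¹ * (s''.1 * r ^ a * x ^ b * i * s'.1) * s'.1⁻¹ := by group
        _ = _ := by rw [hi, e1, e2, hτ]; group
    have e3 : x ^ b * r ^ 6 = r ^ (2 ^ b * 6) * x ^ b := P.x_r_pow b 6
    have e4 : τ * r * τ⁻¹ = r ^ (2 ^ b * 6) := by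
      have e5 : i * r * i⁻¹ = r ^ 6 := by rw [P.ir]; group
      rw [hi'] at e5
      have e6 : τ * r * τ⁻¹ = r ^ a * (x ^ b * r ^ 6) * (x ^ b)⁻¹ * (r ^ a)⁻¹ := by rw [← e5]; group
      rw [e6, e3]
      calc r ^ a * (r ^ (2 ^ b * 6) * x ^ b) * (x ^ b)⁻¹ * (r ^ a)⁻¹ = (r ^ a * r ^ (2 ^ b * 6)) * (r ^ a)⁻¹ := by group
        _ = _ := by rw [← pow_add, add_comm, pow_add]; group
    have e7 : τ * (r * τ * r⁻¹) ∈ T t r := by
      have h3 := T_conj hτT (t := t) (r := r) 1
      rw [pow_one] at h3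
      rcases h3 with h | ⟨k, h⟩
      · rw [h, mul_one]; exact hτT
      · rw [h]; exact P.T_mul_s hτT k
    have e8 : τ * (r * τ * r⁻¹) = r ^ (2 ^ b * 6) * r ^ 6 := by
      calc τ * (r * τ * r⁻¹) = (τ * r * τ) * r⁻¹ := by group
        _ = _ := by rw [← e4, hτi, P.r_inv]
    have e9 := hTsq e7
    rw [e8, ← pow_add, ← pow_add] at e9
    have h7 : orderOf r = 7 := by
      have : Fact (Nat.Prime 7) := ⟨by norm_num⟩
      exact orderOf_eq_prime P.rr (P.r_ne ht)
    have h8 := orderOf_dvd_of_pow_eq_one e9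
    rw [h7] at h8
    interval_cases b <;> omega

theorem hom_injective (P : PGam t r i x) (ht : t ≠ 1) : Function.Injective P.hom := by
  rw [injective_iff_map_eq_one]
  intro π h
  have h1 := P.hom_mem π
  rw [h] at h1
  exact Subtype.ext (P.graph_injective ht h1)

set_option maxRecDepth 100000 in
/-- example of use: `u := s_2 i s_4 i s_6` has order 9 -/
theorem u_nine (P : PGam t r i x) : (s t r 2 * i * s t r 4 * i * s t r 6) ^ 9 = 1 := by
  have h : (s mT mR 2 * mI * s mT mR 4 * mI * s mT mR 6) ^ 9 = 1 := by decide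
  have := congrArg P.hom h
  simpa only [s, map_mul, map_pow, map_inv, map_one, P.hom_T, P.hom_R, P.hom_I, P.hom_X] using this

end PGam

end Cfsg.Agent.ReeUniq.PGamma
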