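/-
Existence of subgroups `PΓL(2, 8)` in groups with elementary abelian Sylow 2-subgroups of order 8 whose normaliser
has order 168, if the elements of order 7 of the normaliser are real.
-/
import Cfsg.Agent.ReeUniq.PGamma
import Cfsg.Agent.LieRecognition.ReeGeneric

set_option autoImplicit false

namespace Cfsg.Agent.ReeUniq.ExistsPGam

open Subgroup Cfsg.Agent.ReeUniq.PGamma

variable {G : Type*} [Group G] [Finite G]

/-- The 2-local hypotheses. -/
structure Hyp (G : Type*) [Group G] : Prop where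
  syl : ∀ S : Sylow 2 G, Nat.card S = 8 ∧ ∀ x ∈ S, x * x = 1
  norm : ∀ S : Sylow 2 G, Nat.card (normalizer ((S : Subgroup G) : Set G)) = 168
  cent : ∀ S : Sylow 2 G, centralizer ((S : Subgroup G) : Set G) = S

variable (H : Hyp G)
include H

omit [Finite G] in
theorem Hyp.comm {S : Sylow 2 G} {x y : G} (hx : x ∈ S) (hy : y ∈ S) : x * y = y * x := by
  have h1 := (H.syl S).2 _ (mul_mem hx hy)
  have h2 := (H.syl S).2 _ hx
  have h3 := (H.syl S).2 _ hy
  calc x * y = x * (x * y * (x * y)) * y := by rw [h1]; group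
    _ = (x * x) * (y * x) * (y * y) := by group
    _ = y * x := by rw [h2, h3]; group

omit [Finite G] H in
theorem pow_conj_mem {S : Subgroup G} {r : G} (hr : r ∈ normalizer (S : Set G)) {s : G} (hs : s ∈ S) (k : ℕ) :
    r ^ k * s * (r ^ k)⁻¹ ∈ S :=
  (mem_normalizer_iff.1 (pow_mem hr k) s).1 hs

omit [Finite G] H in
/-- if a power `r ^ k`, `k` prime to 7, commutes with `s` then `r` commutes with `s` -/
theorem comm_of_pow {r s : G} (hr : orderOf r = 7) {a b : ℕ} (ha : a < 7) (hb : b < 7) (hab : a ≠ b)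
    (h : r ^ a * s * (r ^ a)⁻¹ = r ^ b * s * (r ^ b)⁻¹) : r * s = s * r := by
  wlog hlt : a < b generalizing a b
  · exact this hb ha hab.symm h.symm (by omega)
  have h7 : r ^ 7 = 1 := by rw [← hr, pow_orderOf_eq_one]
  have h1 : r ^ (b - a) * s = s * r ^ (b - a) := by
    have h2 : r ^ b = r ^ a * r ^ (b - a) := by rw [← pow_add]; congr 1; omega
    rw [h2] at h
    have h3 : s = r ^ (b - a) * s * (r ^ (b - a))⁻¹ := by
      calc s = (r ^ a)⁻¹ * (r ^ a * s * (r ^ a)⁻¹) * r ^ a := by group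
        _ = _ := by rw [h]; group
    calc r ^ (b - a) * s = (r ^ (b - a) * s * (r ^ (b - a))⁻¹) * r ^ (b - a) := by group
      _ = s * r ^ (b - a) := by rw [← h3]
  have h4 : ∀ m : ℕ, (r ^ (b - a)) ^ m * s = s * (r ^ (b - a)) ^ m := fun m =>
    (Commute.pow_left (show Commute (r ^ (b - a)) s from h1) m)
  have h5 : 0 < b - a := by omega
  have h6 : b - a < 7 := by omega
  obtain ⟨m, hm⟩ : ∃ m : ℕ, (b - a) * m % 7 = 1 := by
    interval_cases (b - a)
    · exact ⟨1, rfl⟩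
    · exact ⟨4, rfl⟩
    · exact ⟨5, rfl⟩
    · exact ⟨2, rfl⟩
    · exact ⟨3, rfl⟩
    · exact ⟨6, rfl⟩
  have h8 : (r ^ (b - a)) ^ m = r := by
    rw [← pow_mul, ← Nat.div_add_mod ((b - a) * m) 7, hm, pow_add, pow_mul, h7, one_pow, one_mul, pow_one]
  have := h4 m
  rwa [h8] at this

/-- an element of order 7 of the normaliser permutes the involutions of the Sylow subgroup transitively -/
theorem Hyp.orbit_aux {S : Sylow 2 G} {r s : G} (hr : r ∈ normalizer ((S : Subgroup G) : Set G)) (hr7 : orderOf r = 7)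
    (hs : s ∈ S) (hrs : r * s ≠ s * r) {y : G} (hy : y ∈ S) (hy1 : y ≠ 1) :
    ∃ k < 7, y = r ^ k * s * (r ^ k)⁻¹ := by
  classical
  set f : Fin 7 → G := fun k => r ^ (k : ℕ) * s * (r ^ (k : ℕ))⁻¹ with hf
  have hinj : Function.Injective f := by
    intro a b hab
    by_contra hne
    exact hrs (comm_of_pow hr7 a.2 b.2 (fun h => hne (Fin.ext h)) hab)
  have hs1 : s ≠ 1 := by rintro rfl; exact hrs (by simp)
  have hsub : Set.range f ⊆ ((S : Subgroup G) : Set G) \ {1} := by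
    rintro _ ⟨k, rfl⟩
    refine ⟨pow_conj_mem hr hs _, ?_⟩
    simp only [Set.mem_singleton_iff, hf]
    intro h
    apply hs1
    rw [mul_inv_eq_one] at h
    exact mul_left_cancel (h.trans (mul_one _).symm)
  have hcard : (((S : Subgroup G) : Set G) \ {1}).ncard = 7 := by
    rw [Set.ncard_sdiff_singleton_of_mem (show (1 : G) ∈ ((S : Subgroup G) : Set G) from one_mem _)]
    have : ((S : Subgroup G) : Set G).ncard = 8 := (Nat.card_coe_set_eq _).symm.trans (H.syl S).1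
    rw [this]
  have heq := Set.eq_of_subset_of_ncard_le hsub (by
    rw [hcard]
    have := Set.ncard_image_of_injective Set.univ hinj
    rw [Set.image_univ, Set.ncard_univ, Nat.card_fin] at this
    rw [this])
  have : y ∈ Set.range f := by rw [heq]; exact ⟨hy, hy1⟩
  obtain ⟨k, hk⟩ := this
  exact ⟨k, k.2, hk.symm⟩

theorem Hyp.not_comm {S : Sylow 2 G} {r s : G} (hr : r ∈ normalizer ((S : Subgroup G) : Set G)) (hr7 : orderOf r = 7)
    (hs : s ∈ S) (hs1 : s ≠ 1) : r * s ≠ s * r := by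
  intro hrs
  -- some element of `S` is not centralised by `r`
  obtain ⟨s', hs', hne⟩ : ∃ s' ∈ S, r * s' ≠ s' * r := by
    by_contra hcon
    push Not at hcon
    have h1 : r ∈ centralizer ((S : Subgroup G) : Set G) := by
      rw [mem_centralizer_iff]
      intro y hy
      exact (hcon y hy).symm
    rw [H.cent S] at h1
    have h2 := (H.syl S).2 r h1
    have h3 : orderOf r ∣ 2 := orderOf_dvd_of_pow_eq_one (by rw [pow_two]; exact h2)
    rw [hr7] at h3
    norm_num at h3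
  obtain ⟨k, -, hk⟩ := H.orbit_aux hr hr7 hs' hne hs hs1
  apply hne
  have h1 : r ^ k * s' = s * r ^ k := by rw [hk]; group
  have h2 : s' = (r ^ k)⁻¹ * s * r ^ k := by rw [hk]; group
  have h3 : Commute r s := hrs
  have h4 : s' = s := by
    rw [h2]
    have : (r ^ k)⁻¹ * s = s * (r ^ k)⁻¹ := ((h3.pow_left k).inv_left)
    rw [this]; group
  rw [h4]; exact hrs

theorem Hyp.orbit {S : Sylow 2 G} {r s : G} (hr : r ∈ normalizer ((S : Subgroup G) : Set G)) (hr7 : orderOf r = 7)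
    (hs : s ∈ S) (hs1 : s ≠ 1) {y : G} (hy : y ∈ S) (hy1 : y ≠ 1) : ∃ k < 7, y = r ^ k * s * (r ^ k)⁻¹ :=
  H.orbit_aux hr hr7 hs (H.not_comm hr hr7 hs hs1) hy hy1

theorem Hyp.exists_r (S : Sylow 2 G) : ∃ r ∈ normalizer ((S : Subgroup G) : Set G), orderOf r = 7 := by
  have : Fact (Nat.Prime 7) := ⟨by norm_num⟩
  obtain ⟨r, hr⟩ := exists_prime_orderOf_dvd_card' (G := ↥(normalizer ((S : Subgroup G) : Set G))) 7
    (by rw [H.norm S]; norm_num)
  exact ⟨r, r.2, by rw [← hr]; exact Subgroup.orderOf_coe r⟩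

/-- an element of order 3 normalising `⟨r⟩` -/
theorem Hyp.exists_x {S : Sylow 2 G} {r : G} (hr : r ∈ normalizer ((S : Subgroup G) : Set G)) (hr7 : orderOf r = 7) :
    ∃ x ∈ normalizer ((S : Subgroup G) : Set G), orderOf x = 3 ∧ ∃ k : ℕ, x * r * x⁻¹ = r ^ k := by
  have : Fact (Nat.Prime 7) := ⟨by norm_num⟩
  have : Fact (Nat.Prime 3) := ⟨by norm_num⟩
  set N := normalizer ((S : Subgroup G) : Set G) with hN
  set r' : N := ⟨r, hr⟩ with hr'
  have hor : orderOf r' = 7 := by rw [← hr7, ← Subgroup.orderOf_coe r']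
  have hcN : Nat.card N = 168 := H.norm S
  have hP : Nat.card (zpowers r') = 7 ^ (Nat.card N).factorization 7 := by
    rw [Nat.card_zpowers, hor, hcN]
    have : (168 : ℕ).factorization 7 = 1 := by
      have h : (168 : ℕ) = 7 * 24 := by norm_num
      rw [h, Nat.factorization_mul (by norm_num) (by norm_num)]
      simp only [Finsupp.coe_add, Pi.add_apply]
      rw [Nat.Prime.factorization_self (by norm_num), Nat.factorization_eq_zero_of_not_dvd (by norm_num)]
    rw [this, pow_one]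
  let P : Sylow 7 N := Sylow.ofCard (zpowers r') hP
  have hPc : ((P : Subgroup N)) = zpowers r' := rfl
  have h1 : Nat.card (Sylow 7 N) = (normalizer ((P : Subgroup N) : Set N)).index := Sylow.card_eq_index_normalizer P
  have h2 : Nat.card (Sylow 7 N) ≡ 1 [MOD 7] := card_sylow_modEq_one 7 N
  have h3 := Subgroup.card_mul_index (normalizer ((P : Subgroup N) : Set N))
  have h4 : 7 ∣ Nat.card (normalizer ((P : Subgroup N) : Set N)) := by
    have h5 : (P : Subgroup N) ≤ normalizer ((P : Subgroup N) : Set N) := le_normalizer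
    have h6 := Subgroup.card_dvd_of_le h5
    rw [hPc, Nat.card_zpowers, hor] at h6
    rw [hPc]
    exact h6
  rw [← h1, hcN] at h3
  obtain ⟨m, hm⟩ := h4
  set n7 := Nat.card (Sylow 7 N) with hn7
  have h5 : m * n7 = 24 := by
    rw [hm] at h3
    nlinarith
  have h6 : n7 ∣ 24 := ⟨m, by rw [← h5]; ring⟩
  have h7 : n7 ≤ 24 := Nat.le_of_dvd (by norm_num) h6
  have h8 : n7 % 7 = 1 := h2
  have h9 : n7 = 1 ∨ n7 = 8 := by
    interval_cases n7 <;> omega
  rcases h9 with h9 | h9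
  · -- normal Sylow 7-subgroup: impossible
    exfalso
    rw [h1] at h9
    have htop : normalizer ((P : Subgroup N) : Set N) = ⊤ := Subgroup.index_eq_one.1 h9
    obtain ⟨s, hs, hs1⟩ : ∃ s ∈ S, s ≠ 1 := by
      by_contra hcon
      push Not at hcon
      have h10 : (S : Subgroup G) = ⊥ := by
        rw [eq_bot_iff]; intro y hy; exact mem_bot.2 (hcon y hy)
      have h11 := (H.syl S).1
      have h12 : Nat.card (S : Subgroup G) = 1 := by rw [h10]; simp
      rw [h12] at h11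
      norm_num at h11
    have hsN : s ∈ N := le_normalizer hs
    apply H.not_comm hr hr7 hs hs1
    have h13 : (⟨s, hsN⟩ : N) ∈ normalizer ((P : Subgroup N) : Set N) := by rw [htop]; trivial
    have h14 := (mem_normalizer_iff.1 h13 r').1 (by rw [hPc]; exact mem_zpowers r')
    rw [hPc] at h14
    -- the commutator is in `S` and in `⟨r⟩`
    have h15 : s * r * s⁻¹ * r⁻¹ ∈ (S : Subgroup G) := by
      have := (mem_normalizer_iff.1 hr s⁻¹).1 (inv_mem hs)
      have h16 := mul_mem hs this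
      have e : s * r * s⁻¹ * r⁻¹ = s * (r * s⁻¹ * r⁻¹) := by group
      rw [e]; exact h16
    obtain ⟨z, hz⟩ := mem_zpowers_iff.1 h14
    have hz' : r ^ z = s * r * s⁻¹ := by
      have := congrArg Subtype.val hz
      simpa [hr'] using this
    have h17 : s * r * s⁻¹ * r⁻¹ = r ^ (z - 1) := by rw [← hz', zpow_sub_one]
    have h18 : (r ^ (z - 1)) * (r ^ (z - 1)) = 1 := by rw [← h17]; exact (H.syl S).2 _ h15
    have h19 : r ^ (z - 1) = 1 := by
      have h20 : (r ^ (z - 1)) ^ 7 = 1 := by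
        rw [← zpow_natCast, ← zpow_mul, mul_comm, zpow_mul, zpow_natCast, ← hr7, pow_orderOf_eq_one, one_zpow]
      calc r ^ (z - 1) = (r ^ (z - 1)) ^ 7 * ((r ^ (z - 1) * r ^ (z - 1)) ^ 3)⁻¹ := by group
        _ = 1 := by rw [h20, h18]; simp
    rw [h19] at h17
    have h21 : s * r = r * s := by
      calc s * r = (s * r * s⁻¹ * r⁻¹) * r * s := by group
        _ = r * s := by rw [h17]; group
    exact h21.symm
  · have hm3 : m = 3 := by rw [h9] at h5; omega
    rw [hm3] at hm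
    obtain ⟨x, hx⟩ := exists_prime_orderOf_dvd_card' (G := ↥(normalizer ((P : Subgroup N) : Set N))) 3
      (by rw [hm]; norm_num)
    refine ⟨((x : N) : G), (x : N).2, ?_, ?_⟩
    · rw [← hx, Subgroup.orderOf_coe, Subgroup.orderOf_coe]
    · have h14 : (x : N) * r' * (x : N)⁻¹ ∈ zpowers r' :=
        (mem_normalizer_iff.1 x.2 r').1 (by rw [hPc]; exact mem_zpowers r')
      obtain ⟨z, hz⟩ := mem_zpowers_iff.1 h14
      have hz' : r ^ z = (x : N) * r * ((x : N) : G)⁻¹ := by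
        have := congrArg Subtype.val hz
        simpa [hr'] using this
      refine ⟨(z % 7).toNat, ?_⟩
      rw [← hz', ← zpow_natCast, Int.toNat_of_nonneg (Int.emod_nonneg _ (by norm_num))]
      conv_lhs => rw [← Int.mul_ediv_add_emod z 7, zpow_add, zpow_mul]
      have h7' : r ^ (7 : ℤ) = 1 := by
        rw [show (7 : ℤ) = ((7 : ℕ) : ℤ) from rfl, zpow_natCast, ← hr7, pow_orderOf_eq_one]
      rw [h7', one_zpow, one_mul]

omit [Finite G] H in
theorem pow_conj {x r : G} {k : ℕ} (h : x * r * x⁻¹ = r ^ k) (a : ℕ) : x * r ^ a * x⁻¹ = r ^ (k * a) := by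
  calc x * r ^ a * x⁻¹ = (x * r * x⁻¹) ^ a := by rw [conj_pow]
    _ = _ := by rw [h, ← pow_mul]

omit [Finite G] H in
theorem pow_mod7 {r : G} (hr : orderOf r = 7) (a : ℕ) : r ^ (a % 7) = r ^ a := by
  rw [← hr, pow_mod_orderOf]

omit [Finite G] H in
theorem pow_eq_pow {r : G} (hr : orderOf r = 7) {a b : ℕ} (h : r ^ a = r ^ b) : a % 7 = b % 7 := by
  have := pow_eq_pow_iff_modEq.1 h
  rwa [hr] at this

/-- `x` of order 3 with `x r x⁻¹ = r ^ 2` -/
theorem Hyp.exists_x2 (h37 : ∀ x r : G, orderOf x = 3 → orderOf r = 7 → x * r ≠ r * x)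
    {S : Sylow 2 G} {r : G} (hr : r ∈ normalizer ((S : Subgroup G) : Set G)) (hr7 : orderOf r = 7) :
    ∃ x ∈ normalizer ((S : Subgroup G) : Set G), orderOf x = 3 ∧ x * r * x⁻¹ = r ^ 2 := by
  obtain ⟨x, hx, hx3, k, hk⟩ := H.exists_x hr hr7
  have h3 : x ^ 3 = 1 := by rw [← hx3, pow_orderOf_eq_one]
  have h1 : r ^ 1 = r ^ (k * (k * k)) := by
    have e1 := pow_conj hk k
    have e2 := pow_conj hk (k * k)
    calc r ^ 1 = x ^ 3 * r * (x ^ 3)⁻¹ := by rw [h3]; group
      _ = x * (x * (x * r * x⁻¹) * x⁻¹) * x⁻¹ := by rw [pow_three]; group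
      _ = _ := by rw [hk, e1, e2]
  have h2 := pow_eq_pow hr7 h1
  have hk' : x * r * x⁻¹ = r ^ (k % 7) := by rw [hk, pow_mod7 hr7]
  have h4 : (k % 7) * ((k % 7) * (k % 7)) % 7 = 1 := by
    rw [Nat.mul_mod, Nat.mul_mod (k % 7) (k % 7), Nat.mod_mod, ← Nat.mul_mod k k, ← Nat.mul_mod]; omega
  have h5 : k % 7 < 7 := Nat.mod_lt _ (by norm_num)
  have h6 : k % 7 = 1 ∨ k % 7 = 2 ∨ k % 7 = 4 := by
    generalize k % 7 = a at h4 h5
    interval_cases a <;> omega
  rcases h6 with h6 | h6 | h6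
  · exfalso
    apply h37 x r hx3 hr7
    rw [h6, pow_one] at hk'
    exact mul_inv_eq_iff_eq_mul.1 hk'
  · exact ⟨x, hx, hx3, by rw [hk', h6]⟩
  · refine ⟨x⁻¹, inv_mem hx, by rw [orderOf_inv, hx3], ?_⟩
    rw [h6] at hk'
    have e := pow_conj hk' 2
    have e2 : r ^ (4 * 2) = r := by rw [← pow_mod7 hr7]; simp
    rw [e2] at e
    calc x⁻¹ * r * x⁻¹⁻¹ = x⁻¹ * (x * r ^ 2 * x⁻¹) * x := by rw [e]; group
      _ = r ^ 2 := by group

/-- The involution centralised by `x` and the additive relation. -/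
theorem Hyp.exists_t {S : Sylow 2 G} {r x : G} (hr : r ∈ normalizer ((S : Subgroup G) : Set G)) (hr7 : orderOf r = 7)
    (hx : x ∈ normalizer ((S : Subgroup G) : Set G)) (hxr : x * r * x⁻¹ = r ^ 2) :
    ∃ t ∈ S, t ≠ 1 ∧ x * t = t * x ∧
      (r ^ 3 * t * (r ^ 3)⁻¹ = r * t * r⁻¹ * t ∨ r ^ 5 * t * (r ^ 5)⁻¹ = r * t * r⁻¹ * t) := by
  obtain ⟨s, hs, hs1⟩ : ∃ s ∈ S, s ≠ 1 := by
    by_contra hcon
    push Not at hcon
    have h10 : (S : Subgroup G) = ⊥ := by
      rw [eq_bot_iff]; intro y hy; exact mem_bot.2 (hcon y hy)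
    have h11 := (H.syl S).1
    have h12 : Nat.card (S : Subgroup G) = 1 := by rw [h10]; simp
    rw [h12] at h11
    norm_num at h11
  have hxs : x * s * x⁻¹ ∈ S := (mem_normalizer_iff.1 hx s).1 hs
  have hxs1 : x * s * x⁻¹ ≠ 1 := by
    intro h
    apply hs1
    rw [mul_inv_eq_one] at h
    exact mul_left_cancel (h.trans (mul_one _).symm)
  obtain ⟨a, ha, hxa⟩ := H.orbit hr hr7 hs hs1 hxs hxs1
  have hmod : ∀ a b : ℕ, a % 7 = b % 7 → r ^ a = r ^ b := by
    intro a b h; rw [← pow_mod7 hr7 a, h, pow_mod7 hr7]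
  set t := r ^ (6 * a) * s * (r ^ (6 * a))⁻¹ with ht
  have htS : t ∈ S := pow_conj_mem hr hs _
  have ht1 : t ≠ 1 := by
    intro h
    apply hs1
    rw [ht, mul_inv_eq_one] at h
    exact mul_left_cancel (h.trans (mul_one _).symm)
  have hxt' : x * t * x⁻¹ = t := by
    calc x * t * x⁻¹ = (x * r ^ (6 * a) * x⁻¹) * (x * s * x⁻¹) * (x * r ^ (6 * a) * x⁻¹)⁻¹ := by rw [ht]; group
      _ = r ^ (2 * (6 * a)) * (r ^ a * s * (r ^ a)⁻¹) * (r ^ (2 * (6 * a)))⁻¹ := by
        rw [pow_conj hxr, hxa]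
      _ = (r ^ (2 * (6 * a)) * r ^ a) * s * (r ^ (2 * (6 * a)) * r ^ a)⁻¹ := by group
      _ = t := by
        rw [← pow_add, hmod (2 * (6 * a) + a) (6 * a) (by omega), ← ht]
  have hxt : x * t = t * x := mul_inv_eq_iff_eq_mul.1 hxt'
  refine ⟨t, htS, ht1, hxt, ?_⟩
  -- the conjugates of `t`
  set e : ℕ → G := fun k => r ^ k * t * (r ^ k)⁻¹ with he
  have heS : ∀ k, e k ∈ S := fun k => pow_conj_mem hr htS k
  have hrt : r * t ≠ t * r := H.not_comm hr hr7 htS ht1
  have hinj : ∀ a < 7, ∀ b < 7, e a = e b → a = b := by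
    intro a ha b hb hab
    by_contra hne
    exact hrt (comm_of_pow hr7 ha hb hne hab)
  have he0 : e 0 = t := by simp [he]
  have he1 : e 1 = r * t * r⁻¹ := by simp [he]
  have hsh : ∀ j k, r ^ j * e k * (r ^ j)⁻¹ = e (j + k) := by
    intro j k; simp only [he, pow_add]; group
  have hem : ∀ a b, a % 7 = b % 7 → e a = e b := by
    intro a b h; simp only [he]; rw [hmod a b h]
  have hxe : ∀ k, x * e k * x⁻¹ = e (2 * k) := by
    intro k
    calc x * e k * x⁻¹ = (x * r ^ k * x⁻¹) * (x * t * x⁻¹) * (x * r ^ k * x⁻¹)⁻¹ := by simp only [he]; group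
      _ = _ := by rw [pow_conj hxr, hxt']
  have hsq : ∀ k, e k * e k = 1 := fun k => (H.syl S).2 _ (heS k)
  have htt : t * t = 1 := (H.syl S).2 _ htS
  have hne1 : e 1 * t ≠ 1 := by
    intro h
    have : e 1 = e 0 := by
      rw [he0]
      calc e 1 = e 1 * (t * t) := by rw [htt, mul_one]
        _ = (e 1 * t) * t := by group
        _ = t := by rw [h, one_mul]
    have := hinj 1 (by norm_num) 0 (by norm_num) this
    omega
  obtain ⟨j, hj, hje⟩ := H.orbit hr hr7 htS ht1 (mul_mem (heS 1) htS) hne1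
  have hje' : e 1 * t = e j := hje
  have hcomm : e 1 * t = t * e 1 := H.comm (heS 1) htS
  -- consequences
  have hr' : e 2 * e 1 = e (1 + j) := by
    rw [← hsh 1 j, ← hje']
    calc e 2 * e 1 = (r ^ 1 * e 1 * (r ^ 1)⁻¹) * (r ^ 1 * e 0 * (r ^ 1)⁻¹) := by rw [hsh, hsh]
      _ = _ := by rw [he0]; group
  have hx' : e 2 * t = e (2 * j) := by
    rw [← hxe j, ← hje']
    calc e 2 * t = (x * e 1 * x⁻¹) * (x * t * x⁻¹) := by rw [hxe, hxt']
      _ = _ := by group
  have hj35 : j = 3 ∨ j = 5 := by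
    interval_cases j
    · -- e 1 * t = t
      exfalso
      rw [he0] at hje'
      have : e 1 = 1 := mul_eq_right.1 hje'
      have h := hsq 1
      apply ht1
      simp only [he] at this
      rw [mul_inv_eq_one] at this
      exact mul_left_cancel (this.trans (mul_one _).symm)
    · exfalso; exact ht1 (mul_eq_left.1 hje')
    · exfalso
      have h1 : e 2 * e 1 = t := by
        rw [← hje', hcomm, mul_assoc, hsq, mul_one]
      rw [h1] at hr'
      have := hinj 0 (by norm_num) 3 (by norm_num) (by rw [he0]; exact hr')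
      omega
    · left; rfl
    · exfalso
      have h1 : e 2 * t = e 1 := by rw [hx']; exact hem _ _ (by norm_num)
      have h2 : e 2 = e 4 := by
        rw [← hje', ← h1, mul_assoc, htt, mul_one]
      have := hinj 2 (by norm_num) 4 (by norm_num) h2
      omega
    · right; rfl
    · exfalso
      have h1 : e 2 * e 1 = t := by rw [hr', ← he0]; exact hem _ _ (by norm_num)
      have h2 : e 2 = e 6 := by
        rw [← hje', hcomm]
        calc e 2 = (e 2 * e 1) * e 1 := by rw [mul_assoc, hsq, mul_one]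
          _ = t * e 1 := by rw [h1]
      have := hinj 2 (by norm_num) 6 (by norm_num) h2
      omega
  rw [he1] at hje'
  rcases hj35 with rfl | rfl
  · left; exact hje'.symm
  · right; exact hje'.symm

/-- After replacing `r` by its inverse if necessary: all relations not involving `i`. -/
theorem Hyp.exists_rtx (h37 : ∀ x r : G, orderOf x = 3 → orderOf r = 7 → x * r ≠ r * x) (S : Sylow 2 G) :
    ∃ r ∈ normalizer ((S : Subgroup G) : Set G), ∃ x ∈ normalizer ((S : Subgroup G) : Set G), ∃ t ∈ S,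
      orderOf r = 7 ∧ orderOf x = 3 ∧ t ≠ 1 ∧ x * r * x⁻¹ = r ^ 2 ∧ x * t = t * x ∧
      r ^ 3 * t * (r ^ 3)⁻¹ = r * t * r⁻¹ * t := by
  obtain ⟨r, hr, hr7⟩ := H.exists_r S
  obtain ⟨x, hx, hx3, hxr⟩ := H.exists_x2 h37 hr hr7
  obtain ⟨t, ht, ht1, hxt, h | h⟩ := H.exists_t hr hr7 hx hxr
  · exact ⟨r, hr, x, hx, t, ht, hr7, hx3, ht1, hxr, hxt, h⟩
  · refine ⟨r⁻¹, inv_mem hr, x, hx, t, ht, by rw [orderOf_inv, hr7], hx3, ht1, ?_, hxt, ?_⟩
    · rw [inv_pow, ← hxr]; group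
    · have h7 : r ^ 7 = 1 := by rw [← hr7, pow_orderOf_eq_one]
      have hcomm : (r⁻¹ * t * r⁻¹⁻¹) * t = t * (r⁻¹ * t * r⁻¹⁻¹) := by
        apply H.comm _ ht
        exact (mem_normalizer_iff.1 (inv_mem hr) t).1 ht
      rw [hcomm]
      have e1 : r⁻¹ ^ 3 = r ^ 4 := by
        rw [inv_pow, inv_eq_iff_mul_eq_one, ← pow_add, h7]
      rw [e1]
      calc r ^ 4 * t * (r ^ 4)⁻¹ = r⁻¹ * (r ^ 5 * t * (r ^ 5)⁻¹) * r := by group
        _ = r⁻¹ * (r * t * r⁻¹ * t) * r := by rw [h]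
        _ = t * (r⁻¹ * t * r⁻¹⁻¹) := by group

/-- the elements which map `r` to `r`, `r ^ 2` or `r ^ 4` -/
def H1 (r : G) (hr : orderOf r = 7) : Subgroup G where
  carrier := {g | ∃ m : ℕ, g * r * g⁻¹ = r ^ (2 ^ m)}
  one_mem' := ⟨0, by simp⟩
  mul_mem' := by
    rintro g h ⟨m, hm⟩ ⟨m', hm'⟩
    refine ⟨m + m', ?_⟩
    have := pow_conj hm (2 ^ m')
    rw [pow_add, ← this, ← hm']; group
  inv_mem' := by
    rintro g ⟨m, hm⟩
    refine ⟨2 * m, ?_⟩
    have h1 := pow_conj hm (2 ^ (2 * m))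
    have h2 : r ^ (2 ^ m * 2 ^ (2 * m)) = r := by
      rw [← pow_mod7 hr, ← pow_add, show m + 2 * m = 3 * m by ring, pow_mul, Nat.pow_mod]
      norm_num
    rw [h2] at h1
    calc g⁻¹ * r * g⁻¹⁻¹ = g⁻¹ * (g * r ^ 2 ^ (2 * m) * g⁻¹) * g := by rw [h1]; group
      _ = _ := by group

omit H in
/-- An involution which inverts `r` and commutes with `x`. -/
theorem exists_i (h37 : ∀ x r : G, orderOf x = 3 → orderOf r = 7 → x * r ≠ r * x)
    (hsyl : ∀ S : Sylow 2 G, ∀ x ∈ S, x * x = 1)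
    {r x : G} (hr7 : orderOf r = 7) (hx3 : orderOf x = 3) (hxr : x * r * x⁻¹ = r ^ 2)
    (nonreal : ∀ g : G, g * x * g⁻¹ ≠ x⁻¹) {j : G} (hj : j * r * j⁻¹ = r⁻¹) :
    ∃ i : G, i * i = 1 ∧ i * x = x * i ∧ i * r * i⁻¹ = r⁻¹ := by
  classical
  have : Fact (Nat.Prime 3) := ⟨by norm_num⟩
  have : Fact (Nat.Prime 2) := ⟨by norm_num⟩
  set K := H1 r hr7 with hK
  have hxK : x ∈ K := ⟨1, by rw [pow_one]; exact hxr⟩
  -- the index of `⟨x⟩` in `K` is prime to 3
  have h9 : ¬ 9 ∣ Nat.card K := by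
    intro h9
    obtain ⟨Q, hQ⟩ := Sylow.exists_subgroup_card_pow_prime (G := K) (p := 3) (n := 2) (by simpa using h9)
    -- two elements of `Q` act in the same way on `r`
    have hfin : ∀ q : Q, ∃ m : Fin 3, ((q : K) : G) * r * ((q : K) : G)⁻¹ = r ^ (2 ^ (m : ℕ)) := by
      intro q
      obtain ⟨m, hm⟩ := (q : K).2
      refine ⟨⟨m % 3, Nat.mod_lt _ (by norm_num)⟩, ?_⟩
      rw [hm, ← pow_mod7 hr7, ← pow_mod7 hr7 (2 ^ (m % 3))]
      congr 1
      conv_lhs => rw [← Nat.div_add_mod m 3, pow_add, pow_mul, Nat.mul_mod, Nat.pow_mod]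
      norm_num
    choose f hf using hfin
    have hcard : Nat.card Q = 9 := by rw [hQ]; norm_num
    have hnot : ¬ Function.Injective f := by
      intro hinj
      have := Nat.card_le_card_of_injective f hinj
      rw [hcard, Nat.card_fin] at this
      omega
    rw [Function.Injective] at hnot
    push Not at hnot
    obtain ⟨a, b, hab, hne⟩ := hnot
    set c : Q := a⁻¹ * b with hc
    have hc1 : c ≠ 1 := by
      intro h
      apply hne
      rw [hc, inv_mul_eq_one] at h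
      exact h
    have hcr : ((c : K) : G) * r = r * ((c : K) : G) := by
      have e1 := hf a
      have e2 := hf b
      rw [hab, ← e2] at e1
      have e3 : ((c : K) : G) = ((a : K) : G)⁻¹ * ((b : K) : G) := by rw [hc]; rfl
      rw [e3]
      calc ((a : K) : G)⁻¹ * ((b : K) : G) * r = ((a : K) : G)⁻¹ * (((b : K) : G) * r * ((b : K) : G)⁻¹) * ((b : K) : G) := by group
        _ = ((a : K) : G)⁻¹ * (((a : K) : G) * r * ((a : K) : G)⁻¹) * ((b : K) : G) := by rw [e1]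
        _ = _ := by group
    -- an element of order 3 in `⟨c⟩`
    have hcp : IsPGroup 3 Q := IsPGroup.of_card hQ
    have h3c : 3 ∣ orderOf c := by
      obtain ⟨k, hk⟩ := IsPGroup.iff_orderOf.1 hcp c
      rw [hk]
      rcases Nat.eq_zero_or_pos k with h | h
      · exfalso; apply hc1; rw [← orderOf_eq_one_iff, hk, h, pow_zero]
      · exact dvd_pow_self 3 h.ne'
    have h3o : orderOf (c ^ (orderOf c / 3)) = 3 := by
      rw [orderOf_pow' c (Nat.div_pos (Nat.le_of_dvd (orderOf_pos c) h3c) (by norm_num)).ne',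
        Nat.gcd_eq_right (Nat.div_dvd_of_dvd h3c), Nat.div_div_self h3c (orderOf_pos c).ne']
    apply h37 ((((c ^ (orderOf c / 3) : Q) : K) : G)) r _ hr7
    · have : ((((c ^ (orderOf c / 3) : Q) : K) : G)) = (((c : K) : G)) ^ (orderOf c / 3) := by simp
      rw [this]
      exact (Commute.pow_left (show Commute ((c : K) : G) r from hcr) _)
    · rw [Subgroup.orderOf_coe, Subgroup.orderOf_coe]; exact h3o
  set x' : K := ⟨x, hxK⟩ with hx'
  have hx'3 : orderOf x' = 3 := by rw [← hx3, ← Subgroup.orderOf_coe x']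
  have hind : ¬ 3 ∣ (zpowers x').index := by
    intro h
    apply h9
    rw [← Subgroup.card_mul_index (zpowers x'), Nat.card_zpowers, hx'3]
    exact Nat.mul_dvd_mul_left 3 h
  have hyK : j * x * j⁻¹ ∈ K := by
    refine ⟨1, ?_⟩
    have e1 : j⁻¹ * r * j = r⁻¹ := by
      have : j * r⁻¹ * j⁻¹ = r := by
        rw [← inv_inv (j * r⁻¹ * j⁻¹)]
        have : (j * r⁻¹ * j⁻¹)⁻¹ = j * r * j⁻¹ := by group
        rw [this, hj, inv_inv]
      calc j⁻¹ * r * j = j⁻¹ * (j * r⁻¹ * j⁻¹) * j := by rw [this]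
        _ = r⁻¹ := by group
    calc j * x * j⁻¹ * r * (j * x * j⁻¹)⁻¹ = j * (x * (j⁻¹ * r * j) * x⁻¹) * j⁻¹ := by group
      _ = j * (x * r * x⁻¹)⁻¹ * j⁻¹ := by rw [e1]; group
      _ = ((j * r * j⁻¹) ^ 2)⁻¹ := by rw [hxr, conj_pow]; group
      _ = r ^ 2 ^ 1 := by rw [hj, inv_pow, inv_inv, pow_one]
  have hy3 : orderOf (⟨j * x * j⁻¹, hyK⟩ : K) = 3 := by
    rw [← Subgroup.orderOf_coe]
    show orderOf (j * x * j⁻¹) = 3
    rw [← hx3]
    exact orderOf_injective (MulAut.conj j).toMonoidHom (MulAut.conj j).injective x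
  obtain ⟨h, hh⟩ := Cfsg.Agent.LieRecognition.ReeGeneric.exists_conj_mem_of_orderOf (p := 3) (zpowers x') hind hy3
  obtain ⟨z, hz⟩ := mem_zpowers_iff.1 hh
  have hz' : x ^ z = (h : G)⁻¹ * (j * x * j⁻¹) * (h : G) := by
    have := congrArg Subtype.val hz
    simpa [hx'] using this
  set k : G := (h : G)⁻¹ * j with hk
  have hkx : k * x * k⁻¹ = x ^ z := by rw [hz', hk]; group
  have hx3' : x ^ 3 = 1 := by rw [← hx3, pow_orderOf_eq_one]
  have hx1 : x ≠ 1 := by rintro rfl; rw [orderOf_one] at hx3; omega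
  have hkx' : k * x = x * k := by
    have h1 : x ^ z = x ^ (z % 3) := by
      conv_lhs => rw [← Int.mul_ediv_add_emod z 3, zpow_add, zpow_mul]
      rw [show x ^ (3 : ℤ) = 1 by rw [show (3 : ℤ) = ((3 : ℕ) : ℤ) from rfl, zpow_natCast, hx3'], one_zpow, one_mul]
    have h2 := Int.emod_nonneg z (show (3 : ℤ) ≠ 0 by norm_num)
    have h3 := Int.emod_lt_of_pos z (show (0 : ℤ) < 3 by norm_num)
    rw [h1] at hkx
    have h4 : z % 3 = 0 ∨ z % 3 = 1 ∨ z % 3 = 2 := by omega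
    rcases h4 with h4 | h4 | h4 <;> rw [h4] at hkx
    · exfalso
      apply hx1
      rw [zpow_zero, mul_inv_eq_one] at hkx
      exact mul_left_cancel (hkx.trans (mul_one _).symm)
    · rw [zpow_one] at hkx
      exact mul_inv_eq_iff_eq_mul.1 hkx
    · exfalso
      apply nonreal k
      rw [hkx, show (2 : ℤ) = ((2 : ℕ) : ℤ) from rfl, zpow_natCast, eq_inv_iff_mul_eq_one, ← pow_succ, hx3']
  obtain ⟨m, hm⟩ : ∃ m : ℕ, k * r * k⁻¹ = r ^ (6 * 2 ^ m) := by
    obtain ⟨m, hm⟩ := (h⁻¹ : K).2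
    refine ⟨m, ?_⟩
    have e1 : k * r * k⁻¹ = ((h⁻¹ : K) : G) * (j * r * j⁻¹) * ((h⁻¹ : K) : G)⁻¹ := by
      rw [hk]; push_cast; group
    have e2 : r⁻¹ = r ^ 6 := by
      rw [inv_eq_iff_mul_eq_one, ← pow_succ']
      show r ^ 7 = 1
      rw [← hr7, pow_orderOf_eq_one]
    rw [e1, hj, e2, pow_conj hm, mul_comm]
  -- the 2-part of `k`
  obtain ⟨a, o, ho, hko⟩ := Nat.exists_eq_two_pow_mul_odd (orderOf_pos k).ne'
  set i := k ^ o with hi
  have hi2a : i ^ 2 ^ a = 1 := by rw [hi, ← pow_mul, mul_comm, ← hko, pow_orderOf_eq_one]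
  have hii : i * i = 1 := by
    have hp : IsPGroup 2 (zpowers i) := by
      rw [IsPGroup.iff_card]
      have h1 : orderOf i ∣ 2 ^ a := orderOf_dvd_of_pow_eq_one hi2a
      obtain ⟨b, -, hb⟩ := (Nat.dvd_prime_pow Nat.prime_two).1 h1
      exact ⟨b, by rw [Nat.card_zpowers, hb]⟩
    obtain ⟨S, hS⟩ := hp.exists_le_sylow
    exact hsyl S i (hS (mem_zpowers i))
  have hix : i * x = x * i := (Commute.pow_left (show Commute k x from hkx') o)
  have hir : ∀ b : ℕ, k ^ b * r * (k ^ b)⁻¹ = r ^ ((6 * 2 ^ m) ^ b) := by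
    intro b
    induction b with
    | zero => simp
    | succ b ih =>
      calc k ^ (b + 1) * r * (k ^ (b + 1))⁻¹ = k * (k ^ b * r * (k ^ b)⁻¹) * k⁻¹ := by rw [pow_succ']; group
        _ = _ := by rw [ih, pow_conj hm, ← pow_succ']
  have h1 := hir o
  rw [← hi] at h1
  have h2 : r ^ 1 = r ^ ((6 * 2 ^ m) ^ o * (6 * 2 ^ m) ^ o) := by
    calc r ^ 1 = i * i * r * (i * i)⁻¹ := by rw [hii]; group
      _ = i * (i * r * i⁻¹) * i⁻¹ := by group
      _ = _ := by rw [h1, pow_conj h1]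
  have h3 := pow_eq_pow hr7 h2
  set c := (6 * 2 ^ m) ^ o with hc
  have hc7 : (c % 7) * (c % 7) % 7 = 1 := by rw [← Nat.mul_mod]; omega
  -- `c` is not a square modulo 7
  have hcn : c % 7 = 3 ∨ c % 7 = 5 ∨ c % 7 = 6 := by
    have key : ∀ n l : ℕ, (n % 7 = 1 ∨ n % 7 = 2 ∨ n % 7 = 4) → (n ^ l % 7 = 1 ∨ n ^ l % 7 = 2 ∨ n ^ l % 7 = 4) := by
      intro n l hn
      induction l with
      | zero => left; rfl
      | succ l ih =>
        rw [pow_succ, Nat.mul_mod]
        rcases hn with hn | hn | hn <;> rcases ih with ih | ih | ih <;> rw [hn, ih] <;> norm_num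
    have hm2 := key 2 m (by norm_num)
    obtain ⟨l, hl⟩ := ho
    have h5 : (6 * 2 ^ m) % 7 = 6 ∨ (6 * 2 ^ m) % 7 = 5 ∨ (6 * 2 ^ m) % 7 = 3 := by
      rw [Nat.mul_mod]
      rcases hm2 with h | h | h <;> rw [h] <;> norm_num
    have h6 := key ((6 * 2 ^ m) ^ 2) l (by
      rw [Nat.pow_mod]
      rcases h5 with h | h | h <;> rw [h] <;> norm_num)
    rw [hc, hl, pow_succ, pow_mul, Nat.mul_mod]
    rcases h5 with h | h | h <;> rcases h6 with h' | h' | h' <;> rw [h, h'] <;> norm_num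
  have hc6 : c % 7 = 6 := by
    rcases hcn with h | h | h
    · rw [h] at hc7; omega
    · rw [h] at hc7; omega
    · exact h
  refine ⟨i, hii, hix, ?_⟩
  rw [h1, ← pow_mod7 hr7, hc6, eq_comm, inv_eq_iff_mul_eq_one, ← pow_succ']
  show r ^ 7 = 1
  rw [← hr7, pow_orderOf_eq_one]

/-- Existence of the subgroup `PΓL(2, 8)`. -/
theorem Hyp.exists_pgam (h37 : ∀ x r : G, orderOf x = 3 → orderOf r = 7 → x * r ≠ r * x)
    (nonreal : ∀ x t g : G, orderOf x = 3 → t ≠ 1 → t * t = 1 → t * x = x * t → g * x * g⁻¹ ≠ x⁻¹)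
    (real : ∀ (S : Sylow 2 G), ∀ r ∈ normalizer ((S : Subgroup G) : Set G), orderOf r = 7 → ∃ j : G, j * r * j⁻¹ = r⁻¹)
    (prod : ∀ x t i : G, orderOf x = 3 → t ≠ 1 → t * t = 1 → i ≠ 1 → i * i = 1 → t * x = x * t → i * x = x * i →
      t ≠ i → (t * i) ^ 3 = 1) :
    ∃ t r i x : G, PGam t r i x ∧ t ≠ 1 ∧ orderOf x = 3 := by
  obtain ⟨S⟩ : Nonempty (Sylow 2 G) := inferInstance
  obtain ⟨r, hr, x, hx, t, ht, hr7, hx3, ht1, hxr, hxt, hadd⟩ := H.exists_rtx h37 S
  obtain ⟨j, hj⟩ := real S r hr hr7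
  have htt : t * t = 1 := (H.syl S).2 _ ht
  have hr7' : r ^ 7 = 1 := by rw [← hr7, pow_orderOf_eq_one]
  obtain ⟨i, hii, hix, hir⟩ := exists_i h37 (fun S => (H.syl S).2) hr7 hx3 hxr
    (fun g => nonreal x t g hx3 ht1 htt hxt.symm) hj
  have hi1 : i ≠ 1 := by
    rintro rfl
    have h1 : r = r⁻¹ := by simpa using hir
    have h2 : orderOf r ∣ 2 := orderOf_dvd_of_pow_eq_one (by
      rw [pow_two]; nth_rewrite 2 [h1]; rw [mul_inv_cancel])
    rw [hr7] at h2; norm_num at h2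
  have hti : t ≠ i := by
    rintro rfl
    have h1 : r * t * r⁻¹ ∈ S := (mem_normalizer_iff.1 hr t).1 ht
    have h2 : t * (r * t * r⁻¹) = r⁻¹ * r⁻¹ := by
      have h3 : t * r * t⁻¹ = r⁻¹ := hir
      have h4 : t⁻¹ = t := inv_eq_of_mul_eq_one_left htt
      rw [h4] at h3
      calc t * (r * t * r⁻¹) = (t * r * t) * r⁻¹ := by group
        _ = _ := by rw [h3]
    have h3 := (H.syl S).2 _ (mul_mem ht h1)
    rw [h2] at h3
    have h4 : orderOf r⁻¹ ∣ 4 := orderOf_dvd_of_pow_eq_one (by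
      calc r⁻¹ ^ 4 = r⁻¹ * r⁻¹ * (r⁻¹ * r⁻¹) := by group
        _ = 1 := h3)
    rw [orderOf_inv, hr7] at h4; norm_num at h4
  have hp := prod x t i hx3 ht1 htt hi1 hii hxt.symm hix hti
  have e6 : r⁻¹ = r ^ 6 := by rw [inv_eq_iff_mul_eq_one, ← pow_succ']; exact hr7'
  refine ⟨t, r, i, x, ⟨htt, hr7', hii, by rw [← hx3, pow_orderOf_eq_one], ?_, ?_, ?_, ?_, hxt, hix.symm⟩, ht1, hx3⟩
  · exact mul_inv_eq_iff_eq_mul.1 hxr
  · rw [← e6]; exact mul_inv_eq_iff_eq_mul.1 hir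
  · have h4 : t⁻¹ = t := inv_eq_of_mul_eq_one_left htt
    have h5 : i⁻¹ = i := inv_eq_of_mul_eq_one_left hii
    have h6 : t * i * (t * i) * (t * i) = 1 := by rw [← pow_three', hp]
    calc i * t * i = t⁻¹ * (t * i * (t * i) * (t * i)) * i⁻¹ * t⁻¹ := by group
      _ = _ := by rw [h6, h4, h5]; group
  · rw [e6] at hadd
    have e4 : (r ^ 3)⁻¹ = r ^ 4 := by rw [inv_eq_iff_mul_eq_one, ← pow_add]; exact hr7'
    rw [e4] at hadd
    exact hadd

end Cfsg.Agent.ReeUniq.ExistsPGam
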