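/-
From the abstract structure of the Sylow 3-subgroup `U` (three chief factors, commutator and torus
action given by monomials) to the explicit law `mul σ`.
-/
import Cfsg.Agent.ReeUniq.Law

set_option autoImplicit false

namespace Cfsg.Agent.ReeUniq

namespace LawOfData

/-! ### The twisted extension of `F` by `F` -/

/-- the extension of `F` by `F` by a symmetric cocycle -/
structure Tw (F : Type*) where
  x : F
  w : F

section cocycle

variable {F : Type*} [Field F]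

theorem Tw.ext' {a b : Tw F} (h : a.x = b.x) (h' : a.w = b.w) : a = b := by
  obtain ⟨x, w⟩ := a
  obtain ⟨x', w'⟩ := b
  obtain rfl : x = x' := h
  obtain rfl : w = w' := h'
  rfl

variable (D : F → F → F)

theorem D_zero_left (hcoc : ∀ x y z, D (x + y) z + D x y = D x (y + z) + D y z) (h0 : D 0 0 = 0) (z : F) :
    D 0 z = 0 := by
  have h := hcoc 0 0 z
  rw [add_zero, zero_add, h0, add_zero] at h
  exact left_eq_add.1 h

/-- the group structure -/
@[reducible] def twGroup (hsymm : ∀ x y, D x y = D y x)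
    (hcoc : ∀ x y z, D (x + y) z + D x y = D x (y + z) + D y z) (h0 : D 0 0 = 0) : AddCommGroup (Tw F) :=
  letI : Add (Tw F) := ⟨fun a b => ⟨a.x + b.x, a.w + b.w + D a.x b.x⟩⟩
  letI : Zero (Tw F) := ⟨⟨0, 0⟩⟩
  letI : Neg (Tw F) := ⟨fun a => ⟨-a.x, -a.w - D (-a.x) a.x⟩⟩
  { AddGroup.ofLeftAxioms (G := Tw F)
      (fun a b c => Tw.ext' (add_assoc a.x b.x c.x) (by
        show a.w + b.w + D a.x b.x + c.w + D (a.x + b.x) c.x = a.w + (b.w + c.w + D b.x c.x) + D a.x (b.x + c.x)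
        linear_combination hcoc a.x b.x c.x))
      (fun a => Tw.ext' (zero_add a.x) (by
        show 0 + a.w + D 0 a.x = a.w
        rw [D_zero_left D hcoc h0, zero_add, add_zero]))
      (fun a => Tw.ext' (neg_add_cancel a.x) (by
        show (-a.w - D (-a.x) a.x) + a.w + D (-a.x) a.x = 0
        ring)) with
    add_comm := fun a b => Tw.ext' (add_comm a.x b.x) (by
      show a.w + b.w + D a.x b.x = b.w + a.w + D b.x a.x
      rw [hsymm a.x b.x, add_comm a.w b.w]) }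

variable {D}

/-- an equivariant symmetric cocycle of exponent `3` is the coboundary of `κ x² σ(x)` -/
theorem cocycle_trivial [Fintype F] (h3 : (3 : F) = 0) (σ : F →+* F) (hσ : ∃ x, σ x ≠ x)
    (hsymm : ∀ x y, D x y = D y x) (hcoc : ∀ x y z, D (x + y) z + D x y = D x (y + z) + D y z)
    (h0 : D 0 0 = 0) (heq : ∀ k x y, k ≠ 0 → D (k * x) (k * y) = k ^ 2 * σ k * D x y) :
    ∃ κ, ∀ x y, D x y = κ * ((x + y) ^ 2 * σ (x + y) - x ^ 2 * σ x - y ^ 2 * σ y) := by
  classical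
  letI : AddCommGroup (Tw F) := twGroup D hsymm hcoc h0
  have hadd : ∀ a b : Tw F, a + b = ⟨a.x + b.x, a.w + b.w + D a.x b.x⟩ := fun _ _ => rfl
  have hzero : (0 : Tw F) = ⟨0, 0⟩ := rfl
  -- cubes
  have h2ne : (2 : F) = -1 := by linear_combination h3
  have cube : ∀ a : Tw F, (3 : ℕ) • a = ⟨0, D a.x a.x + D (a.x + a.x) a.x⟩ := by
    intro a
    rw [show (3 : ℕ) = 2 + 1 from rfl, add_smul, two_smul, one_smul, hadd, hadd]
    apply Tw.ext'
    · show a.x + a.x + a.x = 0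
      linear_combination a.x * h3
    · show a.w + a.w + D a.x a.x + a.w + D (a.x + a.x) a.x = D a.x a.x + D (a.x + a.x) a.x
      linear_combination a.w * h3
  let T : F → F := fun x => D x x + D (x + x) x
  have T_add : ∀ x y, T (x + y) = T x + T y := by
    intro x y
    have h1 : (3 : ℕ) • ((⟨x, 0⟩ : Tw F) + ⟨y, 0⟩) = (3 : ℕ) • (⟨x, 0⟩ : Tw F) + (3 : ℕ) • (⟨y, 0⟩ : Tw F) :=
      smul_add _ _ _
    rw [cube, cube, cube, hadd, hadd] at h1
    have h2 := congrArg Tw.w h1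
    have h4 : T (x + y) = T x + T y + D 0 0 := h2
    rw [h4, h0, add_zero]
  have T_smul : ∀ k x, k ≠ 0 → T (k * x) = k ^ 2 * σ k * T x := by
    intro k x hk
    show D (k * x) (k * x) + D (k * x + k * x) (k * x) = k ^ 2 * σ k * (D x x + D (x + x) x)
    rw [← mul_add, heq k x x hk, heq k (x + x) x hk]
    ring
  have T_one : ∀ x, x ≠ 0 → T x = x ^ 2 * σ x * T 1 := by
    intro x hx
    rw [← T_smul x 1 hx, mul_one]
  have T0 : ∀ x, T x = 0 := by
    have hT1 : T 1 = 0 := by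
      by_contra hne
      obtain ⟨x, hx⟩ := hσ
      have hx0 : x ≠ 0 := by
        rintro rfl
        exact hx (map_zero σ)
      have hx1 : x ≠ 1 := by
        rintro rfl
        exact hx (map_one σ)
      have hxm : x + 1 ≠ 0 := by
        intro h
        apply hx
        have : x = -1 := by linear_combination h
        rw [this, map_neg, map_one]
      have h1 := T_add x 1
      rw [T_one _ hxm, T_one _ hx0, map_add, map_one] at h1
      have h2 : ((x - 1) * (x - σ x)) * T 1 = 0 := by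
        linear_combination h1 - (x * σ x + x) * T 1 * h3
      rcases mul_eq_zero.1 h2 with h4 | h4
      · rcases mul_eq_zero.1 h4 with h5 | h5
        · exact hx1 (by linear_combination h5)
        · exact hx (by linear_combination -h5)
      · exact hne h4
    intro x
    by_cases hx : x = 0
    · rw [hx]
      show D 0 0 + D (0 + 0) 0 = 0
      rw [add_zero, h0, add_zero]
    · rw [T_one x hx, hT1, mul_zero]
  -- splitting
  haveI : Fact (Nat.Prime 3) := ⟨Nat.prime_three⟩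
  letI : Module (ZMod 3) (Tw F) := AddCommGroup.zmodModule (fun a => by
    rw [cube, hzero]
    exact Tw.ext' rfl (T0 a.x))
  letI : Module (ZMod 3) F := AddCommGroup.zmodModule (fun a => by
    rw [nsmul_eq_mul]
    push_cast
    rw [h3, zero_mul])
  let π : Tw F →+ F := { toFun := Tw.x, map_zero' := rfl, map_add' := fun _ _ => rfl }
  obtain ⟨s, hs⟩ := (AddMonoidHom.toZModLinearMap 3 π).exists_rightInverse_of_surjective (by
    rw [LinearMap.range_eq_top]
    intro x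
    exact ⟨⟨x, 0⟩, rfl⟩)
  have hs' : ∀ x, (s x).x = x := fun x => LinearMap.congr_fun hs x
  let f : F → F := fun x => (s x).w
  have hf : ∀ x y, f (x + y) = f x + f y + D x y := by
    intro x y
    have h1 : s (x + y) = s x + s y := map_add s x y
    have h2 := congrArg Tw.w h1
    rw [hadd] at h2
    have h4 : f (x + y) = f x + f y + D (s x).x (s y).x := h2
    rwa [hs', hs'] at h4
  -- averaging
  let g : F → F := fun x => -∑ k : Fˣ, ((k : F) ^ 2 * σ k)⁻¹ * f (k * x)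
  have hk0 : ∀ k : Fˣ, (k : F) ^ 2 * σ k ≠ 0 := fun k =>
    mul_ne_zero (pow_ne_zero 2 k.ne_zero) (fun h => k.ne_zero ((map_eq_zero σ).1 h))
  have hcardU : ((Fintype.card Fˣ : ℕ) : F) = -1 := by
    have h1 : Fintype.card F = Fintype.card Fˣ + 1 := Fintype.card_eq_card_units_add_one F
    have h2 : ((Fintype.card F : ℕ) : F) = 0 := Nat.cast_card_eq_zero F
    rw [h1] at h2
    push_cast at h2
    linear_combination h2
  have hg : ∀ x y, g (x + y) = g x + g y + D x y := by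
    intro x y
    have h1 : ∀ k : Fˣ, ((k : F) ^ 2 * σ k)⁻¹ * f (k * (x + y)) =
        ((k : F) ^ 2 * σ k)⁻¹ * f (k * x) + ((k : F) ^ 2 * σ k)⁻¹ * f (k * y) + D x y := by
      intro k
      rw [mul_add, hf, heq _ _ _ k.ne_zero, mul_add, mul_add, inv_mul_cancel_left₀ (hk0 k)]
    show -∑ k : Fˣ, ((k : F) ^ 2 * σ k)⁻¹ * f (k * (x + y)) =
      -∑ k : Fˣ, ((k : F) ^ 2 * σ k)⁻¹ * f (k * x) + -∑ k : Fˣ, ((k : F) ^ 2 * σ k)⁻¹ * f (k * y) + D x y
    rw [Finset.sum_congr rfl (fun k _ => h1 k), Finset.sum_add_distrib, Finset.sum_add_distrib, Finset.sum_const,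
      Finset.card_univ, nsmul_eq_mul, hcardU]
    ring
  have hg' : ∀ l : Fˣ, g l = (l : F) ^ 2 * σ l * g 1 := by
    intro l
    show -∑ k : Fˣ, ((k : F) ^ 2 * σ k)⁻¹ * f (k * l) =
      (l : F) ^ 2 * σ l * -∑ k : Fˣ, ((k : F) ^ 2 * σ k)⁻¹ * f (k * 1)
    rw [mul_neg, Finset.mul_sum]
    congr 1
    apply Fintype.sum_equiv (Equiv.mulRight l)
    intro k
    show ((k : F) ^ 2 * σ k)⁻¹ * f (k * l) = (l : F) ^ 2 * σ l * (((((k * l : Fˣ) : F)) ^ 2 * σ ((k * l : Fˣ) : F))⁻¹ *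
      f (((k * l : Fˣ) : F) * 1))
    rw [mul_one, Units.val_mul, map_mul]
    have e : ((k : F) * l) ^ 2 * (σ k * σ l) = ((k : F) ^ 2 * σ k) * ((l : F) ^ 2 * σ l) := by ring
    have hA := hk0 k
    have hB := hk0 l
    rw [e]
    generalize (k : F) ^ 2 * σ k = A at hA ⊢
    generalize (l : F) ^ 2 * σ l = B at hB ⊢
    field_simp
  have hg0 : g 0 = 0 := by
    have h1 := hg 0 0
    rw [add_zero, h0, add_zero] at h1
    exact left_eq_add.1 h1
  have hgx : ∀ x, g x = x ^ 2 * σ x * g 1 := by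
    intro x
    by_cases hx : x = 0
    · rw [hx, hg0]
      ring
    · have := hg' (Units.mk0 x hx)
      rwa [Units.val_mk0] at this
  refine ⟨g 1, fun x y => ?_⟩
  have h1 := hg x y
  rw [hgx (x + y), hgx x, hgx y] at h1
  linear_combination -h1

end cocycle

/-! ### The group -/

/-- the hypotheses -/
structure Data {G : Type*} [Group G] {F : Type*} [Field F] (σ : F →+* F) (U : Subgroup G) (X : G → F)
    (c z : F → G) (h : Fˣ → G) : Prop where
  X_mul : ∀ u ∈ U, ∀ v ∈ U, X (u * v) = X u + X v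
  X_surj : ∀ x, ∃ u ∈ U, X u = x
  X_ker : ∀ u ∈ U, X u = 0 ↔ ∃ y w, u = c y * z w
  c_mem : ∀ y, c y ∈ U
  z_mem : ∀ w, z w ∈ U
  c_mul : ∀ y y', c (y + y') = c y * c y'
  z_mul : ∀ w w', z (w + w') = z w * z w'
  cz : ∀ y w, c y * z w = 1 → y = 0 ∧ w = 0
  z_cen : ∀ w, ∀ u ∈ U, z w * u = u * z w
  comm : ∀ u ∈ U, ∀ v ∈ U, ∃ w, u * v = v * u * c (σ (X u) * X v - X u * σ (X v)) * z w
  beta : ∀ u ∈ U, ∀ y, c y * u = u * c y * z (-(y * X u))
  h_mul : ∀ k l, h (k * l) = h k * h l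
  hU : ∀ k, ∀ u ∈ U, h k * u * (h k)⁻¹ ∈ U
  hX : ∀ k, ∀ u ∈ U, X (h k * u * (h k)⁻¹) = k * X u
  hc : ∀ k y, h k * c y * (h k)⁻¹ = c (k * σ k * y)
  hz : ∀ k w, h k * z w * (h k)⁻¹ = z (k * k * σ k * w)

namespace Data

variable {G : Type*} [Group G] {F : Type*} [Field F] {σ : F →+* F} {U : Subgroup G} {X : G → F}
variable {c z : F → G} {h : Fˣ → G} (L : Data σ U X c z h)
include L

theorem z_zero : z 0 = 1 := by
  have := L.z_mul 0 0
  rw [add_zero] at this
  exact mul_eq_left.1 this.symm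

theorem c_zero : c 0 = 1 := by
  have := L.c_mul 0 0
  rw [add_zero] at this
  exact mul_eq_left.1 this.symm

theorem h_one : h 1 = 1 := by
  have := L.h_mul 1 1
  rw [mul_one] at this
  exact mul_eq_left.1 this.symm

theorem X_one : X 1 = 0 := by
  have := L.X_mul 1 U.one_mem 1 U.one_mem
  rw [mul_one] at this
  exact left_eq_add.1 this

theorem X_c (y : F) : X (c y) = 0 := (L.X_ker _ (L.c_mem y)).2 ⟨y, 0, by rw [L.z_zero, mul_one]⟩

theorem X_z (w : F) : X (z w) = 0 := (L.X_ker _ (L.z_mem w)).2 ⟨0, w, by rw [L.c_zero, one_mul]⟩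

theorem cz_comm (y w : F) : c y * z w = z w * c y := (L.z_cen w _ (L.c_mem y)).symm

/-- uniqueness of the normal form in the kernel of `X` -/
theorem cz_inj {y y' w w' : F} (e : c y * z w = c y' * z w') : y = y' ∧ w = w' := by
  have h1 : c (y - y') * z (w - w') = 1 := by
    have e1 : c (y - y') * c y' = c y := by rw [← L.c_mul, sub_add_cancel]
    have e2 : z (w - w') * z w' = z w := by rw [← L.z_mul, sub_add_cancel]
    have e4 : c (y - y') * z (w - w') * (c y' * z w') = c y * z w := by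
      calc c (y - y') * z (w - w') * (c y' * z w') = c (y - y') * (z (w - w') * c y') * z w' := by group
        _ = c (y - y') * c y' * (z (w - w') * z w') := by rw [← L.cz_comm]; group
        _ = _ := by rw [e1, e2]
    rw [e] at e4
    exact mul_eq_right.1 e4
  obtain ⟨h2, h4⟩ := L.cz _ _ h1
  exact ⟨sub_eq_zero.1 h2, sub_eq_zero.1 h4⟩

theorem cz_mul (y y' w w' : F) : c y * z w * (c y' * z w') = c (y + y') * z (w + w') := by
  rw [L.c_mul, L.z_mul]
  calc c y * z w * (c y' * z w') = c y * (z w * c y') * z w' := by group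
    _ = _ := by rw [← L.cz_comm]; group

theorem neg_one_conj_c (y : F) : h (-1) * c y * (h (-1))⁻¹ = c y := by
  rw [L.hc, Units.val_neg, Units.val_one, map_neg, map_one]
  congr 1; ring

theorem neg_one_conj_z (w : F) : h (-1) * z w * (h (-1))⁻¹ = z (-w) := by
  rw [L.hz, Units.val_neg, Units.val_one, map_neg, map_one]
  congr 1; ring

theorem conj_conj (u : G) : h (-1) * (h (-1) * u * (h (-1))⁻¹) * (h (-1))⁻¹ = u := by
  have e : h (-1) * h (-1) = 1 := by rw [← L.h_mul, neg_mul_neg, one_mul, L.h_one]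
  have e' : (h (-1))⁻¹ = h (-1) := inv_eq_of_mul_eq_one_left e
  rw [e']
  calc h (-1) * (h (-1) * u * h (-1)) * h (-1) = (h (-1) * h (-1)) * u * (h (-1) * h (-1)) := by group
    _ = u := by rw [e, one_mul, mul_one]

theorem exists_u1 (h3 : (3 : F) = 0) : ∃ u ∈ U, X u = 1 ∧ h (-1) * u * (h (-1))⁻¹ = u⁻¹ := by
  obtain ⟨u, hu, hXu⟩ := L.X_surj 1
  set v := h (-1) * u * (h (-1))⁻¹ with hv
  have hvU : v ∈ U := L.hU _ u hu
  have hXv : X v = -1 := by rw [hv, L.hX _ u hu, hXu, Units.val_neg, Units.val_one, mul_one]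
  obtain ⟨y0, w0, e0⟩ := (L.X_ker (v * u) (U.mul_mem hvU hu)).1 (by rw [L.X_mul _ hvU _ hu, hXv, hXu, neg_add_cancel])
  have hu' : u * c y0 ∈ U := U.mul_mem hu (L.c_mem y0)
  refine ⟨u * c y0, hu', by rw [L.X_mul _ hu _ (L.c_mem _), L.X_c, hXu, add_zero], ?_⟩
  have e1 : h (-1) * (u * c y0) * (h (-1))⁻¹ = v * c y0 := by
    calc h (-1) * (u * c y0) * (h (-1))⁻¹ = (h (-1) * u * (h (-1))⁻¹) * (h (-1) * c y0 * (h (-1))⁻¹) := by group
      _ = _ := by rw [L.neg_one_conj_c]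
  -- `v c(y0) u c(y0) = z(w1)`
  have e2 : (v * c y0) * (u * c y0) = z (w0 - y0) := by
    calc (v * c y0) * (u * c y0) = v * (c y0 * u) * c y0 := by group
      _ = v * (u * c y0 * z (-(y0 * 1))) * c y0 := by rw [L.beta u hu y0, hXu]
      _ = (v * u) * (c y0 * z (-(y0 * 1))) * (c y0 * z 0) := by rw [L.z_zero]; group
      _ = z (w0 - y0) := by
        rw [e0, L.cz_mul, L.cz_mul]
        have e3 : y0 + y0 + y0 = 0 := by linear_combination y0 * h3
        rw [e3, L.c_zero, one_mul]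
        congr 1; ring
  have e5 : z (w0 - y0) = 1 := by
    set u' := u * c y0 with hu''
    set v' := v * c y0 with hv''
    have a1 : h (-1) * (v' * u') * (h (-1))⁻¹ = u' * v' := by
      have a2 : h (-1) * v' * (h (-1))⁻¹ = u' := by rw [← e1, L.conj_conj]
      calc h (-1) * (v' * u') * (h (-1))⁻¹ = (h (-1) * v' * (h (-1))⁻¹) * (h (-1) * u' * (h (-1))⁻¹) := by group
        _ = u' * v' := by rw [a2, e1]
    have a4 : u' * v' = z (w0 - y0) := by
      have a5 := L.z_cen (w0 - y0) u' hu'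
      rw [← e2] at a5
      have : u' * v' * u' = (v' * u') * u' := by rw [a5]; group
      rw [← e2]
      exact mul_right_cancel this
    rw [a4, e2, L.neg_one_conj_z] at a1
    have a6 := L.cz_inj (y := 0) (y' := 0) (by rw [a1] : c 0 * z (-(w0 - y0)) = c 0 * z (w0 - y0))
    have a7 : w0 - y0 = 0 := by linear_combination (w0 - y0) * h3 + a6.2
    rw [a7, L.z_zero]
  rw [e1, eq_inv_iff_mul_eq_one, e2, e5]

open Classical in
/-- the section of `X` -/
noncomputable def sec (h : Fˣ → G) (u1 : G) (x : F) : G :=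
  if hx : x = 0 then 1 else h (Units.mk0 x hx) * u1 * (h (Units.mk0 x hx))⁻¹

variable {u1 : G} (hu1 : u1 ∈ U) (hXu1 : X u1 = 1) (hj : h (-1) * u1 * (h (-1))⁻¹ = u1⁻¹)

omit L in
theorem sec_zero : sec h u1 (0 : F) = 1 := by
  unfold sec; rw [dif_pos rfl]

omit L in
theorem sec_unit (k : Fˣ) : sec h u1 (k : F) = h k * u1 * (h k)⁻¹ := by
  unfold sec; rw [dif_neg k.ne_zero]
  have : Units.mk0 (k : F) k.ne_zero = k := Units.ext rfl
  rw [this]

theorem sec_conj (k : Fˣ) (x : F) : h k * sec h u1 x * (h k)⁻¹ = sec h u1 (k * x) := by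
  by_cases hx : x = 0
  · rw [hx, mul_zero, sec_zero, mul_one, mul_inv_cancel]
  · obtain ⟨l, rfl⟩ : ∃ l : Fˣ, (l : F) = x := ⟨Units.mk0 x hx, rfl⟩
    rw [← Units.val_mul, sec_unit, sec_unit, L.h_mul]
    group

include hu1 in
theorem sec_mem (x : F) : sec h u1 x ∈ U := by
  by_cases hx : x = 0
  · rw [hx, sec_zero]; exact U.one_mem
  · obtain ⟨l, rfl⟩ : ∃ l : Fˣ, (l : F) = x := ⟨Units.mk0 x hx, rfl⟩
    rw [sec_unit]
    exact L.hU l u1 hu1

include hu1 hXu1 in
theorem X_sec (x : F) : X (sec h u1 x) = x := by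
  by_cases hx : x = 0
  · rw [hx, sec_zero, L.X_one]
  · obtain ⟨l, rfl⟩ : ∃ l : Fˣ, (l : F) = x := ⟨Units.mk0 x hx, rfl⟩
    rw [sec_unit, L.hX l u1 hu1, hXu1, mul_one]

include hj in
theorem sec_neg (x : F) : sec h u1 (-x) = (sec h u1 x)⁻¹ := by
  by_cases hx : x = 0
  · rw [hx, neg_zero, sec_zero, inv_one]
  · obtain ⟨l, rfl⟩ : ∃ l : Fˣ, (l : F) = x := ⟨Units.mk0 x hx, rfl⟩
    have e : -(l : F) = ((l * (-1) : Fˣ) : F) := by rw [mul_neg_one, Units.val_neg]
    rw [e, sec_unit, sec_unit, L.h_mul]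
    calc h l * h (-1) * u1 * (h l * h (-1))⁻¹ = h l * (h (-1) * u1 * (h (-1))⁻¹) * (h l)⁻¹ := by group
      _ = _ := by rw [hj]; group

include hu1 hXu1 in
theorem exists_pr (x y : F) : ∃ p r, sec h u1 x * sec h u1 y = sec h u1 (x + y) * (c p * z r) := by
  have hs := L.sec_mem hu1
  have hX := L.X_sec hu1 hXu1
  have hmem : (sec h u1 (x + y))⁻¹ * (sec h u1 x * sec h u1 y) ∈ U :=
    U.mul_mem (U.inv_mem (hs _)) (U.mul_mem (hs _) (hs _))
  have h0 : X ((sec h u1 (x + y))⁻¹ * (sec h u1 x * sec h u1 y)) = 0 := by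
    have h1 := L.X_mul _ (hs (x + y)) _ hmem
    rw [mul_inv_cancel_left, L.X_mul _ (hs x) _ (hs y), hX, hX, hX] at h1
    exact left_eq_add.1 h1
  obtain ⟨p, r, e⟩ := (L.X_ker _ hmem).1 h0
  exact ⟨p, r, by rw [← e, mul_inv_cancel_left]⟩

theorem c_mul_mul {v : G} (hv : v ∈ U) (p r : F) : c p * z r * v = v * (c p * z (r - p * X v)) := by
  calc c p * z r * v = c p * (z r * v) := by group
    _ = (c p * v) * z r := by rw [L.z_cen r v hv]; group
    _ = v * c p * (z (-(p * X v)) * z r) := by rw [L.beta v hv p]; group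
    _ = _ := by
      rw [← L.z_mul]
      have : -(p * X v) + r = r - p * X v := by ring
      rw [this]; group

include hu1 hXu1 hj in
theorem pr_symm {x y p r p' r' : F} (e : sec h u1 x * sec h u1 y = sec h u1 (x + y) * (c p * z r))
    (e' : sec h u1 y * sec h u1 x = sec h u1 (y + x) * (c p' * z r')) : p' = -p ∧ r' = r + p * (x + y) := by
  have h1 : h (-1) * (sec h u1 x * sec h u1 y) * (h (-1))⁻¹ = sec h u1 (-(x + y)) * (c p * z (-r)) := by
    rw [e]
    calc h (-1) * (sec h u1 (x + y) * (c p * z r)) * (h (-1))⁻¹ = (h (-1) * sec h u1 (x + y) * (h (-1))⁻¹) *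
          ((h (-1) * c p * (h (-1))⁻¹) * (h (-1) * z r * (h (-1))⁻¹)) := by group
      _ = _ := by
        rw [L.neg_one_conj_c, L.neg_one_conj_z, L.sec_conj, Units.val_neg, Units.val_one, neg_one_mul]
  have h2 : h (-1) * (sec h u1 x * sec h u1 y) * (h (-1))⁻¹ = (sec h u1 y * sec h u1 x)⁻¹ := by
    calc h (-1) * (sec h u1 x * sec h u1 y) * (h (-1))⁻¹ = (h (-1) * sec h u1 x * (h (-1))⁻¹) *
          (h (-1) * sec h u1 y * (h (-1))⁻¹) := by group
      _ = _ := by
        rw [L.sec_conj, L.sec_conj, Units.val_neg, Units.val_one, neg_one_mul, neg_one_mul, L.sec_neg hj,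
          L.sec_neg hj, mul_inv_rev]
  have h3 : sec h u1 (y + x) * (c p' * z r') * (sec h u1 (-(x + y)) * (c p * z (-r))) = 1 := by
    rw [← e', ← h1, h2, mul_inv_cancel]
  have h4 : c (p' + p) * z (r' - p' * (-(x + y)) + -r) = 1 := by
    rw [← h3]
    calc c (p' + p) * z (r' - p' * (-(x + y)) + -r)
        = sec h u1 (y + x) * (sec h u1 (y + x))⁻¹ * (c p' * z (r' - p' * (-(x + y))) * (c p * z (-r))) := by
          rw [L.cz_mul]; group
      _ = sec h u1 (y + x) * (sec h u1 (-(x + y)) * (c p' * z (r' - p' * (-(x + y))))) * (c p * z (-r)) := by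
          rw [L.sec_neg hj (x + y), add_comm x y]; group
      _ = _ := by
        have e5 := L.c_mul_mul (L.sec_mem hu1 (-(x + y))) p' r'
        rw [L.X_sec hu1 hXu1] at e5
        rw [← e5]; group
  obtain ⟨h5, h6⟩ := L.cz _ _ h4
  refine ⟨by linear_combination h5, ?_⟩
  have h7 : p' = -p := by linear_combination h5
  rw [h7] at h6
  linear_combination h6

include hu1 hXu1 hj in
theorem exists_r (h3 : (3 : F) = 0) (x y : F) : ∃ r, sec h u1 x * sec h u1 y =
    sec h u1 (x + y) * (c (x * σ y - σ x * y) * z r) := by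
  obtain ⟨p, r, e⟩ := L.exists_pr hu1 hXu1 x y
  obtain ⟨p', r', e'⟩ := L.exists_pr hu1 hXu1 y x
  obtain ⟨h1, h2⟩ := L.pr_symm hu1 hXu1 hj e e'
  obtain ⟨w, hw⟩ := L.comm _ (L.sec_mem hu1 x) _ (L.sec_mem hu1 y)
  rw [L.X_sec hu1 hXu1, L.X_sec hu1 hXu1] at hw
  have h4 : c p * z r = c (p' + (σ x * y - x * σ y)) * z (r' + w) := by
    have h5 : sec h u1 (x + y) * (c p * z r) = sec h u1 (x + y) * (c (p' + (σ x * y - x * σ y)) * z (r' + w)) := by
      rw [← e, hw, e', add_comm y x, ← L.cz_mul]; group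
    exact mul_left_cancel h5
  obtain ⟨h6, _⟩ := L.cz_inj h4
  refine ⟨r, ?_⟩
  rw [e]
  have h7 : p = x * σ y - σ x * y := by
    rw [h1] at h6
    linear_combination p * h3 - h6
  rw [h7]

/-- **The law.** -/
theorem main [Fintype F] (h3 : (3 : F) = 0) (hσ : ∃ x, σ x ≠ x) :
    ∃ V : F × F × F → G, (∀ p, V p ∈ U) ∧ (∀ p q, V (mul σ p q) = V p * V q) ∧ (∀ u ∈ U, ∃ p, V p = u) ∧
      Function.Injective V ∧ (∀ (k : Fˣ) p, h k * V p * (h k)⁻¹ = V (dil σ k p)) ∧ (∀ y, V (0, y, 0) = c y) ∧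
      (∀ w, V (0, 0, w) = z w) ∧ ∀ p, X (V p) = p.1 := by
  obtain ⟨u1, hu1, hXu1, hj⟩ := L.exists_u1 h3
  choose R hR using L.exists_r hu1 hXu1 hj h3
  have hs := L.sec_mem hu1
  have hX := L.X_sec hu1 hXu1
  have R_symm : ∀ x y, R y x = R x y + (x * σ y - σ x * y) * (x + y) := fun x y =>
    (L.pr_symm hu1 hXu1 hj (hR x y) (hR y x)).2
  have R_coc : ∀ x y v, R (x + y) v + R x y - (x * σ y - σ x * y) * v = R x (y + v) + R y v := by
    intro x y v
    have e1 : sec h u1 x * sec h u1 y * sec h u1 v = sec h u1 (x + y + v) *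
        (c ((x + y) * σ v - σ (x + y) * v + (x * σ y - σ x * y)) * z (R (x + y) v + (R x y - (x * σ y - σ x * y) * v))) := by
      have e5 := L.c_mul_mul (hs v) (x * σ y - σ x * y) (R x y)
      rw [hX] at e5
      rw [hR x y, mul_assoc, e5, ← mul_assoc, hR (x + y) v, mul_assoc, L.cz_mul]
    have e2 : sec h u1 x * sec h u1 y * sec h u1 v = sec h u1 (x + y + v) *
        (c (x * σ (y + v) - σ x * (y + v) + (y * σ v - σ y * v)) * z (R x (y + v) + R y v)) := by
      rw [mul_assoc, hR y v, ← mul_assoc, hR x (y + v), mul_assoc, L.cz_mul, add_assoc]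
    have e4 := mul_left_cancel (e1.symm.trans e2)
    have e5 := (L.cz_inj e4).2
    linear_combination e5
  have R_eq : ∀ (k : Fˣ) x y, R (k * x) (k * y) = (k : F) ^ 2 * σ k * R x y := by
    intro k x y
    have e1 : h k * (sec h u1 x * sec h u1 y) * (h k)⁻¹ = sec h u1 (k * x) * sec h u1 (k * y) := by
      rw [← L.sec_conj, ← L.sec_conj]; group
    rw [hR x y, hR (k * x) (k * y)] at e1
    have e2 : h k * (sec h u1 (x + y) * (c (x * σ y - σ x * y) * z (R x y))) * (h k)⁻¹ =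
        sec h u1 (k * x + k * y) * (c (k * σ k * (x * σ y - σ x * y)) * z (k * k * σ k * R x y)) := by
      rw [← mul_add, ← L.sec_conj, ← L.hc, ← L.hz]; group
    rw [e2] at e1
    have e4 := (L.cz_inj (mul_left_cancel e1)).2
    rw [← e4]; ring
  have R_zero : R 0 0 = 0 := by
    have e1 := hR 0 0
    rw [add_zero, sec_zero, one_mul, one_mul] at e1
    have e2 := L.cz _ _ e1.symm
    exact e2.2
  obtain ⟨κ, hκ⟩ := cocycle_trivial (D := fun x y => R x y - (-(x ^ 2 * σ y) + x * y * σ y - x * y * σ x)) h3 σ hσ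
    (fun x y => by
      show R x y - (-(x ^ 2 * σ y) + x * y * σ y - x * y * σ x) = R y x - (-(y ^ 2 * σ x) + y * x * σ x - y * x * σ y)
      rw [R_symm x y]
      linear_combination (-(x * y * σ y) + x * y * σ x) * h3)
    (fun x y v => by
      show R (x + y) v - (-((x + y) ^ 2 * σ v) + (x + y) * v * σ v - (x + y) * v * σ (x + y)) +
          (R x y - (-(x ^ 2 * σ y) + x * y * σ y - x * y * σ x)) =
        R x (y + v) - (-(x ^ 2 * σ (y + v)) + x * (y + v) * σ (y + v) - x * (y + v) * σ x) +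
          (R y v - (-(y ^ 2 * σ v) + y * v * σ v - y * v * σ y))
      have e := R_coc x y v
      rw [map_add, map_add]
      linear_combination e + (x * y * σ v + x * σ y * v) * h3)
    (by
      show R 0 0 - (-(0 ^ 2 * σ 0) + 0 * 0 * σ 0 - 0 * 0 * σ 0) = 0
      rw [R_zero]; ring)
    (fun k x y hk => by
      show R (k * x) (k * y) - (-((k * x) ^ 2 * σ (k * y)) + k * x * (k * y) * σ (k * y) - k * x * (k * y) * σ (k * x)) =
        k ^ 2 * σ k * (R x y - (-(x ^ 2 * σ y) + x * y * σ y - x * y * σ x))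
      have e := R_eq (Units.mk0 k hk) x y
      rw [Units.val_mk0] at e
      rw [e, map_mul, map_mul]
      ring)
  have hR' : ∀ x y, R x y = -(x ^ 2 * σ y) + x * y * σ y - x * y * σ x +
      κ * ((x + y) ^ 2 * σ (x + y) - x ^ 2 * σ x - y ^ 2 * σ y) := by
    intro x y
    linear_combination hκ x y
  refine ⟨fun p => sec h u1 p.1 * (c (p.2.1 - p.1 * σ p.1) * z (p.2.2 + κ * (p.1 ^ 2 * σ p.1))), ?_, ?_, ?_, ?_, ?_,
    ?_, ?_, ?_⟩
  · exact fun p => U.mul_mem (hs _) (U.mul_mem (L.c_mem _) (L.z_mem _))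
  · rintro ⟨a, b, w⟩ ⟨a', b', w'⟩
    show sec h u1 (a + a') * (c (b + b' - a * σ a' - (a + a') * σ (a + a')) *
        z (w + w' - b * a' - a ^ 2 * σ a' + a * a' * σ a' + κ * ((a + a') ^ 2 * σ (a + a')))) =
      sec h u1 a * (c (b - a * σ a) * z (w + κ * (a ^ 2 * σ a))) *
        (sec h u1 a' * (c (b' - a' * σ a') * z (w' + κ * (a' ^ 2 * σ a'))))
    have e5 := L.c_mul_mul (hs a') (b - a * σ a) (w + κ * (a ^ 2 * σ a))
    rw [hX] at e5
    have e6 : sec h u1 a * (c (b - a * σ a) * z (w + κ * (a ^ 2 * σ a))) *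
        (sec h u1 a' * (c (b' - a' * σ a') * z (w' + κ * (a' ^ 2 * σ a')))) =
        (sec h u1 a * sec h u1 a') * ((c (b - a * σ a) * z (w + κ * (a ^ 2 * σ a) - (b - a * σ a) * a')) *
          (c (b' - a' * σ a') * z (w' + κ * (a' ^ 2 * σ a')))) := by
      calc _ = sec h u1 a * (c (b - a * σ a) * z (w + κ * (a ^ 2 * σ a)) * sec h u1 a') *
            (c (b' - a' * σ a') * z (w' + κ * (a' ^ 2 * σ a'))) := by group
        _ = _ := by rw [e5]; group
    rw [e6, hR a a', mul_assoc (sec h u1 (a + a')), L.cz_mul, L.cz_mul, hR' a a']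
    congr 2
    · congr 1
      rw [map_add]
      linear_combination (-(a * σ a')) * h3
    · congr 1
      rw [map_add]
      ring
  · intro u hu
    have hmem : (sec h u1 (X u))⁻¹ * u ∈ U := U.mul_mem (U.inv_mem (hs _)) hu
    have h0 : X ((sec h u1 (X u))⁻¹ * u) = 0 := by
      have h1 := L.X_mul _ (hs (X u)) _ hmem
      rw [mul_inv_cancel_left, hX] at h1
      exact left_eq_add.1 h1
    obtain ⟨y, w, e⟩ := (L.X_ker _ hmem).1 h0
    refine ⟨(X u, y + X u * σ (X u), w - κ * (X u ^ 2 * σ (X u))), ?_⟩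
    show sec h u1 (X u) * (c (y + X u * σ (X u) - X u * σ (X u)) *
      z (w - κ * (X u ^ 2 * σ (X u)) + κ * (X u ^ 2 * σ (X u)))) = u
    rw [add_sub_cancel_right, sub_add_cancel, ← e, mul_inv_cancel_left]
  · have hXV : ∀ p : F × F × F, X (sec h u1 p.1 * (c (p.2.1 - p.1 * σ p.1) * z (p.2.2 + κ * (p.1 ^ 2 * σ p.1)))) = p.1 := by
      intro p
      rw [L.X_mul _ (hs _) _ (U.mul_mem (L.c_mem _) (L.z_mem _)), L.X_mul _ (L.c_mem _) _ (L.z_mem _), hX, L.X_c, L.X_z,
        add_zero, add_zero]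
    rintro ⟨a, b, w⟩ ⟨a', b', w'⟩ e
    have ha : a = a' := by
      have h1 := hXV (a, b, w)
      have h2 := hXV (a', b', w')
      have e' : sec h u1 (a, b, w).1 * (c ((a, b, w).2.1 - (a, b, w).1 * σ (a, b, w).1) *
          z ((a, b, w).2.2 + κ * ((a, b, w).1 ^ 2 * σ (a, b, w).1))) =
        sec h u1 (a', b', w').1 * (c ((a', b', w').2.1 - (a', b', w').1 * σ (a', b', w').1) *
          z ((a', b', w').2.2 + κ * ((a', b', w').1 ^ 2 * σ (a', b', w').1))) := e
      rw [e', h2] at h1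
      exact h1.symm
    subst ha
    have e1 : sec h u1 a * (c (b - a * σ a) * z (w + κ * (a ^ 2 * σ a))) =
      sec h u1 a * (c (b' - a * σ a) * z (w' + κ * (a ^ 2 * σ a))) := e
    obtain ⟨e2, e4⟩ := L.cz_inj (mul_left_cancel e1)
    have hb : b = b' := by linear_combination e2
    have hw : w = w' := by linear_combination e4
    rw [hb, hw]
  · rintro k ⟨a, b, w⟩
    show h k * (sec h u1 a * (c (b - a * σ a) * z (w + κ * (a ^ 2 * σ a)))) * (h k)⁻¹ =
      sec h u1 (k * a) * (c (k * σ k * b - k * a * σ (k * a)) * z ((k : F) ^ 2 * σ k * w + κ * ((k * a) ^ 2 * σ (k * a))))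
    calc h k * (sec h u1 a * (c (b - a * σ a) * z (w + κ * (a ^ 2 * σ a)))) * (h k)⁻¹
        = (h k * sec h u1 a * (h k)⁻¹) * ((h k * c (b - a * σ a) * (h k)⁻¹) *
          (h k * z (w + κ * (a ^ 2 * σ a)) * (h k)⁻¹)) := by group
      _ = _ := by
        rw [L.sec_conj, L.hc, L.hz, map_mul]
        congr 3 <;> ring_nf
  · intro y
    show sec h u1 0 * (c (y - 0 * σ 0) * z (0 + κ * (0 ^ 2 * σ 0))) = c y
    have e1 : y - 0 * σ 0 = y := by ring
    have e2 : 0 + κ * (0 ^ 2 * σ 0) = 0 := by ring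
    rw [sec_zero, one_mul, e1, e2, L.z_zero, mul_one]
  · intro w
    show sec h u1 0 * (c (0 - 0 * σ 0) * z (w + κ * (0 ^ 2 * σ 0))) = z w
    have e1 : 0 - 0 * σ 0 = 0 := by ring
    have e2 : w + κ * (0 ^ 2 * σ 0) = w := by ring
    rw [sec_zero, one_mul, e1, e2, L.c_zero, one_mul]
  · intro p
    show X (sec h u1 p.1 * (c (p.2.1 - p.1 * σ p.1) * z (p.2.2 + κ * (p.1 ^ 2 * σ p.1)))) = p.1
    rw [L.X_mul _ (hs _) _ (U.mul_mem (L.c_mem _) (L.z_mem _)), L.X_mul _ (L.c_mem _) _ (L.z_mem _), hX, L.X_c, L.X_z,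
      add_zero, add_zero]

end Data

end LawOfData

/-- **The explicit law of the Sylow 3-subgroup.** -/
theorem exists_law {G : Type*} [Group G] {F : Type*} [Field F] [Finite F] {n : ℕ} (_hn : Odd n) (hn1 : 1 < n)
    (hcard : Nat.card F = 3 ^ n) (σ : F ≃+* F) (hσ : σ ≠ 1) (U : Subgroup G) (X : G → F) (c z : F → G)
    (h : Fˣ → G) (hX_mul : ∀ u ∈ U, ∀ v ∈ U, X (u * v) = X u + X v) (hX_surj : ∀ x, ∃ u ∈ U, X u = x)
    (hX_ker : ∀ u ∈ U, X u = 0 ↔ ∃ y w, u = c y * z w) (hc_mem : ∀ y, c y ∈ U) (hz_mem : ∀ w, z w ∈ U)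
    (hc_mul : ∀ y y', c (y + y') = c y * c y') (hz_mul : ∀ w w', z (w + w') = z w * z w')
    (hcz : ∀ y w, c y * z w = 1 → y = 0 ∧ w = 0) (hz_cen : ∀ w, ∀ u ∈ U, z w * u = u * z w)
    (hcomm : ∀ u ∈ U, ∀ v ∈ U, ∃ w, u * v = v * u * c (σ (X u) * X v - X u * σ (X v)) * z w)
    (hbeta : ∀ u ∈ U, ∀ y, c y * u = u * c y * z (-(y * X u)))
    (hh_mul : ∀ k l, h (k * l) = h k * h l) (hhU : ∀ k, ∀ u ∈ U, h k * u * (h k)⁻¹ ∈ U)
    (hhX : ∀ k, ∀ u ∈ U, X (h k * u * (h k)⁻¹) = k * X u)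
    (hhc : ∀ k y, h k * c y * (h k)⁻¹ = c (k * σ k * y))
    (hhz : ∀ k w, h k * z w * (h k)⁻¹ = z (k * k * σ k * w)) :
    ∃ V : F × F × F → G, (∀ p, V p ∈ U) ∧ (∀ p q, V (mul (σ : F →+* F) p q) = V p * V q) ∧
      (∀ u ∈ U, ∃ p, V p = u) ∧ Function.Injective V ∧
      (∀ (k : Fˣ) p, h k * V p * (h k)⁻¹ = V (dil (σ : F →+* F) k p)) ∧ (∀ y, V (0, y, 0) = c y) ∧
      (∀ w, V (0, 0, w) = z w) ∧ ∀ p, X (V p) = p.1 := by
  letI : Fintype F := Fintype.ofFinite F
  have h3 : (3 : F) = 0 := by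
    have h1 : ((Fintype.card F : ℕ) : F) = 0 := Nat.cast_card_eq_zero F
    rw [← Nat.card_eq_fintype_card, hcard, Nat.cast_pow, pow_eq_zero_iff (by omega)] at h1
    exact_mod_cast h1
  have hσ' : ∃ x, (σ : F →+* F) x ≠ x := by
    by_contra hcon
    push Not at hcon
    exact hσ (RingEquiv.ext hcon)
  exact LawOfData.Data.main (σ := (σ : F →+* F)) ⟨hX_mul, hX_surj, hX_ker, hc_mem, hz_mem, hc_mul, hz_mul, hcz, hz_cen,
    hcomm, hbeta, hh_mul, hhU, hhX, hhc, hhz⟩ h3 hσ'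

end Cfsg.Agent.ReeUniq
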