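import Mathlib

/-!
# Arithmetic for the two-graph argument (S1149, NONDEG)
-/

set_option autoImplicit false

namespace Cfsg.Agent.ReeUniq.TwoGraphNT

/-- Sum of an invariant function over a free action is divisible by the order of the group. -/
theorem dvd_sum_of_free {K X : Type*} [Group K] [Fintype K] [Fintype X] (act : K → X → X)
    (h1 : ∀ x, act 1 x = x) (hmul : ∀ k l x, act (k * l) x = act k (act l x))
    (hfree : ∀ k x, act k x = x → k = 1) (F : X → ℤ) (hF : ∀ k x, F (act k x) = F x) :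
    (Fintype.card K : ℤ) ∣ ∑ x, F x := by
  classical
  let _ : MulAction K X := { smul := act, one_smul := h1, mul_smul := hmul }
  have hsm : ∀ k x, k • x = act k x := fun _ _ => rfl
  rw [← Finset.sum_fiberwise (Finset.univ : Finset X)
    (fun x => (Quotient.mk'' x : MulAction.orbitRel.Quotient K X)) F]
  refine Finset.dvd_sum fun ω _ => ?_
  induction ω using Quotient.inductionOn' with
  | h x0 =>
    have hfil : (Finset.univ.filter fun x : X =>
        (Quotient.mk'' x : MulAction.orbitRel.Quotient K X) = Quotient.mk'' x0) =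
        Finset.univ.image fun k : K => k • x0 := by
      ext x
      simp only [Finset.mem_filter, Finset.mem_univ, true_and, Finset.mem_image]
      rw [Quotient.eq'']
      rfl
    have hinj : Function.Injective fun k : K => k • x0 := by
      intro k l hkl
      have h2 : (l⁻¹ * k) • x0 = x0 := by
        have hkl' : k • x0 = l • x0 := hkl
        rw [mul_smul, hkl', inv_smul_smul]
      have h3 := hfree _ _ ((hsm _ _).symm.trans h2)
      rw [inv_mul_eq_one] at h3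
      exact h3.symm
    rw [hfil, Finset.sum_image fun a _ b _ h => hinj h]
    have : ∀ k : K, F (k • x0) = F x0 := fun k => hF k x0
    simp only [this, Finset.sum_const, Finset.card_univ, nsmul_eq_mul]
    exact Dvd.intro _ rfl

/-- If `(3^n - 1)/2` divides `3^(2k) - 1` with `n` odd and `k < n` then `k = 0`. -/
theorem k_eq_zero {n k : ℕ} (hn : Odd n) (hk : k < n) (h : (3 ^ n - 1) / 2 ∣ 3 ^ (2 * k) - 1) :
    k = 0 := by
  by_contra hk0
  have hpos : 0 < k := Nat.pos_of_ne_zero hk0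
  have hnpos : 0 < n := by omega
  have h3n : 3 ^ n % 2 = 1 := by
    rw [Nat.pow_mod]; norm_num
  have h3n' : 3 ≤ 3 ^ n := by
    calc 3 = 3 ^ 1 := (pow_one 3).symm
      _ ≤ 3 ^ n := Nat.pow_le_pow_right (by norm_num) hnpos
  have hm2 : (3 ^ n - 1) / 2 * 2 = 3 ^ n - 1 := by omega
  have h1 : (3 ^ n - 1) / 2 ∣ 3 ^ n - 1 := Dvd.intro _ hm2
  have h2 : (3 ^ n - 1) / 2 ∣ 3 ^ (Nat.gcd (2 * k) n) - 1 := by
    rw [← Nat.pow_sub_one_gcd_pow_sub_one]
    exact Nat.dvd_gcd h h1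
  have hgcd : Nat.gcd (2 * k) n = Nat.gcd k n := by
    have hc : Nat.Coprime 2 n := (Nat.coprime_two_left).2 hn
    exact Nat.Coprime.gcd_mul_left_cancel k hc
  rw [hgcd] at h2
  set e := Nat.gcd k n with he
  have hepos : 0 < e := Nat.gcd_pos_of_pos_left n hpos
  have hek : e ≤ k := Nat.gcd_le_left n hpos
  obtain ⟨m, hm⟩ := Nat.gcd_dvd_right k n
  rw [← he] at hm
  have hm3 : 3 ≤ m := by
    have hmodd : Odd m := by
      rw [hm] at hn
      exact (Nat.odd_mul.1 hn).2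
    rcases hmodd with ⟨r, hr⟩
    rcases Nat.eq_zero_or_pos r with h0 | h0
    · exfalso
      rw [h0] at hr
      rw [hr] at hm
      omega
    · omega
  have h3e : 3 * e ≤ n := by rw [hm]; nlinarith
  have h4 : (3 ^ n - 1) / 2 ≤ 3 ^ e - 1 := by
    apply Nat.le_of_dvd _ h2
    have : 3 ^ 1 ≤ 3 ^ e := Nat.pow_le_pow_right (by norm_num) hepos
    omega
  have h5 : 3 ^ (3 * e) ≤ 3 ^ n := Nat.pow_le_pow_right (by norm_num) h3e
  have h6 : 3 ^ (3 * e) = 3 ^ e * (3 ^ e * 3 ^ e) := by ring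
  have h7 : 3 ≤ 3 ^ e := by
    calc 3 = 3 ^ 1 := (pow_one 3).symm
      _ ≤ 3 ^ e := Nat.pow_le_pow_right (by norm_num) hepos
  have h8 : 9 * 3 ^ e ≤ 3 ^ (3 * e) := by
    rw [h6]
    nlinarith [Nat.mul_le_mul h7 h7]
  omega

/-- The three cases for the eigenvalue. -/
theorem cases_g {n : ℕ} (hn : Odd n) {g g0 c : ℤ} (hc : c = g0 + (3 ^ n - 1) * g)
    (hg : g * (g - g0) = (3 ^ n) ^ 2) (hd : (((3 ^ n - 1) / 2 : ℕ) : ℤ) ∣ c) :
    ∃ s : ℤ, s * s = 1 ∧ ((g = -(s * 3 ^ n) ∧ g0 = 0) ∨ (g = -s ∧ g0 = s * ((3 ^ n) ^ 2 - 1)) ∨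
      (g = -(s * (3 ^ n) ^ 2) ∧ g0 = -(s * ((3 ^ n) ^ 2 - 1)))) := by
  have hnpos : 0 < n := hn.pos
  -- `|g| = 3 ^ b`
  have h1 : g.natAbs ∣ 3 ^ (2 * n) := by
    have : g ∣ ((3 ^ (2 * n) : ℕ) : ℤ) := ⟨g - g0, by rw [hg]; push_cast; ring⟩
    exact Int.natCast_dvd_natCast.1 (by simpa using this)
  obtain ⟨b, hb, hgb⟩ := (Nat.dvd_prime_pow Nat.prime_three).1 h1
  have h2 : ∃ s : ℤ, s * s = 1 ∧ g = -(s * 3 ^ b) := by
    rcases Int.natAbs_eq g with h | h
    · refine ⟨-1, by norm_num, ?_⟩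
      rw [h, hgb]; push_cast; ring
    · refine ⟨1, by norm_num, ?_⟩
      rw [h, hgb]; push_cast; ring
  obtain ⟨s, hs, hgs⟩ := h2
  have hs0 : s ≠ 0 := by rintro rfl; norm_num at hs
  have h3b : (3 : ℤ) ^ b ≠ 0 := by positivity
  -- `g0 - g = s 3 ^ (2n - b)`
  have h3 : g0 - g = s * 3 ^ (2 * n - b) := by
    have e1 : (3 : ℤ) ^ b * 3 ^ (2 * n - b) = (3 ^ n) ^ 2 := by
      rw [← pow_add, ← pow_mul]; congr 1; omega
    have e2 : (s * 3 ^ b) * (g0 - g) = (3 ^ n) ^ 2 := by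
      rw [← hg, hgs]; ring
    have e3 : (s * 3 ^ b) * (g0 - g) = (s * 3 ^ b) * (s * 3 ^ (2 * n - b)) := by
      rw [e2]
      calc ((3 : ℤ) ^ n) ^ 2 = (s * s) * (3 ^ b * 3 ^ (2 * n - b)) := by rw [e1, hs, one_mul]
        _ = _ := by ring
    exact mul_left_cancel₀ (mul_ne_zero hs0 h3b) e3
  have hnat : 3 ^ n % 2 = 1 := by rw [Nat.pow_mod]; norm_num
  have hnat3 : 3 ≤ 3 ^ n := by
    calc 3 = 3 ^ 1 := (pow_one 3).symm
      _ ≤ 3 ^ n := Nat.pow_le_pow_right (by norm_num) hnpos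
  have hm2 : (((3 ^ n - 1) / 2 : ℕ) : ℤ) * 2 = 3 ^ n - 1 := by
    have : (3 ^ n - 1) / 2 * 2 = 3 ^ n - 1 := by omega
    have h' : (((3 ^ n - 1) / 2 * 2 : ℕ) : ℤ) = ((3 ^ n - 1 : ℕ) : ℤ) := by rw [this]
    rw [Nat.cast_mul, Nat.cast_sub (show 1 ≤ 3 ^ n by omega)] at h'
    simpa only [Nat.cast_ofNat, Nat.cast_one, Nat.cast_pow] using h'
  -- `m ∣ 3^(2n-b) - 3^b`
  have h4 : (((3 ^ n - 1) / 2 : ℕ) : ℤ) ∣ 3 ^ (2 * n - b) - 3 ^ b := by
    have e1 : s * (3 ^ (2 * n - b) - 3 ^ b) = c - (3 ^ n - 1) * g := by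
      rw [hc]; linear_combination -h3 - hgs
    have e2 : (((3 ^ n - 1) / 2 : ℕ) : ℤ) ∣ s * (3 ^ (2 * n - b) - 3 ^ b) := by
      rw [e1]
      refine dvd_sub hd ?_
      rw [← hm2]
      exact ⟨2 * g, by ring⟩
    have e3 : (3 : ℤ) ^ (2 * n - b) - 3 ^ b = s * (s * (3 ^ (2 * n - b) - 3 ^ b)) := by
      rw [← mul_assoc, hs, one_mul]
    rw [e3]
    exact Dvd.dvd.mul_left e2 s
  have hcop : Nat.Coprime ((3 ^ n - 1) / 2) 3 := by
    have h3 : Nat.Coprime (3 ^ n - 1) 3 := by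
      rw [Nat.coprime_comm, Nat.Prime.coprime_iff_not_dvd Nat.prime_three]
      intro h
      have h' : 3 ∣ 3 ^ n := dvd_pow_self 3 hnpos.ne'
      have := (Nat.dvd_sub h' h)
      have e : 3 ^ n - (3 ^ n - 1) = 1 := by omega
      rw [e] at this
      omega
    exact Nat.Coprime.coprime_dvd_left (Dvd.intro _ (by omega : (3 ^ n - 1) / 2 * 2 = 3 ^ n - 1)) h3
  refine ⟨s, hs, ?_⟩
  rcases lt_trichotomy b n with hbn | hbn | hbn
  · -- `b < n`, `k = n - b`
    right; left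
    obtain ⟨k, rfl⟩ : ∃ k, n = b + k := ⟨n - b, by omega⟩
    have e1 : (3 : ℤ) ^ (2 * (b + k) - b) - 3 ^ b = 3 ^ b * (3 ^ (2 * k) - 1) := by
      have : 2 * (b + k) - b = b + 2 * k := by omega
      rw [this, pow_add]; ring
    rw [e1] at h4
    have h5 : (3 ^ (b + k) - 1) / 2 ∣ 3 ^ b * (3 ^ (2 * k) - 1) := by
      have h6 : ((3 ^ b * (3 ^ (2 * k) - 1) : ℕ) : ℤ) = 3 ^ b * (3 ^ (2 * k) - 1) := by
        push_cast [Nat.cast_sub (Nat.one_le_pow (2 * k) 3 (by norm_num))]; ring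
      rw [← h6] at h4
      exact Int.natCast_dvd_natCast.1 h4
    have h7 := (Nat.Coprime.pow_right b hcop).dvd_of_dvd_mul_left h5
    rcases Nat.lt_or_ge k (b + k) with hk | hk
    · have := k_eq_zero hn hk h7
      omega
    · have hb0 : b = 0 := by omega
      subst hb0
      refine ⟨by rw [hgs]; ring, ?_⟩
      have : g0 = g + s * 3 ^ (2 * (0 + k) - 0) := by linear_combination h3
      rw [this, hgs]
      have e2 : 2 * (0 + k) - 0 = (0 + k) * 2 := by omega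
      rw [e2, pow_mul]; ring
  · left
    subst hbn
    have e2 : 2 * b - b = b := by omega
    rw [e2] at h3
    refine ⟨hgs, ?_⟩
    linear_combination h3 + hgs
  · right; right
    obtain ⟨k, rfl⟩ : ∃ k, b = n + k := ⟨b - n, by omega⟩
    have hkn : k ≤ n := by omega
    have e1 : (3 : ℤ) ^ (2 * n - (n + k)) - 3 ^ (n + k) = -(3 ^ (n - k) * (3 ^ (2 * k) - 1)) := by
      have h5 : 2 * n - (n + k) = n - k := by omega
      have h6 : n + k = (n - k) + 2 * k := by omega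
      rw [h5]
      conv_lhs => rw [h6, pow_add]
      ring
    rw [e1, dvd_neg] at h4
    have h5 : (3 ^ n - 1) / 2 ∣ 3 ^ (n - k) * (3 ^ (2 * k) - 1) := by
      have h6 : ((3 ^ (n - k) * (3 ^ (2 * k) - 1) : ℕ) : ℤ) = 3 ^ (n - k) * (3 ^ (2 * k) - 1) := by
        push_cast [Nat.cast_sub (Nat.one_le_pow (2 * k) 3 (by norm_num))]; ring
      rw [← h6] at h4
      exact Int.natCast_dvd_natCast.1 h4
    have h7 := (Nat.Coprime.pow_right (n - k) hcop).dvd_of_dvd_mul_left h5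
    rcases Nat.lt_or_ge k n with hk | hk
    · have := k_eq_zero hn hk h7
      omega
    · have hk' : k = n := by omega
      subst hk'
      have e3 : k + k = k * 2 := by ring
      refine ⟨by rw [hgs, e3, pow_mul], ?_⟩
      have e2 : 2 * k - (k + k) = 0 := by omega
      rw [e2, pow_zero, mul_one] at h3
      have : g0 = g + s := by linear_combination h3
      rw [this, hgs, e3, pow_mul]; ring

end Cfsg.Agent.ReeUniq.TwoGraphNT
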