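import Cfsg.Agent.ReeUniq.Series2
import Cfsg.Agent.ReeUniq.Law

/-!
# S1149: the relations of the split BN-pair from the coordinates on `U`
-/

set_option autoImplicit false
set_option linter.unusedSectionVars false

namespace Cfsg.Agent.ReeUniq

open MulAction Cfsg.Agent.OddUThree

variable {G Ω : Type*} [Group G] [MulAction G Ω] {U : Ω → Subgroup G} {n : ℕ}

theorem Setup.exists_rel' [Finite G] (S : Setup G Ω U n) {a b : Ω} (hab : a ≠ b) {F : Type*} [Field F]
    (σ : F →+* F) (V : F × F × F → G) (h : Fˣ → G) (hV : ∀ p q, V (mul σ p q) = V p * V q)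
    (hVU : ∀ g, g ∈ U a ↔ ∃ p, V p = g) (hVi : Function.Injective V)
    (hh : ∀ k l, h (k * l) = h k * h l) (hhH : ∀ g, g ∈ HH G a b ↔ ∃ k, h k = g)
    (hhV : ∀ (k : Fˣ) p, h k * V p * (h k)⁻¹ = V (dil σ k p)) :
    ∃ (τ : F × F × F → F × F × F) (R : Rel σ τ G), R.U = V ∧ R.h = h ∧ R.w • a = b ∧ R.w • b = a := by
  obtain ⟨w, hwa, hwb⟩ := S.two a b b a hab hab.symm
  have hww := S.swap_mul_self hab hwa hwb
  have hwinv : w⁻¹ = w := inv_eq_of_mul_eq_one_left hww
  have hVmem : ∀ p, V p ∈ U a := fun p => (hVU _).mpr ⟨p, rfl⟩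
  have hhmem : ∀ k, h k ∈ HH G a b := fun k => (hhH _).mpr ⟨k, rfl⟩
  have hV0 : V 0 = 1 := by
    have := hV 0 0
    rw [zero_mul'] at this
    exact mul_eq_left.mp this.symm
  -- the image of `a` under `w V(p) w`
  have hpt : ∀ p, p ≠ 0 → ∃ q, V q • b = (w * V p * w) • a := by
    intro p hp
    have h1 : (w * V p * w) • a ≠ a := by
      intro h2
      rw [mul_smul, mul_smul, hwa] at h2
      have h3 : V p • b = b := by
        have := congrArg (fun x => w • x) h2
        simp only [smul_smul, ← mul_assoc] at this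
        rw [hww, one_mul] at this
        rw [this, hwa]
      have h4 := S.eq_one_of_U hab.symm (hVmem p) h3
      exact hp (hVi (h4.trans hV0.symm))
    obtain ⟨u, hu, hub⟩ := S.exists_U hab.symm h1
    obtain ⟨q, rfl⟩ := (hVU u).mp hu
    exact ⟨q, hub⟩
  classical
  let τ : F × F × F → F × F × F := fun p => if hp : p ≠ 0 then (hpt p hp).choose else 0
  have hτ : ∀ p, p ≠ 0 → V (τ p) • b = (w * V p * w) • a := by
    intro p hp
    simp only [τ, dif_pos hp]
    exact (hpt p hp).choose_spec
  let R : Rel σ τ G :=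
    { U := V
      h := h
      w := w
      U_mul := hV
      h_mul := hh
      h_U := fun k p => by rw [← hhV, inv_mul_cancel_right]
      w_w := hww
      w_h := fun k => by
        have h1 := S.swap_conj hab hwa hwb (hhmem k)
        have h2 : h k⁻¹ = (h k)⁻¹ := by
          have h3 := hh k⁻¹ k
          have h4 := hh 1 1
          rw [mul_one] at h4
          rw [inv_mul_cancel, mul_eq_left.mp h4.symm] at h3
          exact eq_inv_of_mul_eq_one_left h3.symm
        rw [h2, ← h1]
        rw [mul_assoc, hww, mul_one]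
      rel := fun p hp => by
        have h1 := hτ p hp
        have h2 : ((V (τ p) * w)⁻¹ * (w * V p * w)) • a = a := by
          rw [mul_smul, ← h1, inv_smul_eq_iff, mul_smul, hwa]
        obtain ⟨u, hu, k, hk, e⟩ := S.exists_mul hab (g := ((V (τ p) * w)⁻¹ * (w * V p * w))⁻¹)
          (by rw [inv_smul_eq_iff, h2])
        obtain ⟨k', hk'⟩ := (hhH _).mp ((HH G a b).inv_mem hk)
        obtain ⟨q, hq⟩ := (hVU _).mp ((U a).inv_mem hu)
        refine ⟨k', q, ?_⟩
        have e' := congrArg (fun x => x⁻¹) e
        simp only [inv_inv, mul_inv_rev] at e'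
        rw [hk', hq, mul_assoc (V (τ p) * w), ← e']
        group
      gen := by
        set K := Subgroup.closure (Set.range V ∪ Set.range h ∪ {w}) with hK
        have hVK : ∀ p, V p ∈ K := fun p => Subgroup.subset_closure (Or.inl (Or.inl ⟨p, rfl⟩))
        have hhK : ∀ k, h k ∈ K := fun k => Subgroup.subset_closure (Or.inl (Or.inr ⟨k, rfl⟩))
        have hwK : w ∈ K := Subgroup.subset_closure (Or.inr rfl)
        have hstab : ∀ g : G, g • a = a → g ∈ K := by
          intro g hg
          obtain ⟨u, hu, k, hk, rfl⟩ := S.exists_mul hab hg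
          obtain ⟨p, rfl⟩ := (hVU _).mp hu
          obtain ⟨k', rfl⟩ := (hhH _).mp hk
          exact K.mul_mem (hVK p) (hhK k')
        rw [eq_top_iff]
        intro g _
        by_cases hg : g • a = a
        · exact hstab g hg
        · obtain ⟨u, hu, hub⟩ := S.exists_U hab.symm hg
          obtain ⟨p, rfl⟩ := (hVU _).mp hu
          have h1 : ((V p * w)⁻¹ * g) • a = a := by
            rw [mul_smul, inv_smul_eq_iff, mul_smul, hwa, hub]
          have h2 := K.mul_mem (K.mul_mem (hVK p) hwK) (hstab _ h1)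
          rwa [mul_inv_cancel_left] at h2
      not_mem := fun p k e => by
        have h1 : w • a = a := by
          rw [← e, mul_smul, (mem_HH.mp (hhmem k)).1, S.fix a _ (hVmem p)]
        exact hab (h1.symm.trans hwa)
      faithful := fun g hg => by
        apply S.faithful
        intro x
        have hx : ∃ y : G, y • a = x := by
          by_cases hxa : x = a
          · exact ⟨1, by rw [one_smul, hxa]⟩
          · obtain ⟨y, hy, -⟩ := S.two a b x a hab hxa
            exact ⟨y, hy⟩
        obtain ⟨y, rfl⟩ := hx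
        obtain ⟨p, k, e⟩ := hg y
        have h1 : (y⁻¹ * g * y) • a = a := by
          rw [e, mul_smul, (mem_HH.mp (hhmem k)).1, S.fix a _ (hVmem p)]
        rw [mul_smul, mul_smul, inv_smul_eq_iff] at h1
        exact h1 }
  exact ⟨τ, R, rfl, rfl, hwa, hwb⟩

end Cfsg.Agent.ReeUniq
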