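import Cfsg.Agent.ReeUniq.Comm
import Cfsg.Agent.ReeUniq.NonDeg
import Cfsg.Agent.ReeUniq.Alg
import Cfsg.Agent.ReeUniq.LawOfData
import Cfsg.Agent.ReeUniq.RelFin
import Cfsg.Agent.ReeUniq.PartB

/-!
# S1149, part A: the group law on `U` and the relations `Rel σ τ G`
-/

set_option autoImplicit false
set_option linter.unusedSectionVars false

namespace Cfsg.Agent.ReeUniq

open MulAction Cfsg.Agent.OddUThree

variable {G Ω : Type*} [Group G] [MulAction G Ω] {U : Ω → Subgroup G} {n : ℕ}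

/-- The isomorphism from the multiplicative group of `F` to the torus. -/
theorem exists_torus {F : Type*} [Field F] [Finite F] (g : G) (μ : F) (hμ0 : μ ≠ 0)
    (hμ : ∀ x : F, x ≠ 0 → ∃ i : ℕ, x = μ ^ i) (ho : orderOf g = Nat.card F - 1) :
    ∃ h : Fˣ → G, (∀ k l, h (k * l) = h k * h l) ∧ (∀ k, ∃ i : ℕ, h k = g ^ i ∧ (k : F) = μ ^ i) ∧
      ∀ i : ℕ, ∃ k, h k = g ^ i := by
  classical
  have : Fintype F := Fintype.ofFinite F
  let m : Fˣ := Units.mk0 μ hμ0
  have hm : ∀ k : Fˣ, ∃ i : ℕ, k = m ^ i := by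
    intro k
    obtain ⟨i, hi⟩ := hμ k k.ne_zero
    exact ⟨i, Units.ext (by rw [hi, Units.val_pow_eq_pow_val]; rfl)⟩
  have hom : orderOf m = Nat.card F - 1 := by
    rw [orderOf_eq_card_of_forall_mem_zpowers, Nat.card_units]
    intro k
    obtain ⟨i, rfl⟩ := hm k
    exact Subgroup.pow_mem _ (Subgroup.mem_zpowers m) i
  choose i hi using hm
  have key : ∀ r s : ℕ, m ^ r = m ^ s ↔ g ^ r = g ^ s := by
    intro r s
    rw [pow_eq_pow_iff_modEq, pow_eq_pow_iff_modEq, hom, ho]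
  refine ⟨fun k => g ^ i k, fun k l => ?_, fun k => ⟨i k, rfl, ?_⟩, fun r => ⟨m ^ r, ?_⟩⟩
  · show g ^ i (k * l) = g ^ i k * g ^ i l
    rw [← pow_add, ← key, pow_add, ← hi, ← hi, ← hi]
  · have := congrArg (Units.val) (hi k)
    rw [this, Units.val_pow_eq_pow_val]; rfl
  · show g ^ i (m ^ r) = g ^ r
    rw [← key, ← hi]

theorem Setup.exists_link_of_comm [Finite G] (S : Setup G Ω U n) (hn : 1 < n) {a b : Ω} (hab : a ≠ b)
    (hex : ∃ u ∈ U a, ∃ v ∈ U a, u * v * u⁻¹ * v⁻¹ ∉ ZZ U a) (F : Type*) [Field F] [Finite F]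
    (hF : Nat.card F = 3 ^ n) :
    ∃ (σ : F →+* F) (τ : F × F × F → F × F × F) (R : Rel σ τ G), (∃ x, σ x ≠ x) ∧ Link U n R a b ∧
      Function.Injective R.U := by
  classical
  have : Fintype F := Fintype.ofFinite F
  have h3 : (3 : F) = 0 := by
    have h1 : ((Fintype.card F : ℕ) : F) = 0 := Nat.cast_card_eq_zero F
    rw [← Nat.card_eq_fintype_card, hF, Nat.cast_pow, pow_eq_zero_iff (by omega)] at h1
    exact_mod_cast h1
  obtain ⟨R, ho⟩ := S.exists_raw hab F hF
  obtain ⟨α, hα, α1, αs, α0, αg⟩ := R.exists_alpha S hab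
  obtain ⟨β, hβ, β1, β2, βg⟩ := R.exists_beta S hab
  have α2 : ∀ x y y', α x (y + y') = α x y + α x y' := by
    intro x y y'
    rw [αs, α1, αs y x, αs y' x]; ring
  have hαneg : ∀ x y, α x (-y) = -α x y := by
    intro x y
    have h1 := α2 x (-y) y
    have h2 := α2 x 0 0
    rw [add_zero] at h2
    rw [neg_add_cancel] at h1
    have h4 : α x 0 = 0 := left_eq_add.mp h2
    rw [h4] at h1
    exact eq_neg_of_add_eq_zero_left h1.symm
  have hβneg : ∀ y x, β (-y) x = -β y x := by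
    intro y x
    have h1 := β1 (-y) y x
    have h2 := β1 0 0 x
    rw [add_zero] at h2
    rw [neg_add_cancel] at h1
    have h4 : β 0 x = 0 := left_eq_add.mp h2
    rw [h4] at h1
    exact eq_neg_of_add_eq_zero_left h1.symm
  have hjac := R.jacobi hα hβ hαneg hβneg
  have hαne : ∃ x y, α x y ≠ 0 := by
    by_contra hcon
    push Not at hcon
    obtain ⟨u, hu, v, hv, huv⟩ := hex
    apply huv
    obtain ⟨w, hw⟩ := hα u hu v hv
    rw [hcon, R.c_zero, one_mul] at hw
    have h1 : u * v * u⁻¹ * v⁻¹ = R.z w := by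
      rw [hw]
      have h2 := R.z_cen w ((U a).mul_mem ((U a).inv_mem hu) ((U a).inv_mem hv))
      calc v * u * R.z w * u⁻¹ * v⁻¹ = v * u * (R.z w * (u⁻¹ * v⁻¹)) := by group
        _ = R.z w := by rw [h2]; group
    rw [h1]
    exact R.z_mem w
  have hnd : ∀ y x, β y x = 0 → y = 0 ∨ x = 0 := by
    intro y x hyx
    by_cases hy : y = 0
    · exact Or.inl hy
    · right
      obtain ⟨u, hu, rfl⟩ := R.X_surj x
      have h1 := hβ y u hu
      unfold Raw.Q at h1
      rw [hyx, R.z_zero, mul_one] at h1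
      obtain ⟨z, hz, e, he, hze⟩ := S.nondeg hab (R.c_mem y) (fun h => hy (R.c_one y h)) hu h1.symm
      rw [R.X_ker u hu, hze]
      exact (U1 U a b).mul_mem (ZZ_le_U1 hz) (E_le_U1 he)
  obtain ⟨σ, e, f, hσ, he, hf, hν, hl⟩ := monomials S.odd hn hF R.μ R.ν R.l R.μ_gen α β α1 α2 β1 β2 α0 αg βg hαne hnd hjac
  -- the torus
  have hμ0 : R.μ ≠ 0 := by
    intro h0
    obtain ⟨i, hi⟩ := R.μ_gen (-1) (neg_ne_zero.mpr one_ne_zero)
    rw [h0] at hi
    rcases Nat.eq_zero_or_pos i with rfl | hpos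
    · rw [pow_zero] at hi
      have h2 : (2 : F) = 0 := by linear_combination -hi
      have h4 : (1 : F) = 0 := by linear_combination h3 - h2
      exact one_ne_zero h4
    · rw [zero_pow (by omega)] at hi
      exact neg_ne_zero.mpr one_ne_zero hi
  obtain ⟨h, h_mul, h_pow, h_surj⟩ := exists_torus R.g R.μ hμ0 R.μ_gen (by rw [ho, hF])
  let c : F → G := fun y => R.c (e.symm y)
  let z : F → G := fun w => R.z (f.symm w)
  have hgU : ∀ (i : ℕ), ∀ u ∈ U a, R.g ^ i * u * (R.g ^ i)⁻¹ ∈ U a := fun i u hu =>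
    S.conj_U_stab (mem_HH.mp ((HH G a b).pow_mem R.g_mem i)).1 hu
  have hXi : ∀ (i : ℕ), ∀ u ∈ U a, R.X (R.g ^ i * u * (R.g ^ i)⁻¹) = R.μ ^ i * R.X u := by
    intro i
    induction i with
    | zero => intro u _; simp
    | succ i ih =>
      intro u hu
      have e1 : R.g ^ (i + 1) * u * (R.g ^ (i + 1))⁻¹ = R.g * (R.g ^ i * u * (R.g ^ i)⁻¹) * R.g⁻¹ := by
        rw [pow_succ']; group
      rw [e1, R.X_g _ (hgU i u hu), ih u hu, pow_succ']; ring
  have hci : ∀ (i : ℕ) (y : F), R.g ^ i * c y * (R.g ^ i)⁻¹ = c (R.μ ^ i * σ (R.μ ^ i) * y) := by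
    intro i
    induction i with
    | zero => intro y; simp
    | succ i ih =>
      intro y
      have e1 : R.g ^ (i + 1) * c y * (R.g ^ (i + 1))⁻¹ = R.g * (R.g ^ i * c y * (R.g ^ i)⁻¹) * R.g⁻¹ := by
        rw [pow_succ']; group
      rw [e1, ih]
      show R.g * R.c (e.symm _) * R.g⁻¹ = R.c (e.symm _)
      rw [R.g_c]
      congr 1
      apply e.injective
      rw [hν, e.apply_symm_apply, e.apply_symm_apply, pow_succ', map_mul]
      ring
  have hzi : ∀ (i : ℕ) (w : F), R.g ^ i * z w * (R.g ^ i)⁻¹ = z (R.μ ^ i * R.μ ^ i * σ (R.μ ^ i) * w) := by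
    intro i
    induction i with
    | zero => intro y; simp
    | succ i ih =>
      intro y
      have e1 : R.g ^ (i + 1) * z y * (R.g ^ (i + 1))⁻¹ = R.g * (R.g ^ i * z y * (R.g ^ i)⁻¹) * R.g⁻¹ := by
        rw [pow_succ']; group
      rw [e1, ih]
      show R.g * R.z (f.symm _) * R.g⁻¹ = R.z (f.symm _)
      rw [R.g_z]
      congr 1
      apply f.injective
      rw [hl, f.apply_symm_apply, f.apply_symm_apply, pow_succ', map_mul]
      ring
  obtain ⟨V, hV1, hV2, hV3, hV4, hV5, -, -, -⟩ := exists_law S.odd hn hF σ hσ (U a) R.X c z h R.X_mul R.X_surj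
    (fun u hu => by
      rw [R.X_ker' hu]
      constructor
      · rintro ⟨y, w, h1⟩
        exact ⟨e y, f w, by rw [h1]; show _ = R.c (e.symm (e y)) * R.z (f.symm (f w)); rw [e.symm_apply_apply, f.symm_apply_apply]⟩
      · rintro ⟨y, w, h1⟩
        exact ⟨_, _, h1⟩)
    (fun y => R.cU _) (fun w => R.zU _)
    (fun y y' => by show R.c (e.symm (y + y')) = R.c (e.symm y) * R.c (e.symm y'); rw [map_add, R.c_mul])
    (fun y y' => by show R.z (f.symm (y + y')) = R.z (f.symm y) * R.z (f.symm y'); rw [map_add, R.z_mul])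
    (fun y w h1 => by
      have h2 : R.c (e.symm y) * R.z (f.symm w) = R.c 0 * R.z 0 := by
        rw [R.c_zero, R.z_zero, mul_one]; exact h1
      obtain ⟨h4, h5⟩ := R.cz_inj S hab h2
      exact ⟨by rw [← e.apply_symm_apply y, h4, map_zero], by rw [← f.apply_symm_apply w, h5, map_zero]⟩)
    (fun w u hu => R.z_cen _ hu)
    (fun u hu v hv => by
      obtain ⟨w, hw⟩ := hα u hu v hv
      refine ⟨f w, ?_⟩
      rw [hw]
      show v * u * (R.c _ * R.z w) = v * u * R.c (e.symm _) * R.z (f.symm (f w))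
      rw [f.symm_apply_apply, ← he, e.symm_apply_apply, ← mul_assoc])
    (fun u hu y => by
      have h1 := hβ (e.symm y) u hu
      unfold Raw.Q at h1
      show R.c (e.symm y) * u = u * R.c (e.symm y) * R.z (f.symm _)
      rw [h1, mul_assoc]
      congr 2
      rw [← f.symm_apply_apply (β (e.symm y) (R.X u)), hf, e.apply_symm_apply])
    h_mul
    (fun k u hu => by
      obtain ⟨i, hi, -⟩ := h_pow k
      rw [hi]; exact hgU i u hu)
    (fun k u hu => by
      obtain ⟨i, hi, hk⟩ := h_pow k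
      rw [hi, hk]; exact hXi i u hu)
    (fun k y => by
      obtain ⟨i, hi, hk⟩ := h_pow k
      rw [hi, hk]; exact hci i y)
    (fun k w => by
      obtain ⟨i, hi, hk⟩ := h_pow k
      rw [hi, hk]; exact hzi i w)
  have hVU : ∀ g, g ∈ U a ↔ ∃ p, V p = g := fun g => ⟨fun hg => hV3 g hg, by rintro ⟨p, rfl⟩; exact hV1 p⟩
  have hhH : ∀ g, g ∈ HH G a b ↔ ∃ k, h k = g := by
    intro g
    constructor
    · intro hg
      obtain ⟨i, rfl⟩ := R.gen g hg
      exact h_surj i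
    · rintro ⟨k, rfl⟩
      obtain ⟨i, hi, -⟩ := h_pow k
      rw [hi]; exact (HH G a b).pow_mem R.g_mem i
  obtain ⟨τ, R', hU', hh', hwa, hwb⟩ := S.exists_rel' hab (σ : F →+* F) V h hV2 hVU hV4 h_mul hhH hV5
  refine ⟨(σ : F →+* F), τ, R', ?_, ⟨S, h3, hab, ?_, ?_, hwa⟩, ?_⟩
  · by_contra hcon
    push Not at hcon
    exact hσ (RingEquiv.ext hcon)
  · rw [hU']; exact hVU
  · rw [hh']; exact hhH
  · rw [hU']; exact hV4

end Cfsg.Agent.ReeUniq
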