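import Cfsg.Agent.ReeUniq.PolyF3

/-!
# Homogeneous polynomial identities in characteristic three

Expressions `H` in four variables; identities between expressions which are homogeneous for
weights `(1, w₁, w₂, w₃)` are checked after setting the first variable to `1` (three variables,
`PolyF3`), and then hold at all points (`sound`).  `dat` = polynomial given by its coefficients
(two bits each), `sub` = substitution.
-/

namespace Cfsg.Agent.ReeUniq.HomF3

open Cfsg.Agent.ReeUniq.PolyF3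

/-- four values -/
structure Q (α : Type*) where
  (a b c d : α)

inductive H where
  | nat (n : ℕ)
  | x0
  | x1
  | x2
  | x3
  | add (f g : H)
  | mul (f g : H)
  | pow (f : H) (m : ℕ)
  | sub (f y0 y1 y2 y3 : H)
  | dat (w1 w2 w3 w : ℕ) (l : List (List ℕ))

/-! ### evaluation -/

section Eval

variable {R : Type*} [CommSemiring R]

/-- `∑ j, digit j * x0 ^ (w - w1 * j) * x1 ^ j` -/
def row (x0 x1 : R) (w1 : ℕ) : ℕ → ℕ → ℕ → R
  | 0, _, _ => 0
  | f + 1, w, N => ((N % 4 : ℕ) : R) * x0 ^ w +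
      if w < w1 then 0 else x1 * row x0 x1 w1 f (w - w1) (N / 4)

def row2 (x0 x1 x2 : R) (w1 w2 : ℕ) : ℕ → List ℕ → R
  | _, [] => 0
  | w, N :: l => row x0 x1 w1 (w + 1) w N +
      if w < w2 then 0 else x2 * row2 x0 x1 x2 w1 w2 (w - w2) l

def row3 (x0 x1 x2 x3 : R) (w1 w2 w3 : ℕ) : ℕ → List (List ℕ) → R
  | _, [] => 0
  | w, r :: l => row2 x0 x1 x2 w1 w2 w r +
      if w < w3 then 0 else x3 * row3 x0 x1 x2 x3 w1 w2 w3 (w - w3) l

def ev : Q R → H → R
  | _, .nat n => (n : R)
  | v, .x0 => v.a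
  | v, .x1 => v.b
  | v, .x2 => v.c
  | v, .x3 => v.d
  | v, .add f g => ev v f + ev v g
  | v, .mul f g => ev v f * ev v g
  | v, .pow f m => ev v f ^ m
  | v, .sub f y0 y1 y2 y3 => ev ⟨ev v y0, ev v y1, ev v y2, ev v y3⟩ f
  | v, .dat w1 w2 w3 w l => row3 v.a v.b v.c v.d w1 w2 w3 w l

end Eval

/-! ### homogeneity -/

def hom : Q ℕ → H → Option ℕ
  | _, .nat _ => some 0
  | o, .x0 => some o.a
  | o, .x1 => some o.b
  | o, .x2 => some o.c
  | o, .x3 => some o.d
  | o, .add f g =>
      match hom o f, hom o g with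
      | some i, some j => if i = j then some i else none
      | _, _ => none
  | o, .mul f g =>
      match hom o f, hom o g with
      | some i, some j => some (i + j)
      | _, _ => none
  | o, .pow f m =>
      match hom o f with
      | some i => some (i * m)
      | none => none
  | o, .sub f y0 y1 y2 y3 =>
      match hom o y0, hom o y1, hom o y2, hom o y3 with
      | some p, some q, some r, some s => hom ⟨p, q, r, s⟩ f
      | _, _, _, _ => none
  | o, .dat w1 w2 w3 w _ =>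
      if o.a = 1 ∧ o.b = w1 ∧ o.c = w2 ∧ o.d = w3 then some w else none

section Scale

variable {R : Type*} [CommSemiring R]

theorem row_scale (t x0 x1 : R) (w1 : ℕ) : ∀ (f w N : ℕ),
    row (t * x0) (t ^ w1 * x1) w1 f w N = t ^ w * row x0 x1 w1 f w N
  | 0, _, _ => by simp [row]
  | f + 1, w, N => by
      rw [row, row]
      split_ifs with h
      · rw [add_zero, add_zero, mul_pow]; ring
      · rw [row_scale t x0 x1 w1 f, mul_pow]
        have : t ^ w = t ^ w1 * t ^ (w - w1) := by rw [← pow_add]; congr 1; omega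
        rw [this]; ring

theorem row2_scale (t x0 x1 x2 : R) (w1 w2 : ℕ) : ∀ (w : ℕ) (l : List ℕ),
    row2 (t * x0) (t ^ w1 * x1) (t ^ w2 * x2) w1 w2 w l = t ^ w * row2 x0 x1 x2 w1 w2 w l
  | _, [] => by simp [row2]
  | w, N :: l => by
      rw [row2, row2, row_scale]
      split_ifs with h
      · rw [add_zero, add_zero]
      · rw [row2_scale t x0 x1 x2 w1 w2 _ l]
        have : t ^ w = t ^ w2 * t ^ (w - w2) := by rw [← pow_add]; congr 1; omega
        rw [mul_add]; congr 1
        rw [this]; ring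

theorem row3_scale (t x0 x1 x2 x3 : R) (w1 w2 w3 : ℕ) : ∀ (w : ℕ) (l : List (List ℕ)),
    row3 (t * x0) (t ^ w1 * x1) (t ^ w2 * x2) (t ^ w3 * x3) w1 w2 w3 w l =
      t ^ w * row3 x0 x1 x2 x3 w1 w2 w3 w l
  | _, [] => by simp [row3]
  | w, r :: l => by
      rw [row3, row3, row2_scale]
      split_ifs with h
      · rw [add_zero, add_zero]
      · rw [row3_scale t x0 x1 x2 x3 w1 w2 w3 _ l]
        have : t ^ w = t ^ w3 * t ^ (w - w3) := by rw [← pow_add]; congr 1; omega
        rw [mul_add]; congr 1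
        rw [this]; ring

theorem ev_scale (t : R) : ∀ (h : H) (o : Q ℕ) (v : Q R) (w : ℕ), hom o h = some w →
    ev ⟨t ^ o.a * v.a, t ^ o.b * v.b, t ^ o.c * v.c, t ^ o.d * v.d⟩ h = t ^ w * ev v h
  | .nat n, o, v, w, hw => by
      simp only [hom, Option.some.injEq] at hw
      simp [ev, ← hw]
  | .x0, o, v, w, hw => by simp only [hom, Option.some.injEq] at hw; simp [ev, ← hw]
  | .x1, o, v, w, hw => by simp only [hom, Option.some.injEq] at hw; simp [ev, ← hw]
  | .x2, o, v, w, hw => by simp only [hom, Option.some.injEq] at hw; simp [ev, ← hw]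
  | .x3, o, v, w, hw => by simp only [hom, Option.some.injEq] at hw; simp [ev, ← hw]
  | .add f g, o, v, w, hw => by
      rw [hom] at hw
      split at hw
      · next i j hi hj =>
        split_ifs at hw with hij
        simp only [Option.some.injEq] at hw
        subst hw; subst hij
        rw [ev, ev, ev_scale t f o v _ hi, ev_scale t g o v _ hj, mul_add]
      · exact absurd hw (by simp)
  | .mul f g, o, v, w, hw => by
      rw [hom] at hw
      split at hw
      · next i j hi hj =>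
        simp only [Option.some.injEq] at hw
        subst hw
        rw [ev, ev, ev_scale t f o v _ hi, ev_scale t g o v _ hj, pow_add]
        ring
      · exact absurd hw (by simp)
  | .pow f m, o, v, w, hw => by
      rw [hom] at hw
      split at hw
      · next i hi =>
        simp only [Option.some.injEq] at hw
        subst hw
        rw [ev, ev, ev_scale t f o v _ hi, mul_pow, ← pow_mul]
      · exact absurd hw (by simp)
  | .sub f y0 y1 y2 y3, o, v, w, hw => by
      rw [hom] at hw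
      split at hw
      · next p q r s hp hq hr hs =>
        rw [ev, ev, ev_scale t y0 o v _ hp, ev_scale t y1 o v _ hq, ev_scale t y2 o v _ hr,
          ev_scale t y3 o v _ hs]
        exact ev_scale t f ⟨p, q, r, s⟩ ⟨ev v y0, ev v y1, ev v y2, ev v y3⟩ w hw
      · exact absurd hw (by simp)
  | .dat w1 w2 w3 w' l, o, v, w, hw => by
      rw [hom] at hw
      split_ifs at hw with hc
      obtain ⟨h0, h1, h2, h3⟩ := hc
      simp only [Option.some.injEq] at hw
      subst hw
      rw [ev, ev, h0, h1, h2, h3, pow_one, row3_scale]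

end Scale

/-! ### naturality -/

section Map

variable {R S : Type*} [CommSemiring R] [CommSemiring S] (φ : R →+* S)

theorem map_row (x0 x1 : R) (w1 : ℕ) : ∀ (f w N : ℕ),
    φ (row x0 x1 w1 f w N) = row (φ x0) (φ x1) w1 f w N
  | 0, _, _ => by simp [row]
  | f + 1, w, N => by
      rw [row, row]
      split_ifs with h
      · simp
      · rw [map_add, map_mul, map_mul, map_pow, map_natCast, map_row x0 x1 w1 f]

theorem map_row2 (x0 x1 x2 : R) (w1 w2 : ℕ) : ∀ (w : ℕ) (l : List ℕ),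
    φ (row2 x0 x1 x2 w1 w2 w l) = row2 (φ x0) (φ x1) (φ x2) w1 w2 w l
  | _, [] => by simp [row2]
  | w, N :: l => by
      rw [row2, row2]
      split_ifs with h
      · rw [map_add, map_zero, map_row]
      · rw [map_add, map_mul, map_row, map_row2 x0 x1 x2 w1 w2 _ l]

theorem map_row3 (x0 x1 x2 x3 : R) (w1 w2 w3 : ℕ) : ∀ (w : ℕ) (l : List (List ℕ)),
    φ (row3 x0 x1 x2 x3 w1 w2 w3 w l) = row3 (φ x0) (φ x1) (φ x2) (φ x3) w1 w2 w3 w l
  | _, [] => by simp [row3]
  | w, r :: l => by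
      rw [row3, row3]
      split_ifs with h
      · rw [map_add, map_zero, map_row2]
      · rw [map_add, map_mul, map_row2, map_row3 x0 x1 x2 x3 w1 w2 w3 _ l]

theorem map_ev : ∀ (h : H) (v : Q R),
    φ (ev v h) = ev ⟨φ v.a, φ v.b, φ v.c, φ v.d⟩ h
  | .nat n, v => by simp [ev]
  | .x0, v => rfl
  | .x1, v => rfl
  | .x2, v => rfl
  | .x3, v => rfl
  | .add f g, v => by rw [ev, ev, map_add, map_ev f, map_ev g]
  | .mul f g, v => by rw [ev, ev, map_mul, map_ev f, map_ev g]
  | .pow f m, v => by rw [ev, ev, map_pow, map_ev f]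
  | .sub f y0 y1 y2 y3, v => by
      rw [ev, ev, map_ev f, map_ev y0, map_ev y1, map_ev y2, map_ev y3]
  | .dat w1 w2 w3 w l, v => by rw [ev, ev, map_row3]

end Map

/-! ### translation to `PolyF3` -/

def tm (x0 : E 3) (w a : ℕ) : E 3 := bif Nat.beq a 0 then .nat 0 else .mul (.nat a) (.pow x0 w)

def rowE (x0 x1 : E 3) (w1 : ℕ) : ℕ → ℕ → ℕ → E 3
  | 0, _, _ => .nat 0
  | f + 1, w, N =>
      bif Nat.beq N 0 then .nat 0 else
        bif Nat.blt w w1 then tm x0 w (N % 4) else
          .add (tm x0 w (N % 4)) (.mul x1 (rowE x0 x1 w1 f (w - w1) (N / 4)))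

def row2E (x0 x1 x2 : E 3) (w1 w2 : ℕ) : ℕ → List ℕ → E 3
  | _, [] => .nat 0
  | w, N :: l =>
      bif Nat.blt w w2 then rowE x0 x1 w1 (w + 1) w N else
        .add (rowE x0 x1 w1 (w + 1) w N) (.mul x2 (row2E x0 x1 x2 w1 w2 (w - w2) l))

def row3E (x0 x1 x2 x3 : E 3) (w1 w2 w3 : ℕ) : ℕ → List (List ℕ) → E 3
  | _, [] => .nat 0
  | w, r :: l =>
      bif Nat.blt w w3 then row2E x0 x1 x2 w1 w2 w r else
        .add (row2E x0 x1 x2 w1 w2 w r) (.mul x3 (row3E x0 x1 x2 x3 w1 w2 w3 (w - w3) l))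

def toE : Q (E 3) → H → E 3
  | _, .nat n => .nat n
  | v, .x0 => v.a
  | v, .x1 => v.b
  | v, .x2 => v.c
  | v, .x3 => v.d
  | v, .add f g => .add (toE v f) (toE v g)
  | v, .mul f g => .mul (toE v f) (toE v g)
  | v, .pow f m => .pow (toE v f) m
  | v, .sub f y0 y1 y2 y3 => toE ⟨toE v y0, toE v y1, toE v y2, toE v y3⟩ f
  | v, .dat w1 w2 w3 w l => row3E v.a v.b v.c v.d w1 w2 w3 w l

section ToE

variable {K : Type*} [CommRing K] (c : Cfg 3) (x : Fin 3 → K)

theorem ev_tm (x0 : E 3) (w a : ℕ) : c.ev x (tm x0 w a) = (a : K) * c.ev x x0 ^ w := by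
  rw [tm]
  cases h : Nat.beq a 0 with
  | true =>
    have := Nat.eq_of_beq_eq_true h
    subst this
    simp [Cfg.ev]
  | false => simp [Cfg.ev]

theorem lt_of_blt {a b : ℕ} (h : Nat.blt a b = true) : a < b := by rwa [Nat.blt_eq] at h

theorem not_lt_of_blt {a b : ℕ} (h : Nat.blt a b = false) : ¬ a < b := fun h' => by
  rw [← Nat.blt_eq] at h'
  rw [h'] at h
  exact absurd h (by decide)

theorem row_zero (x0 x1 : K) (w1 : ℕ) : ∀ (f w : ℕ), row x0 x1 w1 f w 0 = 0
  | 0, _ => rfl
  | f + 1, w => by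
      rw [row, Nat.zero_mod, Nat.zero_div]
      split_ifs
      · simp
      · rw [row_zero x0 x1 w1 f]; simp

theorem ev_rowE (x0 x1 : E 3) (w1 : ℕ) : ∀ (f w N : ℕ),
    c.ev x (rowE x0 x1 w1 f w N) = row (c.ev x x0) (c.ev x x1) w1 f w N
  | 0, _, _ => by simp [rowE, row, Cfg.ev]
  | f + 1, w, N => by
      rw [rowE]
      cases h : Nat.beq N 0 with
      | true =>
        have := Nat.eq_of_beq_eq_true h
        subst this
        rw [row_zero]; simp [Cfg.ev]
      | false =>
        cases h2 : Nat.blt w w1 with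
        | true =>
          have : w < w1 := lt_of_blt h2
          rw [row, if_pos this, cond_false, cond_true, ev_tm, add_zero]
        | false =>
          have : ¬ w < w1 := not_lt_of_blt h2
          rw [row, if_neg this, cond_false, cond_false, Cfg.ev, ev_tm, Cfg.ev,
            ev_rowE x0 x1 w1 f]

theorem ev_row2E (x0 x1 x2 : E 3) (w1 w2 : ℕ) : ∀ (w : ℕ) (l : List ℕ),
    c.ev x (row2E x0 x1 x2 w1 w2 w l) = row2 (c.ev x x0) (c.ev x x1) (c.ev x x2) w1 w2 w l
  | _, [] => by simp [row2E, row2, Cfg.ev]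
  | w, N :: l => by
      rw [row2E]
      cases h2 : Nat.blt w w2 with
      | true =>
        have : w < w2 := lt_of_blt h2
        rw [row2, if_pos this, cond_true, ev_rowE, add_zero]
      | false =>
        have : ¬ w < w2 := not_lt_of_blt h2
        rw [row2, if_neg this, cond_false, Cfg.ev, ev_rowE, Cfg.ev, ev_row2E x0 x1 x2 w1 w2 _ l]

theorem ev_row3E (x0 x1 x2 x3 : E 3) (w1 w2 w3 : ℕ) : ∀ (w : ℕ) (l : List (List ℕ)),
    c.ev x (row3E x0 x1 x2 x3 w1 w2 w3 w l) =
      row3 (c.ev x x0) (c.ev x x1) (c.ev x x2) (c.ev x x3) w1 w2 w3 w l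
  | _, [] => by simp [row3E, row3, Cfg.ev]
  | w, r :: l => by
      rw [row3E]
      cases h2 : Nat.blt w w3 with
      | true =>
        have : w < w3 := lt_of_blt h2
        rw [row3, if_pos this, cond_true, ev_row2E, add_zero]
      | false =>
        have : ¬ w < w3 := not_lt_of_blt h2
        rw [row3, if_neg this, cond_false, Cfg.ev, ev_row2E, Cfg.ev,
          ev_row3E x0 x1 x2 x3 w1 w2 w3 _ l]

theorem ev_toE : ∀ (h : H) (v : Q (E 3)),
    c.ev x (toE v h) = ev ⟨c.ev x v.a, c.ev x v.b, c.ev x v.c, c.ev x v.d⟩ h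
  | .nat n, v => rfl
  | .x0, v => rfl
  | .x1, v => rfl
  | .x2, v => rfl
  | .x3, v => rfl
  | .add f g, v => by rw [ev, toE, Cfg.ev, ev_toE f, ev_toE g]
  | .mul f g, v => by rw [ev, toE, Cfg.ev, ev_toE f, ev_toE g]
  | .pow f m, v => by rw [ev, toE, Cfg.ev, ev_toE f]
  | .sub f y0 y1 y2 y3, v => by
      rw [ev, toE, ev_toE f]
      simp only [ev_toE y0, ev_toE y1, ev_toE y2, ev_toE y3]
  | .dat w1 w2 w3 w l, v => by rw [ev, toE, ev_row3E]

end ToE

/-! ### the checker -/

/-- dehomogenization: the first variable is `1` -/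
def base : Q (E 3) := ⟨.nat 1, .var 0, .var 1, .var 2⟩

/-- `f` and `g` are homogeneous of the same weight and equal modulo three -/
def check (c : Cfg 3) (w1 w2 w3 : ℕ) (f g : H) : Bool :=
  (match hom ⟨1, w1, w2, w3⟩ f, hom ⟨1, w1, w2, w3⟩ g with
    | some i, some j => Nat.beq i j
    | _, _ => false) &&
  c.check (.add (toE base f) (.mul (.nat 2) (toE base g)))

theorem sound_field {c : Cfg 3} (hc : c.Good) {w1 w2 w3 : ℕ} {f g : H}
    (h : check c w1 w2 w3 f g = true) {L : Type*} [Field L] (h3 : (3 : L) = 0) (v : Q L)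
    (h0 : v.a ≠ 0) : ev v f = ev v g := by
  rw [check, Bool.and_eq_true] at h
  obtain ⟨h1, h2⟩ := h
  split at h1
  · next i j hi hj =>
    have hij := Nat.eq_of_beq_eq_true h1
    subst hij
    set y : Fin 3 → L := ![v.b / v.a ^ w1, v.c / v.a ^ w2, v.d / v.a ^ w3] with hy
    have e := c.sound_eq hc h2 h3 y
    rw [ev_toE, ev_toE] at e
    have hb : (⟨c.ev y base.a, c.ev y base.b, c.ev y base.c, c.ev y base.d⟩ : Q L) =
        ⟨1, v.b / v.a ^ w1, v.c / v.a ^ w2, v.d / v.a ^ w3⟩ := by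
      simp [base, Cfg.ev, hy]
    rw [hb] at e
    have hv : v = ⟨v.a ^ 1 * 1, v.a ^ w1 * (v.b / v.a ^ w1), v.a ^ w2 * (v.c / v.a ^ w2),
        v.a ^ w3 * (v.d / v.a ^ w3)⟩ := by
      have k1 : v.a ^ w1 ≠ 0 := pow_ne_zero _ h0
      have k2 : v.a ^ w2 ≠ 0 := pow_ne_zero _ h0
      have k3 : v.a ^ w3 ≠ 0 := pow_ne_zero _ h0
      rw [mul_div_cancel₀ _ k1, mul_div_cancel₀ _ k2, mul_div_cancel₀ _ k3, pow_one, mul_one]
    have s1 := ev_scale v.a f ⟨1, w1, w2, w3⟩
      ⟨1, v.b / v.a ^ w1, v.c / v.a ^ w2, v.d / v.a ^ w3⟩ _ hi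
    have s2 := ev_scale v.a g ⟨1, w1, w2, w3⟩
      ⟨1, v.b / v.a ^ w1, v.c / v.a ^ w2, v.d / v.a ^ w3⟩ _ hj
    rw [hv]
    rw [s1, s2, e]
  · exact absurd h1 (by simp)

theorem sound {c : Cfg 3} (hc : c.Good) {w1 w2 w3 : ℕ} {f g : H}
    (h : check c w1 w2 w3 f g = true) {K : Type*} [Field K] (h3 : (3 : K) = 0) (v : Q K) :
    ev v f = ev v g := by
  have : Fact (Nat.Prime 3) := ⟨Nat.prime_three⟩
  have : CharP K 3 := by
    have := (CharP.exists K)
    obtain ⟨p, hp⟩ := this
    have hd : p ∣ 3 := (CharP.cast_eq_zero_iff K p 3).1 (by exact_mod_cast h3)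
    rcases (Nat.dvd_prime Nat.prime_three).1 hd with rfl | rfl
    · exact absurd (CharP.cast_eq_zero K 1) (by rw [Nat.cast_one]; exact one_ne_zero)
    · exact hp
  let P := MvPolynomial (Fin 4) (ZMod 3)
  let L := FractionRing P
  have h3L : (3 : L) = 0 := by
    have : ((3 : ℕ) : P) = 0 := by
      rw [← map_natCast (MvPolynomial.C : ZMod 3 →+* P)]
      rw [ZMod.natCast_self, map_zero]
    have h' := congrArg (algebraMap P L) this
    rwa [map_natCast, map_zero, Nat.cast_ofNat] at h'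
  let u : Q P := ⟨MvPolynomial.X 0, MvPolynomial.X 1, MvPolynomial.X 2, MvPolynomial.X 3⟩
  have key : ev u f = ev u g := by
    apply IsFractionRing.injective P L
    rw [map_ev, map_ev]
    refine sound_field hc h h3L _ ?_
    intro h0
    have h1 := (IsFractionRing.to_map_eq_zero_iff (K := L)).1 h0
    exact MvPolynomial.X_ne_zero (R := ZMod 3) (0 : Fin 4) h1
  let φ : P →+* K := MvPolynomial.eval₂Hom (ZMod.castHom (dvd_refl 3) K) ![v.a, v.b, v.c, v.d]
  have e := congrArg φ key
  rw [map_ev, map_ev] at e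
  have hv : (⟨φ u.a, φ u.b, φ u.c, φ u.d⟩ : Q K) = v := by
    have hX : ∀ i, φ (MvPolynomial.X i) = ![v.a, v.b, v.c, v.d] i :=
      fun i => MvPolynomial.eval₂Hom_X' _ _ _
    simp only [u]
    rw [hX, hX, hX, hX]
    rfl
  rwa [hv] at e

end Cfsg.Agent.ReeUniq.HomF3
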