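import Cfsg.Agent.ReeUniq.PartA
import Cfsg.Agent.ReeUniq.AgreeU1
import Cfsg.Agent.ReeUniq.CStar
import Cfsg.Agent.ReeUniq.CertDegen
import Cfsg.Agent.ReeUniq.Digits

/-!
# S1149: from `Link` to `IsoRee`, given the certificate
-/

set_option autoImplicit false

namespace Cfsg.Agent.ReeUniq

variable {G Ω : Type*} [Group G] [Finite G] [MulAction G Ω] {U : Ω → Subgroup G} {n : ℕ} {K : Type*} [Field K] [Fintype K]
  {σ : K →+* K} {τ : K × K × K → K × K × K} {R : Rel σ τ G} {a b : Ω}

theorem Link.isoRee_of_cert (L : Link U n R a b) (hK : Fintype.card K = 3 ^ n)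
    (hcert : ∀ (τ' : K × K × K → K × K × K) (R' : Rel σ τ' G) (M : K → K) (d : K), Start σ τ' R' M d → IsM σ M →
      ∀ x y z : K, x ≠ 0 → y ≠ 0 → z ≠ 0 → x ^ 2 * σ x + y ^ 2 * σ y + z ^ 2 * σ z = 0 → ¬ (x = y ∧ y = z) →
        x ^ 3 * σ x ^ 2 + y ^ 3 * σ y ^ 2 + z ^ 3 * σ z ^ 2 = 0) : Cfsg.Lie.IsoRee G := by
  have hn := L.setup.odd
  have hn1 : 1 < n := L.setup.one_lt_n L.ne
  have h3 := L.h3
  obtain ⟨m, rfl⟩ := hn
  have hm : 1 ≤ m := by omega
  have hc : Nat.card K = 3 ^ (2 * m + 1) := by rw [Nat.card_eq_fintype_card, hK]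
  have hn : Odd (2 * m + 1) := ⟨m, rfl⟩
  obtain ⟨k, M, d, St, L', M0, M1, Mmul, Mneg, Msq, Mpow⟩ := L.partB
  have hM : IsM σ M := ⟨Mmul, Mpow, by rw [Mneg, M1]⟩
  -- the map `x ↦ x² σ x` is bijective
  have hbij : Function.Bijective (fun x : K => x ^ 2 * σ x) := by
    rw [← Finite.injective_iff_bijective]
    intro x y h
    have h' : x ^ 2 * σ x = y ^ 2 * σ y := h
    rcases eq_or_ne y 0 with rfl | hy
    · rw [map_zero, mul_zero] at h'
      rcases mul_eq_zero.1 h' with h1 | h1
      · exact pow_eq_zero_iff (two_ne_zero) |>.1 h1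
      · exact (map_eq_zero σ).1 h1
    have hy' : σ y ≠ 0 := by rwa [Ne, map_eq_zero]
    have hx : x ≠ 0 := by
      rintro rfl
      rw [map_zero, mul_zero] at h'
      exact mul_ne_zero (pow_ne_zero 2 hy) hy' h'.symm
    have h1 : (x / y) ^ 2 * σ (x / y) = 1 := by
      rw [map_div₀, div_pow, div_mul_div_comm, h', div_self (mul_ne_zero (pow_ne_zero 2 hy) hy')]
    have h2 := L.norm3 (k := Units.mk0 (x / y) (div_ne_zero hx hy)) h1
    have h4 : x / y = 1 := congrArg Units.val h2
    exact (div_eq_one_iff_eq hy).1 h4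
  have hne : ∃ x : K, x ^ 3 ≠ x := by
    by_contra hcon
    push Not at hcon
    have hroots : ∀ x : K, x = 0 ∨ x = 1 ∨ x = -1 := by
      intro x
      have : x * ((x - 1) * (x + 1)) = 0 := by linear_combination hcon x
      rcases mul_eq_zero.1 this with h | h
      · exact Or.inl h
      · rcases mul_eq_zero.1 h with h | h
        · exact Or.inr (Or.inl (sub_eq_zero.1 h))
        · exact Or.inr (Or.inr (eq_neg_of_add_eq_zero_left h))
    classical
    have hle : Fintype.card K ≤ 3 := by
      rw [← Finset.card_univ]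
      refine (Finset.card_le_card (t := {0, 1, -1}) ?_).trans Finset.card_le_three
      intro x _
      simp only [Finset.mem_insert, Finset.mem_singleton]
      exact hroots x
    rw [hK] at hle
    have h9 : 3 ^ 2 ≤ 3 ^ (2 * m + 1) := Nat.pow_le_pow_right (by norm_num) (by omega)
    exact absurd (h9.trans hle) (by norm_num)
  -- zero coordinates
  have hzero : ∀ x y : K, x ^ 2 * σ x + y ^ 2 * σ y = 0 → x ^ 3 * σ x ^ 2 + y ^ 3 * σ y ^ 2 = 0 := by
    intro x y h
    have h1 : x = -y := by
      apply hbij.1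
      show x ^ 2 * σ x = (-y) ^ 2 * σ (-y)
      rw [map_neg]
      linear_combination h
    rw [h1, map_neg]; ring
  have hsq : ∀ x, σ (σ x) = x ^ 3 := by
    refine Digits.of_three h3 σ hne hbij ?_
    intro x y z h
    rcases eq_or_ne x 0 with rfl | hx
    · have := hzero y z (by rw [map_zero] at h; linear_combination h)
      rw [map_zero]; linear_combination this
    rcases eq_or_ne y 0 with rfl | hy
    · have := hzero x z (by rw [map_zero] at h; linear_combination h)
      rw [map_zero]; linear_combination this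
    rcases eq_or_ne z 0 with rfl | hz
    · have := hzero x y (by rw [map_zero] at h; linear_combination h)
      rw [map_zero]; linear_combination this
    by_cases ht : x = y ∧ y = z
    · obtain ⟨rfl, rfl⟩ := ht
      linear_combination x ^ 3 * σ x ^ 2 * h3
    · exact hcert _ _ M d St hM x y z hx hy hz h ht
  have hσ := AgreeU1.sigma_eq_pow hK hsq
  have hd := CStar.d_eq_one hK hσ hm St hM
  rw [hd] at St
  exact AgreeU1.isoRee_of_sq hK St hM hsq hm

end Cfsg.Agent.ReeUniq
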