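import Cfsg.Agent.ReeUniq.CertNine
import Cfsg.Agent.ReeUniq.Cert
import Cfsg.Agent.ReeUniq.Final

/-!
# S1149: the certificate at all points
-/

set_option autoImplicit false

namespace Cfsg.Agent.ReeUniq

namespace CertIn

variable {K : Type*} [Field K]

theorem KA_mul {A B C k : K} (hY : C * A - k ≠ 0) (hZ : A * B - k ≠ 0) :
    (C * A - k) * (A * B - k) * KA A B C k = Cert.P1 A B C k := by
  obtain ⟨Yi, hYi⟩ : ∃ Yi, Yi = (C * A - k)⁻¹ := ⟨_, rfl⟩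
  obtain ⟨Zi, hZi⟩ : ∃ Zi, Zi = (A * B - k)⁻¹ := ⟨_, rfl⟩
  have hY1 : (C * A - k) * Yi = 1 := by rw [hYi, mul_inv_cancel₀ hY]
  have hZ1 : (A * B - k) * Zi = 1 := by rw [hZi, mul_inv_cancel₀ hZ]
  unfold KA Cert.P1
  rw [div_eq_mul_inv, div_eq_mul_inv, ← hYi, ← hZi]
  linear_combination (-(B * C ^ 2 * (C - B) * (A - C) * (B - A)) * (C * A - k)) * hZ1 -
    (B * C * (C - B) * (B - A) ^ 3) * (A * B - k) * hY1

theorem KB_mul (h3 : (3 : K) = 0) {A B C k : K} (hX : B * C - k ≠ 0) (hZ : A * B - k ≠ 0) :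
    (B * C - k) * (A * B - k) * KB A B C k = Cert.P2 A B C k := by
  obtain ⟨Xi, hXi⟩ : ∃ Xi, Xi = (B * C - k)⁻¹ := ⟨_, rfl⟩
  obtain ⟨Zi, hZi⟩ : ∃ Zi, Zi = (A * B - k)⁻¹ := ⟨_, rfl⟩
  have hX1 : (B * C - k) * Xi = 1 := by rw [hXi, mul_inv_cancel₀ hX]
  have hZ1 : (A * B - k) * Zi = 1 := by rw [hZi, mul_inv_cancel₀ hZ]
  unfold KB Cert.P2
  rw [div_eq_mul_inv, div_eq_mul_inv, ← hXi, ← hZi]
  linear_combination (A * C ^ 2 * (C - B) * (A - C) * (B - A)) * (B * C - k) * hZ1 -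
    (A * C * (A - C) * (B - A) ^ 3) * (A * B - k) * hX1 +
    (B * C - k) * (A * B - k) * (A + C - B) ^ 2 * (B * C - C * A) * h3

end CertIn

open CertIn in
/-- **The certificate** -/
theorem pointCert {K : Type*} [Field K] [Finite K] {n : ℕ} (hn : Odd n) (hc : Nat.card K = 3 ^ n)
    {σ : K →+* K} {τ : K × K × K → K × K × K} {G : Type*} [Group G] {R : Rel σ τ G}
    {M : K → K} {d : K} (S : Start σ τ R M d) (hM : IsM σ M) : Final.PointCert σ := by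
  have h3 := FieldM.three_eq_zero hn hc
  intro x y z hx hy hz h
  by_cases hne : x = y ∧ y = z
  · obtain ⟨rfl, rfl⟩ := hne
    linear_combination x ^ 3 * σ x ^ 2 * h3
  · obtain ⟨A, B, C, k, p, q, r, ps, qs, rs, hA, hB, hC, hBA, hCB, hAC, ha, hb, hc', hX, hY, hZ,
      e1, e2, e3, e4, e5, e6, f1, f2, f3, -, -, -, -, -, -, hk⟩ := input hn hc S hM hx hy hz h hne
    refine hk (Cert.Eqs.eq_zero h3 (FieldM.sq_ne hn hc) (A := A) (B := B) (C := C) (p := p) (q := q) (r := r)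
      (ps := ps) (qs := qs) (rs := rs) ⟨?_, ?_, ?_, ?_, ?_, ?_, ?_, ?_, ?_⟩
      hA hB hC ha hb hc' hCB hAC hBA hX hY hZ)
    · rw [e1, KA_mul hY hZ]
    · rw [e2, KB_mul h3 hX hZ]
    · rw [e3, ← KA_mul hZ hX]; ring
    · rw [e4, ← KB_mul h3 hY hX]; ring
    · rw [e5, ← KA_mul hX hY]
    · rw [e6, ← KB_mul h3 hZ hY]; ring
    · linear_combination f1
    · linear_combination f2
    · linear_combination f3

end Cfsg.Agent.ReeUniq
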