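import Cfsg.Agent.ReeUniq.NotCentral
import Cfsg.Agent.Lib.ActCount

/-!
# S1149: the central series of `U`

`ZZ U a` is the centre of `U a`, `U1 U a b = ZZ U a ⊔ E U a b`.
-/

set_option autoImplicit false
set_option linter.unusedSectionVars false

namespace Cfsg.Agent.ReeUniq

open MulAction Cfsg.Agent.OddUThree

variable {G Ω : Type*} [Group G] [MulAction G Ω] {U : Ω → Subgroup G} {n : ℕ}

/-! ### General lemmas -/

/-- Semiregular action by conjugation. -/
theorem card_dvd_of_free [Finite G] (T V : Subgroup G) (hTV : ∀ t ∈ T, ∀ v ∈ V, t * v * t⁻¹ ∈ V)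
    (hfree : ∀ t ∈ T, t ≠ 1 → ∀ v ∈ V, t * v = v * t → v = 1) : Nat.card T ∣ Nat.card V - 1 := by
  classical
  let act : MulAction T {v : V // v ≠ 1} :=
    { smul := fun t v => ⟨⟨(t : G) * v.1 * (t : G)⁻¹, hTV t t.2 _ v.1.2⟩, by
        intro h
        apply v.2
        have h1 : (t : G) * v.1 * (t : G)⁻¹ = 1 := congrArg Subtype.val h
        have h2 : (v.1 : G) = 1 := by
          have := congrArg (fun x => (t : G)⁻¹ * x * t) h1
          simpa [mul_assoc] using this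
        exact Subtype.ext h2⟩
      one_smul := fun v => by
        apply Subtype.ext; apply Subtype.ext
        show ((1 : T) : G) * v.1 * ((1 : T) : G)⁻¹ = v.1
        simp
      mul_smul := fun s t v => by
        apply Subtype.ext; apply Subtype.ext
        show ((s * t : T) : G) * v.1 * ((s * t : T) : G)⁻¹ = (s : G) * ((t : G) * v.1 * (t : G)⁻¹) * (s : G)⁻¹
        rw [Subgroup.coe_mul]; group }
  obtain ⟨m, hm⟩ := Lib.ActCount.exists_card_mul (H := T) (Y := {v : V // v ≠ 1}) 1 (by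
    intro v
    rw [Subgroup.card_eq_one, eq_bot_iff]
    intro t ht
    rw [Subgroup.mem_bot]
    by_contra hne
    apply v.2
    have h1 : (⟨(t : G) * v.1 * (t : G)⁻¹, hTV t t.2 _ v.1.2⟩ : V) = v.1 := congrArg Subtype.val (mem_stabilizer_iff.mp ht)
    have h2 : (t : G) * v.1 * (t : G)⁻¹ = v.1 := congrArg Subtype.val h1
    rw [mul_inv_eq_iff_eq_mul] at h2
    exact Subtype.ext (hfree t t.2 (fun h => hne (Subtype.ext h)) _ v.1.2 h2))
  have hc : Nat.card {v : V // v ≠ 1} = Nat.card V - 1 := by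
    have h1 := Set.ncard_compl ({1} : Set V)
    rw [Set.ncard_singleton] at h1
    rw [← h1]
    rfl
  rw [← hc]
  exact ⟨m, by rw [← Nat.one_mul (Nat.card _), hm, mul_comm]⟩

theorem card_mul_le' [Finite G] {V W X : Subgroup G} (hV : V ≤ X) (hW : W ≤ X) (h : ∀ x ∈ V, x ∈ W → x = 1) :
    Nat.card V * Nat.card W ≤ Nat.card X ∧
      (Nat.card V * Nat.card W = Nat.card X → ∀ x ∈ X, ∃ v ∈ V, ∃ w ∈ W, x = v * w) := by
  let f : V × W → X := fun p => ⟨(p.1 : G) * p.2, X.mul_mem (hV p.1.2) (hW p.2.2)⟩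
  have hf : Function.Injective f := by
    rintro ⟨v, w⟩ ⟨v', w'⟩ e
    have e1 : (v : G) * w = v' * w' := congrArg Subtype.val e
    have e2 : (v' : G)⁻¹ * v = w' * (w : G)⁻¹ := by
      rw [inv_mul_eq_iff_eq_mul, ← mul_assoc, ← e1]; group
    have e3 := h _ (V.mul_mem (V.inv_mem v'.2) v.2) (e2 ▸ W.mul_mem w'.2 (W.inv_mem w.2))
    have e4 : (v : G) = v' := by rw [inv_mul_eq_one] at e3; exact e3.symm
    rw [e4] at e1
    exact Prod.ext (Subtype.ext e4) (Subtype.ext (mul_left_cancel e1))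
  rw [← Nat.card_prod]
  refine ⟨Nat.card_le_card_of_injective f hf, ?_⟩
  intro hcard x hx
  have hb : Function.Bijective f := (Nat.bijective_iff_injective_and_card f).mpr ⟨hf, hcard⟩
  obtain ⟨⟨v, w⟩, hvw⟩ := hb.2 ⟨x, hx⟩
  exact ⟨v, v.2, w, w.2, (congrArg Subtype.val hvw).symm⟩

theorem dvd_of_half {i : ℕ} (hn : 0 < n) (h : (3 ^ n - 1) / 2 ∣ 3 ^ i - 1) : n ∣ i := by
  set m := (3 ^ n - 1) / 2 with hm
  have hm1 : m ∣ 3 ^ n - 1 := by
    have h2 : 2 ∣ 3 ^ n - 1 := by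
      have := Nat.sub_dvd_pow_sub_pow 3 1 n
      rw [one_pow] at this
      exact this
    exact ⟨2, by rw [hm, Nat.div_mul_cancel h2]⟩
  have h1 : m ∣ 3 ^ (n * (i / n)) - 1 := by
    refine hm1.trans ?_
    have := Nat.sub_dvd_pow_sub_pow (3 ^ n) 1 (i / n)
    rwa [one_pow, ← pow_mul] at this
  have h2 : m ∣ 3 ^ (i % n) - 1 := by
    have e : 3 ^ i - 1 = 3 ^ (i % n) * (3 ^ (n * (i / n)) - 1) + (3 ^ (i % n) - 1) := by
      have e1 : 3 ^ i = 3 ^ (i % n) * 3 ^ (n * (i / n)) := by rw [← pow_add, Nat.mod_add_div]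
      have p1 : 0 < 3 ^ (i % n) := by positivity
      have p2 : 0 < 3 ^ (n * (i / n)) := by positivity
      obtain ⟨x, hx⟩ : ∃ x, 3 ^ (n * (i / n)) = x + 1 := ⟨_, (Nat.succ_pred_eq_of_pos p2).symm⟩
      rw [e1, hx, Nat.add_sub_cancel, Nat.mul_add, Nat.mul_one]
      omega
    rw [e] at h
    exact (Nat.dvd_add_right (h1.mul_left _)).mp h
  have h3 : 3 ^ (i % n) - 1 < m := by
    have h4 : i % n ≤ n - 1 := by have := Nat.mod_lt i hn; omega
    have h5 : 3 ^ (i % n) ≤ 3 ^ (n - 1) := Nat.pow_le_pow_right (by norm_num) h4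
    have h6 : 3 ^ n = 3 * 3 ^ (n - 1) := by
      rw [← pow_succ']; congr 1; omega
    have h7 : 0 < 3 ^ (n - 1) := by positivity
    have h8 : 0 < 3 ^ (i % n) := by positivity
    rw [hm, h6]
    generalize 3 ^ (n - 1) = x at *
    generalize 3 ^ (i % n) = y at *
    omega
  have h4 : 3 ^ (i % n) - 1 = 0 := Nat.eq_zero_of_dvd_of_lt h2 h3
  have h5 : i % n = 0 := by
    by_contra hne
    have : 3 ^ 1 ≤ 3 ^ (i % n) := Nat.pow_le_pow_right (by norm_num) (Nat.pos_of_ne_zero hne)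
    omega
  exact Nat.dvd_of_mod_eq_zero h5

/-- The centre of `U a`. -/
def ZZ (U : Ω → Subgroup G) (a : Ω) : Subgroup G := U a ⊓ Subgroup.centralizer (U a : Set G)

theorem mem_ZZ {a : Ω} {z : G} : z ∈ ZZ U a ↔ z ∈ U a ∧ ∀ u ∈ U a, z * u = u * z := by
  rw [ZZ, Subgroup.mem_inf, Subgroup.mem_centralizer_iff]
  constructor
  · rintro ⟨h1, h2⟩; exact ⟨h1, fun u hu => (h2 u hu).symm⟩
  · rintro ⟨h1, h2⟩; exact ⟨h1, fun u hu => (h2 u hu).symm⟩

/-- Subgroups of `U a` invariant under `HH a b`. -/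
def Inv (U : Ω → Subgroup G) (a b : Ω) (V : Subgroup G) : Prop :=
  V ≤ U a ∧ ∀ h ∈ HH G a b, ∀ v ∈ V, h * v * h⁻¹ ∈ V

namespace Setup

variable (S : Setup G Ω U n) [Finite G]
include S

theorem card_inv {a b : Ω} (hab : a ≠ b) {V : Subgroup G} (hV : Inv U a b V) : ∃ k ≤ 3, Nat.card V = 3 ^ (n * k) := by
  have hcyc := S.cyc a b hab
  obtain ⟨g0, hg0⟩ := IsCyclic.exists_generator (α := ↥(HH G a b))
  have hord : orderOf (g0 : G) = 3 ^ n - 1 := by
    rw [Subgroup.orderOf_coe, orderOf_eq_card_of_forall_mem_zpowers hg0, S.cardH a b hab]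
  have hq := S.qmod
  have h3 := S.three_le
  have hord2 : orderOf ((g0 : G) ^ 2) = (3 ^ n - 1) / 2 := by
    rw [orderOf_pow, hord]
    congr 1
    have : 2 ∣ 3 ^ n - 1 := by
      generalize 3 ^ n = x at *
      omega
    exact Nat.gcd_eq_right this
  have hodd : Odd ((3 ^ n - 1) / 2) := by
    rw [Nat.odd_iff]
    generalize 3 ^ n = x at *
    omega
  have hle : Subgroup.zpowers ((g0 : G) ^ 2) ≤ HH G a b := by
    rw [Subgroup.zpowers_le]
    exact (HH G a b).pow_mem g0.2 2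
  have hd : (3 ^ n - 1) / 2 ∣ Nat.card V - 1 := by
    rw [← hord2, ← Nat.card_zpowers]
    refine card_dvd_of_free _ V (fun t ht v hv => hV.2 t (hle ht) v hv) ?_
    intro t ht ht1 v hv hc
    refine S.fpf a b hab t (hle ht) ht1 ?_ v (hV.1 hv) hc
    refine hodd.of_dvd_nat ?_
    rw [← hord2]
    exact (Subgroup.orderOf_dvd_natCard _ ht).trans (by rw [Nat.card_zpowers])
  have hdvd : Nat.card V ∣ 3 ^ (3 * n) := by
    rw [← S.cardU a]; exact Subgroup.card_dvd_of_le hV.1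
  obtain ⟨i, hi, hi'⟩ := (Nat.dvd_prime_pow Nat.prime_three).mp hdvd
  rw [hi'] at hd
  obtain ⟨k, rfl⟩ := dvd_of_half S.pos hd
  refine ⟨k, ?_, hi'⟩
  rw [mul_comm 3 n] at hi
  exact Nat.le_of_mul_le_mul_left hi S.pos

theorem one_lt : 1 < 3 ^ n := by have := S.three_le; omega

theorem inv_inf {a b : Ω} {V W : Subgroup G} (hV : Inv U a b V) (hW : Inv U a b W) : Inv U a b (V ⊓ W) :=
  ⟨inf_le_left.trans hV.1, fun h hh v hv => Subgroup.mem_inf.mpr
    ⟨hV.2 h hh v (Subgroup.mem_inf.mp hv).1, hW.2 h hh v (Subgroup.mem_inf.mp hv).2⟩⟩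

theorem inv_E {a b : Ω} (hab : a ≠ b) : Inv U a b (E U a b) := by
  refine ⟨fun x hx => (mem_E.mp hx).1, fun h hh v hv => ?_⟩
  rw [mem_E] at *
  refine ⟨S.conj_U_stab (mem_HH.mp hh).1 hv.1, ?_⟩
  have h1 := S.comm_H hab (S.jj_mem hab) hh
  have h2 : jj G a b * h⁻¹ = h⁻¹ * jj G a b := S.comm_H hab (S.jj_mem hab) ((HH G a b).inv_mem hh)
  calc jj G a b * (h * v * h⁻¹) = (jj G a b * h) * v * h⁻¹ := by group
    _ = h * (jj G a b * v) * h⁻¹ := by rw [h1]; group
    _ = h * v * (jj G a b * h⁻¹) := by rw [hv.2]; group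
    _ = h * v * h⁻¹ * jj G a b := by rw [h2]; group

theorem inv_ZZ {a b : Ω} : Inv U a b (ZZ U a) := by
  refine ⟨fun x hx => (mem_ZZ.mp hx).1, fun h hh v hv => ?_⟩
  rw [mem_ZZ] at *
  refine ⟨S.conj_U_stab (mem_HH.mp hh).1 hv.1, fun u hu => ?_⟩
  have h1 := hv.2 _ (S.conj_U_stab' (mem_HH.mp hh).1 hu)
  calc h * v * h⁻¹ * u = h * (v * (h⁻¹ * u * h)) * h⁻¹ := by group
    _ = u * (h * v * h⁻¹) := by rw [h1]; group

/-- Invariant subgroups of `E` are trivial or everything. -/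
theorem inv_le_E {a b : Ω} (hab : a ≠ b) {V : Subgroup G} (hV : Inv U a b V) (hle : V ≤ E U a b) : V = ⊥ ∨ V = E U a b := by
  obtain ⟨k, -, hk⟩ := S.card_inv hab hV
  have h1 : Nat.card V ∣ Nat.card (E U a b) := Subgroup.card_dvd_of_le hle
  rw [hk, S.card_E hab, Nat.pow_dvd_pow_iff_le_right (by norm_num)] at h1
  have h2 : k ≤ 1 := by
    by_contra hcon
    push Not at hcon
    have : n * 2 ≤ n * k := Nat.mul_le_mul_left _ hcon
    have := S.pos
    omega
  interval_cases k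
  · left
    rw [mul_zero, pow_zero] at hk
    exact Subgroup.card_eq_one.mp hk
  · right
    rw [mul_one] at hk
    exact Subgroup.eq_of_le_of_card_ge hle (by rw [hk, S.card_E hab])

theorem isPGroup {a : Ω} {V : Subgroup G} (hV : V ≤ U a) : IsPGroup 3 V := by
  have : Fact (Nat.Prime 3) := ⟨Nat.prime_three⟩
  exact (IsPGroup.of_card (S.cardU a)).to_le hV

/-- `E` is abelian. -/
theorem E_comm {a b : Ω} (hab : a ≠ b) {x y : G} (hx : x ∈ E U a b) (hy : y ∈ E U a b) : x * y = y * x := by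
  have : Fact (Nat.Prime 3) := ⟨Nat.prime_three⟩
  have hEU : E U a b ≤ U a := fun x hx => (mem_E.mp hx).1
  set C : Subgroup G := E U a b ⊓ Subgroup.centralizer (E U a b : Set G) with hC
  have hCmem : ∀ z, z ∈ C ↔ z ∈ E U a b ∧ ∀ e ∈ E U a b, e * z = z * e := by
    intro z; rw [hC, Subgroup.mem_inf, Subgroup.mem_centralizer_iff]; rfl
  have hCinv : Inv U a b C := by
    refine ⟨fun z hz => hEU ((hCmem z).mp hz).1, fun h hh v hv => ?_⟩
    rw [hCmem] at *
    refine ⟨(S.inv_E hab).2 h hh v hv.1, fun e he => ?_⟩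
    have h1 : h⁻¹ * e * h ∈ E U a b := by
      have := (S.inv_E hab).2 h⁻¹ ((HH G a b).inv_mem hh) e he
      simpa using this
    have h2 := hv.2 _ h1
    calc e * (h * v * h⁻¹) = h * (h⁻¹ * e * h * v) * h⁻¹ := by group
      _ = h * v * h⁻¹ * e := by rw [h2]; group
  rcases S.inv_le_E hab hCinv inf_le_left with h | h
  · exfalso
    have hE1 : Nontrivial (E U a b) := by
      obtain ⟨c, hc, hc1⟩ := S.exists_ne_one_E hab
      exact ⟨⟨c, hc⟩, 1, fun e => hc1 (congrArg Subtype.val e)⟩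
    have := (S.isPGroup hEU).center_nontrivial
    obtain ⟨z, hz⟩ := exists_ne (1 : Subgroup.center (E U a b))
    apply hz
    have hz1 : ((z : E U a b) : G) ∈ C := by
      rw [hCmem]
      refine ⟨z.1.2, fun e he => ?_⟩
      exact congrArg Subtype.val (Subgroup.mem_center_iff.mp z.2 ⟨e, he⟩)
    rw [h, Subgroup.mem_bot] at hz1
    exact Subtype.ext (Subtype.ext hz1)
  · have hx' : x ∈ C := by rw [h]; exact hx
    exact (((hCmem x).mp hx').2 y hy).symm

/-- An abelian invariant subgroup of order `q` has exponent 3. -/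
theorem cube_eq_one {a b : Ω} (hab : a ≠ b) {V : Subgroup G} (hV : Inv U a b V) (hcard : Nat.card V = 3 ^ n)
    (hcomm : ∀ x ∈ V, ∀ y ∈ V, x * y = y * x) {x : G} (hx : x ∈ V) : x ^ 3 = 1 := by
  have : Fact (Nat.Prime 3) := ⟨Nat.prime_three⟩
  let W : Subgroup G :=
    { carrier := {x | x ∈ V ∧ x ^ 3 = 1}
      one_mem' := ⟨V.one_mem, one_pow 3⟩
      mul_mem' := fun {x y} hx hy => ⟨V.mul_mem hx.1 hy.1, by
        have : Commute x y := hcomm x hx.1 y hy.1
        rw [this.mul_pow, hx.2, hy.2, one_mul]⟩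
      inv_mem' := fun {x} hx => ⟨V.inv_mem hx.1, by rw [inv_pow, hx.2, inv_one]⟩ }
  have hWinv : Inv U a b W := by
    refine ⟨fun z hz => hV.1 hz.1, fun h hh v hv => ⟨hV.2 h hh v hv.1, ?_⟩⟩
    rw [conj_pow, hv.2]; group
  obtain ⟨k, -, hk⟩ := S.card_inv hab hWinv
  have hk0 : k ≠ 0 := by
    rintro rfl
    rw [mul_zero, pow_zero, Subgroup.card_eq_one] at hk
    have h3 : 3 ∣ Nat.card V := by
      rw [hcard]; exact dvd_pow_self 3 (by have := S.pos; omega)
    obtain ⟨g, hg⟩ := exists_prime_orderOf_dvd_card' (G := V) 3 h3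
    have h4 : (g : G) ∈ W := ⟨g.2, by
      have := pow_orderOf_eq_one g
      rw [hg] at this
      exact congrArg Subtype.val this⟩
    rw [hk, Subgroup.mem_bot] at h4
    have h5 : g = 1 := Subtype.ext h4
    rw [h5, orderOf_one] at hg
    omega
  have hWV : W = V := by
    have hle : W ≤ V := fun z hz => hz.1
    apply Subgroup.eq_of_le_of_card_ge hle
    rw [hk, hcard]
    exact Nat.pow_le_pow_right (by norm_num) (Nat.le_mul_of_pos_right _ (Nat.pos_of_ne_zero hk0))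
  have : x ∈ W := by rw [hWV]; exact hx
  exact this.2

theorem ZZ_inf_E {a b : Ω} (hab : a ≠ b) {x : G} (hx : x ∈ ZZ U a) (hx' : x ∈ E U a b) : x = 1 := by
  have hinv := inv_inf S (S.inv_ZZ (a := a) (b := b)) (S.inv_E hab)
  rcases S.inv_le_E hab hinv inf_le_right with h | h
  · have : x ∈ ZZ U a ⊓ E U a b := ⟨hx, hx'⟩
    rw [h, Subgroup.mem_bot] at this
    exact this
  · exfalso
    obtain ⟨c, hc, u, hu, hne⟩ := S.not_central hab
    apply hne
    have : c ∈ ZZ U a ⊓ E U a b := by rw [h]; exact hc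
    exact (mem_ZZ.mp this.1).2 u hu

theorem card_ZZ {a b : Ω} (hab : a ≠ b) : Nat.card (ZZ U a) = 3 ^ n := by
  have : Fact (Nat.Prime 3) := ⟨Nat.prime_three⟩
  obtain ⟨k, -, hk⟩ := S.card_inv hab (S.inv_ZZ (a := a) (b := b))
  have hk0 : k ≠ 0 := by
    rintro rfl
    rw [mul_zero, pow_zero, Subgroup.card_eq_one] at hk
    have hU1 : Nontrivial (U a) := by
      have h1 := S.cardU a
      have : 1 < Nat.card (U a) := by
        rw [h1]; exact Nat.one_lt_pow (by have := S.pos; omega) (by norm_num)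
      exact Finite.one_lt_card_iff_nontrivial.mp this
    have := (S.isPGroup (le_refl (U a))).center_nontrivial
    obtain ⟨z, hz⟩ := exists_ne (1 : Subgroup.center (U a))
    apply hz
    have hz1 : ((z : U a) : G) ∈ ZZ U a := by
      rw [mem_ZZ]
      refine ⟨z.1.2, fun e he => ?_⟩
      exact congrArg Subtype.val (Subgroup.mem_center_iff.mp z.2 ⟨e, he⟩).symm
    rw [hk, Subgroup.mem_bot] at hz1
    exact Subtype.ext (Subtype.ext hz1)
  have hle := card_mul_le' (V := ZZ U a) (W := E U a b) (X := U a) (inv_ZZ (a := a) (b := b) S).1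
    (fun x hx => (mem_E.mp hx).1) (fun x => S.ZZ_inf_E hab)
  rw [hk, S.card_E hab, S.cardU a, ← pow_add] at hle
  have h1 : n * k + n ≤ 3 * n := (Nat.pow_le_pow_iff_right (by norm_num)).mp hle.1
  have h2 : k ≤ 2 := by
    by_contra hcon
    push Not at hcon
    have : n * 3 ≤ n * k := Nat.mul_le_mul_left _ hcon
    have := S.pos
    omega
  have h3 : k ≠ 2 := by
    rintro rfl
    have h4 := hle.2 (by congr 1; ring)
    obtain ⟨c, hc, u, hu, hne⟩ := S.not_central hab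
    apply hne
    obtain ⟨z, hz, e, he, rfl⟩ := h4 u hu
    have h5 := (mem_ZZ.mp hz).2 c (mem_E.mp hc).1
    have h6 := S.E_comm hab hc he
    calc c * (z * e) = (z * c) * e := by rw [h5]; group
      _ = z * (c * e) := by group
      _ = z * e * c := by rw [h6]; group
  have h4 : k = 1 := by omega
  rw [hk, h4, mul_one]

theorem ZZ_comm {a : Ω} {x y : G} (hx : x ∈ ZZ U a) (hy : y ∈ ZZ U a) : x * y = y * x :=
  (mem_ZZ.mp hx).2 y (mem_ZZ.mp hy).1

theorem ZZ_cube {a b : Ω} (hab : a ≠ b) {x : G} (hx : x ∈ ZZ U a) : x ^ 3 = 1 :=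
  S.cube_eq_one hab (S.inv_ZZ (b := b)) (S.card_ZZ hab) (fun _ hx _ hy => S.ZZ_comm hx hy) hx

theorem E_cube {a b : Ω} (hab : a ≠ b) {x : G} (hx : x ∈ E U a b) : x ^ 3 = 1 :=
  S.cube_eq_one hab (S.inv_E hab) (S.card_E hab) (fun _ hx _ hy => S.E_comm hab hx hy) hx

/-- `j` inverts the centre of `U`. -/
theorem jj_ZZ {a b : Ω} (hab : a ≠ b) {z : G} (hz : z ∈ ZZ U a) : jj G a b * z * jj G a b = z⁻¹ := by
  have hj := S.jj_mul_self hab
  have h1 := (S.inv_ZZ (a := a) (b := b)).2 (jj G a b) (S.jj_mem hab) z hz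
  rw [S.jj_inv hab] at h1
  have h2 := S.ZZ_comm hz h1
  have h3 : z * (jj G a b * z * jj G a b) ∈ E U a b := by
    rw [mem_E]
    refine ⟨(U a).mul_mem (mem_ZZ.mp hz).1 (mem_ZZ.mp h1).1, ?_⟩
    calc jj G a b * (z * (jj G a b * z * jj G a b)) = jj G a b * ((jj G a b * z * jj G a b) * z) := by rw [h2]
      _ = (jj G a b * jj G a b) * z * jj G a b * z := by group
      _ = z * jj G a b * z := by rw [hj]; group
      _ = z * (jj G a b * z * (jj G a b * jj G a b)) := by rw [hj]; group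
      _ = _ := by group
  have h4 := S.ZZ_inf_E hab ((ZZ U a).mul_mem hz h1) h3
  exact (inv_eq_of_mul_eq_one_right h4).symm

/-- `HH a b` acts freely on the centre. -/
theorem free_ZZ {a b : Ω} (hab : a ≠ b) {h z : G} (hh : h ∈ HH G a b) (h1 : h ≠ 1) (hz : z ∈ ZZ U a)
    (hc : h * z = z * h) : z = 1 := by
  by_cases hj : h = jj G a b
  · exact S.ZZ_inf_E hab hz (mem_E.mpr ⟨(mem_ZZ.mp hz).1, by rw [← hj]; exact hc⟩)
  · exact S.fpf' hab hh h1 hj (mem_ZZ.mp hz).1 hc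

end Setup

end Cfsg.Agent.ReeUniq
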