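import Cfsg.Agent.OddUThree.Count

/-!
# The set-up of S1149 as a permutation group

`Setup G Ω U n` : the simple group `G` is 2-transitive on `Ω`, `U a` is a `G`-equivariant family of subgroups, `U a` fixes `a`
and is regular on the other points, `|U a| = 3 ^ (3 n)`, the two-point stabilisers `HH G a b` are cyclic of order `3 ^ n - 1`.
`jj G a b` is the involution of `HH G a b`, `E U a b = C_{U a}(jj a b)`.

Main results: `card_E : |E U a b| = 3 ^ n`, `swap_mul_self`/`swap_conj` : every element which swaps two points is an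
involution inverting the two-point stabiliser, `no_common_fixed` : distinct commuting involutions have no common fixed point.
-/

set_option autoImplicit false
set_option linter.unusedSectionVars false

namespace Cfsg.Agent.ReeUniq

open MulAction Cfsg.Agent.OddUThree

/-- The two-point stabiliser. -/
abbrev HH (G : Type*) {Ω : Type*} [Group G] [MulAction G Ω] (a b : Ω) : Subgroup G := stabilizer G a ⊓ stabilizer G b

/-- The set-up of S1149 as a permutation group. -/
structure Setup (G Ω : Type*) [Group G] [MulAction G Ω] (U : Ω → Subgroup G) (n : ℕ) : Prop where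
  odd : Odd n
  simple : IsSimpleGroup G
  faithful : ∀ g : G, (∀ x : Ω, g • x = x) → g = 1
  conj : ∀ (g : G) (a : Ω), ∀ u ∈ U a, g * u * g⁻¹ ∈ U (g • a)
  fix : ∀ (a : Ω), ∀ u ∈ U a, u • a = a
  reg : ∀ a b c : Ω, b ≠ a → c ≠ a → ∃! u : G, u ∈ U a ∧ u • b = c
  two : ∀ a b a' b' : Ω, a ≠ b → a' ≠ b' → ∃ g : G, g • a = a' ∧ g • b = b'
  cardU : ∀ a, Nat.card (U a) = 3 ^ (3 * n)
  cyc : ∀ a b : Ω, a ≠ b → IsCyclic ↥(HH G a b)
  cardH : ∀ a b : Ω, a ≠ b → Nat.card (HH G a b) = 3 ^ n - 1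
  fpf : ∀ a b : Ω, a ≠ b → ∀ h ∈ HH G a b, h ≠ 1 → Odd (orderOf h) → ∀ u ∈ U a, h * u = u * h → u = 1
  cardC : ∀ a b : Ω, a ≠ b → ∀ j ∈ HH G a b, j ≠ 1 → j * j = 1 →
    Nat.card (Subgroup.centralizer {j}) = 3 ^ n * (3 ^ (2 * n) - 1)
  sylow : ∀ S : Sylow 2 G, Nat.card S = 8 ∧ ∀ x ∈ S, x * x = 1

variable {G Ω : Type*} [Group G] [MulAction G Ω] {U : Ω → Subgroup G} {n : ℕ}

theorem mem_HH {a b : Ω} {g : G} : g ∈ HH G a b ↔ g • a = a ∧ g • b = b := by
  simp [HH, Subgroup.mem_inf, mem_stabilizer_iff]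

theorem HH_comm (a b : Ω) : HH G a b = HH G b a := inf_comm _ _

theorem conj_mem_HH {a b : Ω} {k : G} (g : G) (hk : k ∈ HH G a b) : g * k * g⁻¹ ∈ HH G (g • a) (g • b) := by
  rw [mem_HH] at *
  constructor
  · rw [mul_smul, mul_smul, inv_smul_smul, hk.1]
  · rw [mul_smul, mul_smul, inv_smul_smul, hk.2]

/-! ### Arithmetic of `3 ^ n`, `n` odd -/

theorem three_pow_mod (hn : Odd n) : 3 ^ n % 8 = 3 := by
  obtain ⟨k, rfl⟩ := hn
  rw [pow_succ, pow_mul, Nat.mul_mod, Nat.pow_mod]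
  norm_num

theorem three_le_pow (hn : Odd n) : 3 ≤ 3 ^ n := by
  calc 3 = 3 ^ 1 := (pow_one 3).symm
    _ ≤ 3 ^ n := Nat.pow_le_pow_right (by norm_num) hn.pos

/-- In a finite cyclic group of even order there is exactly one involution. -/
theorem exists_unique_invol {G : Type*} [Group G] [Finite G] (A : Subgroup G) (hA : IsCyclic A) (h2 : 2 ∣ Nat.card A) :
    ∃ j : G, (j ∈ A ∧ j ≠ 1 ∧ j * j = 1) ∧ ∀ g : G, g ∈ A → g ≠ 1 → g * g = 1 → g = j := by
  have : Fact (Nat.Prime 2) := ⟨Nat.prime_two⟩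
  obtain ⟨x, hx⟩ := exists_prime_orderOf_dvd_card' (G := A) 2 h2
  have hx' : orderOf (x : G) = 2 := by rw [← hx]; exact Subgroup.orderOf_coe x
  have hxx : (x : G) * x = 1 := by rw [← pow_two, ← hx', pow_orderOf_eq_one]
  refine ⟨x, ⟨x.2, ?_, hxx⟩, ?_⟩
  · intro h; rw [h, orderOf_one] at hx'; omega
  · intro g hg hg1 hg2
    have hog : orderOf (⟨g, hg⟩ : A) = 2 := by
      apply orderOf_eq_prime
      · ext; simp [pow_two, hg2]
      · intro h; exact hg1 (congrArg Subtype.val h)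
    have h1 : Subgroup.zpowers (⟨g, hg⟩ : A) = Subgroup.zpowers x := by
      apply Count.eq_of_card
      rw [Nat.card_zpowers, Nat.card_zpowers, hog, hx]
    have h2 : (⟨g, hg⟩ : A) ∈ Subgroup.zpowers x := h1 ▸ Subgroup.mem_zpowers _
    obtain ⟨i, hi⟩ := Subgroup.mem_zpowers_iff.mp h2
    rcases Int.even_or_odd' i with ⟨j, hj | hj⟩
    · exfalso
      apply hg1
      have : (⟨g, hg⟩ : A) = 1 := by
        rw [← hi, hj, zpow_mul, show (2 : ℤ) = ((2 : ℕ) : ℤ) from rfl, zpow_natCast, ← hx, pow_orderOf_eq_one, one_zpow]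
      exact congrArg Subtype.val this
    · have : (⟨g, hg⟩ : A) = x := by
        rw [← hi, hj, zpow_add_one, zpow_mul, show (2 : ℤ) = ((2 : ℕ) : ℤ) from rfl, zpow_natCast, ← hx,
          pow_orderOf_eq_one, one_zpow, one_mul]
      exact congrArg Subtype.val this

open scoped Classical in
/-- The unique involution of the two-point stabiliser. -/
noncomputable def jj (G : Type*) {Ω : Type*} [Group G] [MulAction G Ω] (a b : Ω) : G :=
  if h : ∃ j : G, (j ∈ HH G a b ∧ j ≠ 1 ∧ j * j = 1) ∧ ∀ g : G, g ∈ HH G a b → g ≠ 1 → g * g = 1 → g = j then h.choose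
  else 1

/-- The subgroup `C_{U a}(jj a b)`. -/
def E (U : Ω → Subgroup G) (a b : Ω) : Subgroup G := U a ⊓ Subgroup.centralizer {jj G a b}

theorem mem_E {U : Ω → Subgroup G} {a b : Ω} {x : G} : x ∈ E U a b ↔ x ∈ U a ∧ jj G a b * x = x * jj G a b := by
  rw [E, Subgroup.mem_inf, Subgroup.mem_centralizer_iff]
  simp

namespace Setup

variable (S : Setup G Ω U n)
include S

theorem comm_H {a b : Ω} (hab : a ≠ b) {x y : G} (hx : x ∈ HH G a b) (hy : y ∈ HH G a b) : x * y = y * x := by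
  have := S.cyc a b hab
  have h := (IsCyclic.commGroup (α := ↥(HH G a b))).mul_comm ⟨x, hx⟩ ⟨y, hy⟩
  exact congrArg Subtype.val h

theorem pos : 0 < n := S.odd.pos

theorem qmod : 3 ^ n % 8 = 3 := three_pow_mod S.odd

theorem three_le : 3 ≤ 3 ^ n := three_le_pow S.odd

variable [Finite G]

theorem jj_spec {a b : Ω} (hab : a ≠ b) : (jj G a b ∈ HH G a b ∧ jj G a b ≠ 1 ∧ jj G a b * jj G a b = 1) ∧
    ∀ g : G, g ∈ HH G a b → g ≠ 1 → g * g = 1 → g = jj G a b := by
  have h := exists_unique_invol (HH G a b) (S.cyc a b hab) (by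
    rw [S.cardH a b hab]; have := S.qmod; omega)
  rw [jj, dif_pos h]
  exact h.choose_spec

theorem jj_mem {a b : Ω} (hab : a ≠ b) : jj G a b ∈ HH G a b := (S.jj_spec hab).1.1
theorem jj_ne_one {a b : Ω} (hab : a ≠ b) : jj G a b ≠ 1 := (S.jj_spec hab).1.2.1
theorem jj_mul_self {a b : Ω} (hab : a ≠ b) : jj G a b * jj G a b = 1 := (S.jj_spec hab).1.2.2
theorem eq_jj {a b : Ω} (hab : a ≠ b) {g : G} (hg : g ∈ HH G a b) (h1 : g ≠ 1) (h2 : g * g = 1) : g = jj G a b :=
  (S.jj_spec hab).2 g hg h1 h2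
theorem jj_inv {a b : Ω} (hab : a ≠ b) : (jj G a b)⁻¹ = jj G a b :=
  inv_eq_of_mul_eq_one_left (S.jj_mul_self hab)
theorem jj_smul_left {a b : Ω} (hab : a ≠ b) : jj G a b • a = a := (mem_HH.mp (S.jj_mem hab)).1
theorem jj_smul_right {a b : Ω} (hab : a ≠ b) : jj G a b • b = b := (mem_HH.mp (S.jj_mem hab)).2

theorem conj_jj {a b : Ω} (hab : a ≠ b) (g : G) : g * jj G a b * g⁻¹ = jj G (g • a) (g • b) := by
  have hab' : g • a ≠ g • b := fun h => hab (smul_left_cancel g h)
  refine S.eq_jj hab' (conj_mem_HH g (S.jj_mem hab)) ?_ ?_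
  · intro h
    apply S.jj_ne_one hab
    have := congrArg (fun x => g⁻¹ * x * g) h
    simpa [mul_assoc] using this
  · have : g * jj G a b * g⁻¹ * (g * jj G a b * g⁻¹) = g * (jj G a b * jj G a b) * g⁻¹ := by group
    rw [this, S.jj_mul_self hab]; group

theorem jj_comm {a b : Ω} (hab : a ≠ b) : jj G a b = jj G b a := by
  refine S.eq_jj hab.symm ?_ (S.jj_ne_one hab) (S.jj_mul_self hab)
  rw [HH_comm]; exact S.jj_mem hab

/-- An involution fixing two points `x ≠ y` is `jj x y`. -/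
theorem eq_jj' {x y : Ω} (hxy : x ≠ y) {g : G} (h1 : g ≠ 1) (h2 : g * g = 1) (hx : g • x = x) (hy : g • y = y) :
    g = jj G x y := S.eq_jj hxy (mem_HH.mpr ⟨hx, hy⟩) h1 h2

/-! ### Fixed points -/

theorem ne_of_U {a b : Ω} (hab : b ≠ a) {u : G} (hu : u ∈ U a) : u • b ≠ a := by
  intro h
  apply hab
  have h1 : u • b = u • a := by rw [h, S.fix a u hu]
  exact smul_left_cancel u h1

theorem eq_of_U {a b : Ω} (hab : b ≠ a) {u v : G} (hu : u ∈ U a) (hv : v ∈ U a) (h : u • b = v • b) : u = v := by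
  obtain ⟨w, -, hw⟩ := S.reg a b (v • b) hab (S.ne_of_U hab hv)
  rw [hw u ⟨hu, h⟩, hw v ⟨hv, rfl⟩]

theorem eq_one_of_U {a b : Ω} (hab : b ≠ a) {u : G} (hu : u ∈ U a) (h : u • b = b) : u = 1 :=
  S.eq_of_U hab hu (U a).one_mem (by rw [h, one_smul])

theorem exists_U {a b c : Ω} (hab : b ≠ a) (hc : c ≠ a) : ∃ u ∈ U a, u • b = c := by
  obtain ⟨u, ⟨hu, hu'⟩, -⟩ := S.reg a b c hab hc
  exact ⟨u, hu, hu'⟩

theorem conj_U_stab {a : Ω} {g : G} (hg : g • a = a) {u : G} (hu : u ∈ U a) : g * u * g⁻¹ ∈ U a := by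
  have := S.conj g a u hu
  rwa [hg] at this

theorem conj_U_stab' {a : Ω} {g : G} (hg : g • a = a) {u : G} (hu : u ∈ U a) : g⁻¹ * u * g ∈ U a := by
  have := S.conj_U_stab (g := g⁻¹) (by rw [inv_smul_eq_iff, hg]) hu
  simpa using this

/-- Points fixed by `y ∈ HH a b`. -/
theorem fixed_iff {a b : Ω} (hab : a ≠ b) {u y : G} (hu : u ∈ U a) (hy : y ∈ HH G a b) :
    y • u • b = u • b ↔ y * u = u * y := by
  rw [mem_HH] at hy
  constructor
  · intro h
    have h1 : (y * u * y⁻¹) • b = u • b := by rw [mul_smul, mul_smul, inv_smul_eq_iff.mpr hy.2.symm, h]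
    have := S.eq_of_U hab.symm (S.conj_U_stab hy.1 hu) hu h1
    rw [mul_inv_eq_iff_eq_mul] at this
    exact this
  · intro h
    rw [← mul_smul, h, mul_smul, hy.2]

/-- Number of fixed points of a subgroup of `HH a b`. -/
theorem ncard_fixed {a b : Ω} (hab : a ≠ b) (Y : Subgroup G) (hY : Y ≤ HH G a b) :
    {x : Ω | ∀ y ∈ Y, y • x = x}.ncard = Nat.card ↥(U a ⊓ Subgroup.centralizer (Y : Set G)) + 1 := by
  have hfix : ∀ y ∈ Y, y • a = a := fun y hy => (mem_HH.mp (hY hy)).1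
  have e : {x : Ω | ∀ y ∈ Y, y • x = x} =
      insert a ((fun u : G => u • b) '' (U a ⊓ Subgroup.centralizer (Y : Set G) : Subgroup G)) := by
    ext x
    simp only [Set.mem_ofPred_eq, Set.mem_insert_iff, Set.mem_image, SetLike.mem_coe, Subgroup.mem_inf]
    constructor
    · intro h
      by_cases hx : x = a
      · exact Or.inl hx
      · right
        obtain ⟨u, hu, hub⟩ := S.exists_U hab.symm hx
        refine ⟨u, ⟨hu, ?_⟩, hub⟩
        rw [Subgroup.mem_centralizer_iff]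
        intro y hy
        have := h y hy
        rw [← hub] at this
        exact (S.fixed_iff hab hu (hY hy)).mp this
    · rintro (rfl | ⟨u, ⟨hu, huc⟩, rfl⟩)
      · exact hfix
      · intro y hy
        exact (S.fixed_iff hab hu (hY hy)).mpr (Subgroup.mem_centralizer_iff.mp huc y hy)
  rw [e, Set.ncard_insert_of_notMem]
  · rw [Set.InjOn.ncard_image, ← Nat.card_coe_set_eq]
    · rfl
    · intro u hu v hv h
      exact S.eq_of_U hab.symm hu.1 hv.1 h
  · rintro ⟨u, hu, h⟩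
    exact S.ne_of_U hab.symm hu.1 h

theorem card_points {a b : Ω} (hab : a ≠ b) : Nat.card Ω = 3 ^ (3 * n) + 1 := by
  have := S.ncard_fixed hab ⊥ bot_le
  have h1 : {x : Ω | ∀ y ∈ (⊥ : Subgroup G), y • x = x} = Set.univ := by
    ext x; simp [Subgroup.mem_bot]
  rw [h1, Set.ncard_univ] at this
  rw [this]
  have h2 : U a ⊓ Subgroup.centralizer ((⊥ : Subgroup G) : Set G) = U a := by
    rw [inf_eq_left]
    intro u _
    rw [Subgroup.mem_centralizer_iff]
    simp
  rw [h2, S.cardU]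

theorem finite_points {a b : Ω} (hab : a ≠ b) : Finite Ω := by
  have := S.card_points hab
  exact Nat.finite_of_card_ne_zero (by rw [this]; exact Nat.succ_ne_zero _)

/-- The stabiliser of a point is `U a` times the two-point stabiliser. -/
theorem exists_mul {a b : Ω} (hab : a ≠ b) {g : G} (hg : g • a = a) : ∃ u ∈ U a, ∃ h ∈ HH G a b, g = u * h := by
  have hb : g • b ≠ a := fun h => hab.symm (smul_left_cancel g (h.trans hg.symm))
  obtain ⟨u, hu, hub⟩ := S.exists_U hab.symm hb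
  refine ⟨u, hu, u⁻¹ * g, ?_, by group⟩
  rw [mem_HH, mul_smul, mul_smul, hg]
  refine ⟨?_, ?_⟩
  · rw [inv_smul_eq_iff, S.fix a u hu]
  · rw [inv_smul_eq_iff, hub]

theorem U_inf_H {a b : Ω} (hab : a ≠ b) {u : G} (hu : u ∈ U a) (hh : u ∈ HH G a b) : u = 1 :=
  S.eq_one_of_U hab.symm hu (mem_HH.mp hh).2

theorem card_stab {a b : Ω} (hab : a ≠ b) : Nat.card (stabilizer G a) = 3 ^ (3 * n) * (3 ^ n - 1) := by
  rw [← S.cardU a, ← S.cardH a b hab, ← Nat.card_prod]
  refine (Nat.card_congr (Equiv.ofBijective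
    (fun p : U a × HH G a b => (⟨(p.1 : G) * p.2, ?_⟩ : stabilizer G a)) ⟨?_, ?_⟩)).symm
  · rw [mem_stabilizer_iff, mul_smul, (mem_HH.mp p.2.2).1, S.fix a _ p.1.2]
  · rintro ⟨u, h⟩ ⟨u', h'⟩ e
    have e1 : (u : G) * h = u' * h' := congrArg Subtype.val e
    have e2 : (u' : G)⁻¹ * u = h' * (h : G)⁻¹ := by
      rw [inv_mul_eq_iff_eq_mul, ← mul_assoc, ← e1]; group
    have e3 : (u' : G)⁻¹ * u = 1 :=
      S.U_inf_H hab ((U a).mul_mem ((U a).inv_mem u'.2) u.2)
        (e2 ▸ (HH G a b).mul_mem h'.2 ((HH G a b).inv_mem h.2))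
    have e4 : (u : G) = u' := by rw [inv_mul_eq_one] at e3; exact e3.symm
    rw [e4] at e1
    exact Prod.ext (Subtype.ext e4) (Subtype.ext (mul_left_cancel e1))
  · rintro ⟨g, hg⟩
    obtain ⟨u, hu, h, hh, rfl⟩ := S.exists_mul hab (mem_stabilizer_iff.mp hg)
    exact ⟨(⟨u, hu⟩, ⟨h, hh⟩), rfl⟩

/-- `C_U(j)` is regular on the remaining fixed points of `j`. -/
theorem fix_jj_iff {a b : Ω} (hab : a ≠ b) {x : Ω} : jj G a b • x = x ↔ x = a ∨ ∃ c ∈ E U a b, c • b = x := by
  constructor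
  · intro h
    by_cases hx : x = a
    · exact Or.inl hx
    · right
      obtain ⟨u, hu, rfl⟩ := S.exists_U hab.symm hx
      exact ⟨u, mem_E.mpr ⟨hu, (S.fixed_iff hab hu (S.jj_mem hab)).mp h⟩, rfl⟩
  · rintro (rfl | ⟨c, hc, rfl⟩)
    · exact S.jj_smul_left hab
    · exact (S.fixed_iff hab (mem_E.mp hc).1 (S.jj_mem hab)).mpr (mem_E.mp hc).2

theorem ncard_fix_jj {a b : Ω} (hab : a ≠ b) : {x : Ω | jj G a b • x = x}.ncard = Nat.card (E U a b) + 1 := by
  have h := S.ncard_fixed hab (Subgroup.zpowers (jj G a b)) (by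
    rw [Subgroup.zpowers_le]; exact S.jj_mem hab)
  have e1 : {x : Ω | ∀ y ∈ Subgroup.zpowers (jj G a b), y • x = x} = {x : Ω | jj G a b • x = x} := by
    ext x
    constructor
    · intro hx
      exact hx _ (Subgroup.mem_zpowers _)
    · intro hx y hy
      have : Subgroup.zpowers (jj G a b) ≤ stabilizer G x := by
        rw [Subgroup.zpowers_le]; exact mem_stabilizer_iff.mpr hx
      exact mem_stabilizer_iff.mp (this hy)
  have e2 : U a ⊓ Subgroup.centralizer ((Subgroup.zpowers (jj G a b) : Subgroup G) : Set G) = E U a b := by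
    rw [E, Subgroup.zpowers_eq_closure, Subgroup.centralizer_closure]
  rw [e1, e2] at h
  exact h

/-- The centraliser of `j` acts 2-transitively on the fixed points of `j`. -/
theorem exists_centralizer {a b : Ω} (hab : a ≠ b) {x y : Ω} (hxy : x ≠ y) (hx : jj G a b • x = x)
    (hy : jj G a b • y = y) : ∃ g : G, jj G a b * g = g * jj G a b ∧ g • a = x ∧ g • b = y := by
  obtain ⟨g, hga, hgb⟩ := S.two a b x y hab hxy
  refine ⟨g, ?_, hga, hgb⟩
  have h1 := S.conj_jj hab g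
  rw [hga, hgb] at h1
  have h2 := S.eq_jj' hxy (S.jj_ne_one hab) (S.jj_mul_self hab) hx hy
  rw [← h2, mul_inv_eq_iff_eq_mul] at h1
  exact h1.symm

theorem card_E {a b : Ω} (hab : a ≠ b) : Nat.card (E U a b) = 3 ^ n := by
  classical
  have hfin := S.finite_points hab
  have : Fintype Ω := Fintype.ofFinite Ω
  set j := jj G a b with hj
  set C : Subgroup G := Subgroup.centralizer {j} with hC
  have hmem : ∀ g : G, g ∈ C ↔ j * g = g * j := by
    intro g; rw [hC, Subgroup.mem_centralizer_iff]; simp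
  -- orbit of (a, b)
  have hcard : Nat.card (orbit C ((a, b) : Ω × Ω)) * Nat.card (stabilizer C ((a, b) : Ω × Ω)) = Nat.card C := by
    rw [← Nat.card_prod]
    exact Nat.card_congr (orbitProdStabilizerEquivGroup C ((a, b) : Ω × Ω))
  have hstab : Nat.card (stabilizer C ((a, b) : Ω × Ω)) = 3 ^ n - 1 := by
    rw [← S.cardH a b hab]
    refine Nat.card_congr ⟨fun g => ⟨g.1.1, ?_⟩, fun h => ⟨⟨h.1, ?_⟩, ?_⟩, fun g => rfl, fun h => rfl⟩
    · have := mem_stabilizer_iff.mp g.2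
      rw [mem_HH]
      exact ⟨congrArg Prod.fst this, congrArg Prod.snd this⟩
    · rw [hmem]
      exact S.comm_H hab (S.jj_mem hab) h.2
    · rw [mem_stabilizer_iff]
      exact Prod.ext (mem_HH.mp h.2).1 (mem_HH.mp h.2).2
  set D : Finset Ω := Finset.univ.filter fun x => j • x = x with hD
  have hDc : D.card = Nat.card (E U a b) + 1 := by
    rw [← S.ncard_fix_jj hab, ← Set.ncard_coe_finset]
    congr 1; ext x; simp [hD, hj]
  have horb : Nat.card (orbit C ((a, b) : Ω × Ω)) = (Nat.card (E U a b) + 1) * Nat.card (E U a b) := by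
    have e : (orbit C ((a, b) : Ω × Ω)) = (D.offDiag : Set (Ω × Ω)) := by
      ext ⟨x, y⟩
      simp only [Finset.coe_offDiag, Set.mem_offDiag, Finset.mem_coe]
      constructor
      · rintro ⟨g, hg⟩
        have h1 : (g : G) • a = x := congrArg Prod.fst hg
        have h2 : (g : G) • b = y := congrArg Prod.snd hg
        have h3 := (hmem g).mp g.2
        refine ⟨?_, ?_, ?_⟩
        · simp only [hD, Finset.mem_filter, Finset.mem_univ, true_and]
          rw [← h1, ← mul_smul, h3, mul_smul, S.jj_smul_left hab]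
        · simp only [hD, Finset.mem_filter, Finset.mem_univ, true_and]
          rw [← h2, ← mul_smul, h3, mul_smul, S.jj_smul_right hab]
        · rw [← h1, ← h2]
          exact fun h => hab (smul_left_cancel _ h)
      · rintro ⟨hx, hy, hxy⟩
        simp only [hD, Finset.mem_filter, Finset.mem_univ, true_and] at hx hy
        obtain ⟨g, hg, hga, hgb⟩ := S.exists_centralizer hab hxy hx hy
        exact ⟨⟨g, (hmem g).mpr hg⟩, Prod.ext hga hgb⟩
    rw [e, Nat.card_coe_set_eq, Set.ncard_coe_finset, Finset.offDiag_card, hDc]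
    rw [← Nat.mul_sub_one]; rfl
  have hC' := S.cardC a b hab j (S.jj_mem hab) (S.jj_ne_one hab) (S.jj_mul_self hab)
  rw [← hC, ← hcard, horb, hstab] at hC'
  set e := Nat.card (E U a b)
  have hq := S.three_le
  set q := 3 ^ n
  have hqq : 3 ^ (2 * n) = q * q := by rw [mul_comm 2 n, pow_mul, pow_two]
  rw [hqq] at hC'
  obtain ⟨r, hr⟩ : ∃ r, q = r + 1 := ⟨q - 1, by omega⟩
  have h1 : (e + 1) * e * r = (r + 1) * ((r + 2) * r) := by
    have e1 : q * q - 1 = (r + 2) * r := by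
      rw [hr]; ring_nf; omega
    have e2 : q - 1 = r := by omega
    rw [e1, e2, hr] at hC'
    exact hC'
  have hr0 : 0 < r := by omega
  have h2 : (e + 1) * e = (r + 1) * (r + 2) := by
    apply Nat.eq_of_mul_eq_mul_right hr0
    rw [h1]; ring
  rw [hr]
  nlinarith [h2, Nat.lt_trichotomy e (r + 1)]

end Setup

end Cfsg.Agent.ReeUniq
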