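/-
`σ ∘ σ = Frobenius` on a field of order `3 ^ (2 m + 1)` forces `σ x = x ^ 3 ^ (m + 1)`.
-/
import Cfsg.Agent.ReeUniq.MidField

set_option autoImplicit false

namespace Cfsg.Agent.ReeUniq

variable {K : Type*} [Field K] [Finite K]

theorem iterate_two_mul (σ : K →+* K) (h : ∀ x, σ (σ x) = x ^ 3) (k : ℕ) (x : K) : σ^[2 * k] x = x ^ 3 ^ k := by
  induction k generalizing x with
  | zero => simp
  | succ k ih =>
    rw [show 2 * (k + 1) = 2 * k + 1 + 1 by ring, Function.iterate_succ_apply, Function.iterate_succ_apply, h, ih,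
      ← pow_mul, pow_succ']

/-- `σ² = 3` determines `σ`. -/
theorem sigma_eq_pow {m : ℕ} (hK : Nat.card K = 3 ^ (2 * m + 1)) (σ : K →+* K) (h : ∀ x, σ (σ x) = x ^ 3) (x : K) :
    σ x = x ^ 3 ^ (m + 1) := by
  have h1 := FieldM.sigma_iterate (n := 2 * m + 1) ⟨m, rfl⟩ hK σ x
  have h2 := iterate_two_mul σ h (m + 1) x
  rw [← h2, show 2 * (m + 1) = (2 * m + 1) + 1 by ring, Function.iterate_succ_apply', h1]

end Cfsg.Agent.ReeUniq
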