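import Cfsg.Agent.ReeUniq.Setup

/-!
# S1149: elements which swap two points are involutions

`swap_mem_JJ`, `swap_mul_self`, `swap_conj`, `invol_mem_JJ`, `no_common_fixed`, `fpf'`.
-/

set_option autoImplicit false
set_option linter.unusedSectionVars false

namespace Cfsg.Agent.ReeUniq

open MulAction Cfsg.Agent.OddUThree

/-- The set of all involutions fixing two points. -/
def JJ (G Ω : Type*) [Group G] [MulAction G Ω] : Set G := {u | ∃ a b : Ω, a ≠ b ∧ u = jj G a b}

variable {G Ω : Type*} [Group G] [MulAction G Ω] {U : Ω → Subgroup G} {n : ℕ}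

namespace Setup

variable (S : Setup G Ω U n) [Finite G]
include S

theorem mem_JJ_iff {u : G} : u ∈ JJ G Ω ↔ u ≠ 1 ∧ u * u = 1 ∧ ∃ a b : Ω, a ≠ b ∧ u • a = a ∧ u • b = b := by
  constructor
  · rintro ⟨a, b, hab, rfl⟩
    exact ⟨S.jj_ne_one hab, S.jj_mul_self hab, a, b, hab, S.jj_smul_left hab, S.jj_smul_right hab⟩
  · rintro ⟨h1, h2, a, b, hab, ha, hb⟩
    exact ⟨a, b, hab, S.eq_jj' hab h1 h2 ha hb⟩

theorem JJ_conj {u : G} (hu : u ∈ JJ G Ω) (g : G) : g * u * g⁻¹ ∈ JJ G Ω := by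
  obtain ⟨a, b, hab, rfl⟩ := hu
  exact ⟨g • a, g • b, fun h => hab (smul_left_cancel g h), S.conj_jj hab g⟩

theorem ncard_swap {a b : Ω} (hab : a ≠ b) : {u ∈ JJ G Ω | u • a = b}.ncard = 3 ^ n - 1 := by
  have hfin := S.finite_points hab
  have h := Count.count_swap (⊤ : Subgroup G) (Set.univ : Set Ω) (Set.toFinite _) (fun _ _ _ _ => trivial) ?_ (JJ G Ω)
    (fun _ _ => trivial) (fun g _ u hu => S.JJ_conj hu g) (3 ^ n + 1) ?_ ?_ (Set.mem_univ a) (Set.mem_univ b) hab
  · rw [Set.ncard_univ, S.card_points hab, Nat.add_sub_cancel] at h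
    have hq := S.three_le
    set q := 3 ^ n
    have hqq : 3 ^ (3 * n) = q * q * q := by rw [mul_comm 3 n, pow_mul]; ring
    rw [hqq] at h
    obtain ⟨r, hr⟩ : ∃ r, q = r + 1 := ⟨q - 1, by omega⟩
    set s := {u ∈ JJ G Ω | u • a = b}.ncard
    have e2 : q - 1 = r := by omega
    rw [e2]
    rw [hr] at h
    have h1 : s * ((r + 1 + 1) * (r + 1)) = r * ((r + 1 + 1) * (r + 1)) := by nlinarith
    exact Nat.eq_of_mul_eq_mul_right (by positivity) h1
  · intro x _ y _ x' _ y' _ hxy hxy'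
    obtain ⟨g, h1, h2⟩ := S.two x y x' y' hxy hxy'
    exact ⟨g, trivial, h1, h2⟩
  · rintro u ⟨x, y, hxy, rfl⟩
    have := S.ncard_fix_jj hxy
    rw [S.card_E hxy] at this
    rw [← this]
    congr 1; ext z; simp
  · intro x _ y _ hxy
    refine ⟨jj G x y, ⟨⟨x, y, hxy, rfl⟩, S.jj_smul_left hxy, S.jj_smul_right hxy⟩, ?_⟩
    rintro v ⟨⟨x', y', hxy', rfl⟩, h1, h2⟩
    exact S.eq_jj' hxy (S.jj_ne_one hxy') (S.jj_mul_self hxy') h1 h2

theorem swap_mem_JJ {a b : Ω} (hab : a ≠ b) {g : G} (h1 : g • a = b) (h2 : g • b = a) : g ∈ JJ G Ω := by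
  have hT : {t : G | t • a = b ∧ t • b = a}.ncard = 3 ^ n - 1 := by
    rw [← S.cardH a b hab]
    have : {t : G | t • a = b ∧ t • b = a} = (fun h => g * h) '' (HH G a b : Set G) := by
      ext t
      constructor
      · rintro ⟨ht1, ht2⟩
        refine ⟨g⁻¹ * t, ?_, by simp⟩
        rw [SetLike.mem_coe, mem_HH, mul_smul, mul_smul, ht1, ht2, inv_smul_eq_iff, inv_smul_eq_iff]
        exact ⟨h1.symm, h2.symm⟩
      · rintro ⟨h, hh, rfl⟩
        rw [SetLike.mem_coe, mem_HH] at hh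
        simp only [Set.mem_ofPred_eq, mul_smul, hh.1, hh.2, h1, h2, and_self]
    rw [this, Set.ncard_image_of_injective _ (mul_right_injective g)]
    exact (Nat.card_coe_set_eq _).symm
  have hsub : {u ∈ JJ G Ω | u • a = b} ⊆ {t : G | t • a = b ∧ t • b = a} := by
    rintro u ⟨hu, hua⟩
    refine ⟨hua, ?_⟩
    rw [← hua, ← mul_smul, (S.mem_JJ_iff.mp hu).2.1, one_smul]
  have := Set.eq_of_subset_of_ncard_le hsub (by rw [hT, S.ncard_swap hab]) (Set.toFinite _)
  have hg : g ∈ {t : G | t • a = b ∧ t • b = a} := ⟨h1, h2⟩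
  rw [← this] at hg
  exact hg.1

theorem swap_mul_self {a b : Ω} (hab : a ≠ b) {g : G} (h1 : g • a = b) (h2 : g • b = a) : g * g = 1 :=
  (S.mem_JJ_iff.mp (S.swap_mem_JJ hab h1 h2)).2.1

/-- An element swapping `a` and `b` inverts `HH a b`. -/
theorem swap_conj {a b : Ω} (hab : a ≠ b) {g h : G} (h1 : g • a = b) (h2 : g • b = a) (hh : h ∈ HH G a b) :
    g * h * g = h⁻¹ := by
  have hh' := mem_HH.mp hh
  have h3 := S.swap_mul_self hab h1 h2
  have h4 := S.swap_mul_self hab (g := h * g) (by rw [mul_smul, h1, hh'.2]) (by rw [mul_smul, h2, hh'.1])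
  rw [eq_inv_iff_mul_eq_one]
  have : h⁻¹ * (h * g * (h * g)) * h = g * h * g * h := by group
  rw [← this, h4]; group

/-- An element swapping `a` and `b` commutes with `jj a b`. -/
theorem swap_comm_jj {a b : Ω} (hab : a ≠ b) {g : G} (h1 : g • a = b) (h2 : g • b = a) :
    g * jj G a b = jj G a b * g := by
  have := S.conj_jj hab g
  rw [h1, h2, ← S.jj_comm hab, mul_inv_eq_iff_eq_mul] at this
  exact this

/-- Every involution fixes two points. -/
theorem invol_mem_JJ {g : G} (h1 : g ≠ 1) (h2 : g * g = 1) : g ∈ JJ G Ω := by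
  by_contra hJ
  apply h1
  apply S.faithful
  intro x
  by_contra hx
  exact hJ (S.swap_mem_JJ (Ne.symm hx) rfl (by rw [← mul_smul, h2, one_smul]))

theorem not_four_dvd_stab {a b : Ω} (hab : a ≠ b) : ¬ 4 ∣ Nat.card (stabilizer G a) := by
  rw [S.card_stab hab]
  have h1 : 3 ^ (3 * n) % 8 = 3 := three_pow_mod (Nat.odd_mul.mpr ⟨by decide, S.odd⟩)
  have h2 := S.qmod
  have h3 := S.three_le
  intro h
  have h4 : (3 ^ (3 * n) * (3 ^ n - 1)) % 4 = 2 := by
    rw [Nat.mul_mod]
    have e1 : 3 ^ (3 * n) % 4 = 3 := by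
      have : 3 ^ (3 * n) % 8 % 4 = 3 ^ (3 * n) % 4 := Nat.mod_mod_of_dvd _ (by norm_num)
      rw [← this, h1]
    have e2 : (3 ^ n - 1) % 4 = 2 := by
      generalize 3 ^ n = x at *
      omega
    rw [e1, e2]
  rw [Nat.dvd_iff_mod_eq_zero] at h
  rw [h] at h4
  omega

/-- Two different commuting involutions have no common fixed point. -/
theorem no_common_fixed {u v : G} (hu : u * u = 1) (hu1 : u ≠ 1) (hv : v * v = 1) (hv1 : v ≠ 1) (huv : u ≠ v)
    (hc : u * v = v * u) {z : Ω} (hz : u • z = z) (hvz : v • z = z) : False := by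
  have hui : u⁻¹ = u := inv_eq_of_mul_eq_one_left hu
  have hvi : v⁻¹ = v := inv_eq_of_mul_eq_one_left hv
  let A : Subgroup G :=
    { carrier := {1, u, v, u * v}
      one_mem' := by simp
      mul_mem' := by
        have e1 : u * (u * v) = v := by rw [← mul_assoc, hu, one_mul]
        have e2 : v * (u * v) = u := by rw [hc, ← mul_assoc, hv, one_mul]
        have e3 : (u * v) * u = v := by rw [hc, mul_assoc, hu, mul_one]
        have e4 : (u * v) * v = u := by rw [mul_assoc, hv, mul_one]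
        have e5 : (u * v) * (u * v) = 1 := by rw [mul_assoc, e2, hu]
        rintro a b (rfl | rfl | rfl | rfl) (rfl | rfl | rfl | rfl) <;>
          simp only [one_mul, mul_one, hu, hv, e1, e2, e3, e4, e5, ← hc, Set.mem_insert_iff, Set.mem_singleton_iff,
            true_or, or_true]
      inv_mem' := by
        rintro a (rfl | rfl | rfl | rfl)
        · simp
        · rw [hui]; simp
        · rw [hvi]; simp
        · rw [mul_inv_rev, hui, hvi, ← hc]; simp }
  have hA4 : Nat.card A = 4 := by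
    have h1 : u * v ≠ 1 := fun h => huv (by rw [← hvi]; exact eq_inv_of_mul_eq_one_left h)
    have h2 : u * v ≠ u := fun h => hv1 (mul_eq_left.mp h)
    have h3 : u * v ≠ v := fun h => hu1 (mul_eq_right.mp h)
    have : Nat.card A = ({1, u, v, u * v} : Set G).ncard := rfl
    rw [this, Set.ncard_insert_of_notMem, Set.ncard_insert_of_notMem, Set.ncard_pair h3.symm]
    · simp only [Set.mem_insert_iff, Set.mem_singleton_iff, not_or]
      exact ⟨huv, h2.symm⟩
    · simp only [Set.mem_insert_iff, Set.mem_singleton_iff, not_or]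
      exact ⟨hu1.symm, hv1.symm, h1.symm⟩
  obtain ⟨x, hx⟩ : ∃ x : Ω, x ≠ z := by
    by_contra hcon
    push Not at hcon
    exact hu1 (S.faithful u fun x => by rw [hcon x, hz])
  apply S.not_four_dvd_stab hx.symm
  rw [← hA4]
  apply Subgroup.card_dvd_of_le
  rintro g (rfl | rfl | rfl | rfl)
  · exact mem_stabilizer_iff.mpr (one_smul _ _)
  · exact mem_stabilizer_iff.mpr hz
  · exact mem_stabilizer_iff.mpr hvz
  · rw [mem_stabilizer_iff, mul_smul, hvz, hz]

/-- Elements of `HH a b` other than `1` and the involution centralise no element of `U a`. -/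
theorem fpf' {a b : Ω} (hab : a ≠ b) {h : G} (hh : h ∈ HH G a b) (h1 : h ≠ 1) (hj : h ≠ jj G a b) {u : G}
    (hu : u ∈ U a) (hc : h * u = u * h) : u = 1 := by
  have h2 : h * h ≠ 1 := fun e => hj (S.eq_jj hab hh h1 e)
  refine S.fpf a b hab (h * h) ((HH G a b).mul_mem hh hh) h2 ?_ u hu ?_
  · have hpow : (h * h) ^ ((3 ^ n - 1) / 2) = 1 := by
      rw [← pow_two, ← pow_mul]
      have e : 2 * ((3 ^ n - 1) / 2) = Nat.card (HH G a b) := by
        rw [S.cardH a b hab]; have := S.qmod; omega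
      rw [e]
      exact congrArg Subtype.val (pow_card_eq_one' (x := (⟨h, hh⟩ : HH G a b)))
    have hd := orderOf_dvd_of_pow_eq_one hpow
    have hodd : Odd ((3 ^ n - 1) / 2) := by
      rw [Nat.odd_iff]
      have := S.qmod
      generalize 3 ^ n = x at this
      omega
    exact hodd.of_dvd_nat hd
  · rw [mul_assoc, hc, ← mul_assoc, hc, mul_assoc]

end Setup

end Cfsg.Agent.ReeUniq
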