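import Mathlib
import Cfsg.Agent.CharactersDeep.TracePow

/-!
# The two-graph idempotent of a split BN-pair of rank one

`dvd_sum`: if `α : G → ℤ` satisfies `α * α = N α` (convolution), then `N` divides
`∑ x, α (x⁻¹ u x)` for each `u` with `u ^ 3 = 1`.

`Rank1`: split BN-pair of rank one with an involution `t` inverting `H`; for a sign character `ε` of
`B` trivial on `U` let `τ = 0` on `B` and `τ (u t h v) = ε h`. Then
`τ * τ = |B| (|U| ε + c τ)` and we obtain the integrality theorem `Rank1.integrality`.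
-/

set_option autoImplicit false

namespace Cfsg.Agent.ReeUniq.TwoGraph

open scoped Classical in
/-- Integrality of traces attached to an idempotent of the rational group algebra. -/
theorem dvd_sum {G : Type*} [Group G] [Fintype G] (α : G → ℤ) (N : ℤ) (hN : N ≠ 0)
    (h : ∀ g, ∑ x, α x * α (x⁻¹ * g) = N * α g) (u : G) (hu : u ^ 3 = 1) :
    N ∣ ∑ x, α (x⁻¹ * u * x) := by
  have hN' : (N : ℂ) ≠ 0 := by exact_mod_cast hN
  let A : ℕ → Matrix G G ℂ := fun k => fun x y => (α (x⁻¹ * u ^ k * y) : ℂ) / N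
  have hA : ∀ k l, A k * A l = A (k + l) := by
    intro k l
    ext x y
    rw [Matrix.mul_apply]
    show ∑ z, (α (x⁻¹ * u ^ k * z) : ℂ) / N * ((α (z⁻¹ * u ^ l * y) : ℂ) / N) =
      (α (x⁻¹ * u ^ (k + l) * y) : ℂ) / N
    have h1 : ∑ z, (α (x⁻¹ * u ^ k * z) : ℂ) / N * ((α (z⁻¹ * u ^ l * y) : ℂ) / N)
        = ∑ w, (α w : ℂ) / N * ((α (w⁻¹ * (x⁻¹ * u ^ (k + l) * y)) : ℂ) / N) := by
      refine Fintype.sum_equiv (Equiv.mulLeft (x⁻¹ * u ^ k)) _ _ fun z => ?_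
      simp only [Equiv.coe_mulLeft]
      congr 4
      rw [pow_add]; group
    have h2 := h (x⁻¹ * u ^ (k + l) * y)
    have h3 : (∑ w, (α w : ℂ) * (α (w⁻¹ * (x⁻¹ * u ^ (k + l) * y)) : ℂ))
        = N * α (x⁻¹ * u ^ (k + l) * y) := by
      exact_mod_cast h2
    rw [h1]
    have h4 : ∀ w, (α w : ℂ) / N * ((α (w⁻¹ * (x⁻¹ * u ^ (k + l) * y)) : ℂ) / N)
        = (α w : ℂ) * (α (w⁻¹ * (x⁻¹ * u ^ (k + l) * y)) : ℂ) / (N * N) := by
      intro w; field_simp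
    simp only [h4]
    rw [← Finset.sum_div, h3]
    field_simp
  have hA4 : A 1 ^ (3 + 1) = A 1 := by
    have h4 : u ^ 4 = u ^ 1 := by rw [pow_succ, hu, one_mul, pow_one]
    have e1 : A 1 ^ (3 + 1) = A 4 := by
      rw [pow_succ, pow_succ, pow_two, hA, hA, hA]
    rw [e1]
    show (fun x y => (α (x⁻¹ * u ^ 4 * y) : ℂ) / N) = fun x y => (α (x⁻¹ * u ^ 1 * y) : ℂ) / N
    rw [h4]
  have hlin : (Matrix.toLin' (A 1)) ^ (3 + 1) = Matrix.toLin' (A 1) := by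
    rw [← Matrix.toLin'_pow, hA4]
  have hint := CharactersDeep.TracePow.isIntegral_trace_of_pow_succ_eq (Matrix.toLin' (A 1)) 3
    (by norm_num) hlin
  rw [Matrix.trace_toLin'_eq] at hint
  have htr : (A 1).trace = ((∑ x, α (x⁻¹ * u * x) : ℤ) : ℂ) / N := by
    show ∑ x, (α (x⁻¹ * u ^ 1 * x) : ℂ) / N = _
    rw [← Finset.sum_div, pow_one]
    push_cast
    rfl
  rw [htr] at hint
  set s : ℤ := ∑ x, α (x⁻¹ * u * x) with hs
  have hq : ((s : ℂ) / N) = algebraMap ℚ ℂ ((s : ℚ) / N) := by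
    simp
  rw [hq, isIntegral_algebraMap_iff (algebraMap ℚ ℂ).injective] at hint
  obtain ⟨m, hm⟩ := IsIntegrallyClosed.isIntegral_iff.1 hint
  refine ⟨m, ?_⟩
  have hNq : (N : ℚ) ≠ 0 := by exact_mod_cast hN
  have : (s : ℚ) = N * m := by
    have hm' : (m : ℚ) = (s : ℚ) / N := by simpa using hm
    rw [hm']; field_simp
  exact_mod_cast this

/-- A split BN-pair of rank one with an involution `t` inverting `H`. -/
structure Rank1 (G : Type*) [Group G] where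
  B : Subgroup G
  U : Subgroup G
  H : Subgroup G
  t : G
  hUB : U ≤ B
  hHB : H ≤ B
  hB : ∀ b ∈ B, ∃ h ∈ H, ∃ u ∈ U, b = h * u
  hUn : ∀ b ∈ B, ∀ u ∈ U, b * u * b⁻¹ ∈ U
  hUH : ∀ x ∈ U, x ∈ H → x = 1
  htB : t ∉ B
  htt : t * t = 1
  htH : ∀ h ∈ H, t * h = h⁻¹ * t
  hBt : ∀ x ∈ B, t * x * t ∈ B → x ∈ H
  hBruhat : ∀ g, g ∉ B → ∃ u ∈ U, ∃ b ∈ B, g = u * t * b

/-- A sign character of `B`, trivial on `U`. -/
structure Sgn {G : Type*} [Group G] (R : Rank1 G) (ε : G → ℤ) : Prop where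
  sq : ∀ b ∈ R.B, ε b * ε b = 1
  mul : ∀ a ∈ R.B, ∀ b ∈ R.B, ε (a * b) = ε a * ε b
  U : ∀ u ∈ R.U, ε u = 1

variable {G : Type*} [Group G] (R : Rank1 G)

namespace Rank1

theorem tinv : R.t⁻¹ = R.t := by
  rw [inv_eq_iff_mul_eq_one]; exact R.htt

theorem ht {h : G} (hh : h ∈ R.H) : h * R.t = R.t * h⁻¹ := by
  have := R.htH h⁻¹ (inv_mem hh)
  rw [inv_inv] at this
  exact this.symm

theorem tt (x : G) : R.t * (R.t * x) = x := by
  rw [← mul_assoc, R.htt, one_mul]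

theorem uniq {u h v u' h' v' : G} (hu : u ∈ R.U) (hh : h ∈ R.H) (hv : v ∈ R.U)
    (hu' : u' ∈ R.U) (hh' : h' ∈ R.H) (hv' : v' ∈ R.U)
    (e : u * R.t * h * v = u' * R.t * h' * v') : u = u' ∧ h = h' ∧ v = v' := by
  have h1 : R.t * (u'⁻¹ * u) * R.t = h' * v' * v⁻¹ * h⁻¹ := by
    have : u'⁻¹ * u * R.t = R.t * (h' * v' * v⁻¹ * h⁻¹) := by
      calc u'⁻¹ * u * R.t = u'⁻¹ * (u * R.t * h * v) * v⁻¹ * h⁻¹ := by group
        _ = u'⁻¹ * (u' * R.t * h' * v') * v⁻¹ * h⁻¹ := by rw [e]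
        _ = R.t * (h' * v' * v⁻¹ * h⁻¹) := by group
    calc R.t * (u'⁻¹ * u) * R.t = R.t * (u'⁻¹ * u * R.t) := by group
      _ = _ := by rw [this, R.tt]
  have h2 : u'⁻¹ * u ∈ R.H := by
    apply R.hBt _ (mul_mem (inv_mem (R.hUB hu')) (R.hUB hu))
    rw [h1]
    exact mul_mem (mul_mem (mul_mem (R.hHB hh') (R.hUB hv')) (inv_mem (R.hUB hv)))
      (inv_mem (R.hHB hh))
  have h3 : u'⁻¹ * u = 1 := R.hUH _ (mul_mem (inv_mem hu') hu) h2
  have h4 : u = u' := by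
    rw [inv_mul_eq_one] at h3; exact h3.symm
  subst h4
  have h5 : h * v = h' * v' := by
    have : u * R.t * (h * v) = u * R.t * (h' * v') := by
      simpa only [mul_assoc] using e
    exact mul_left_cancel this
  have h6 : h'⁻¹ * h = v' * v⁻¹ := by
    rw [inv_mul_eq_iff_eq_mul, ← mul_assoc, ← h5]; group
  have h7 : h'⁻¹ * h = 1 := by
    apply R.hUH _ _ (mul_mem (inv_mem hh') hh)
    rw [h6]; exact mul_mem hv' (inv_mem hv)
  have h8 : h = h' := by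
    rw [inv_mul_eq_one] at h7; exact h7.symm
  subst h8
  exact ⟨rfl, rfl, mul_left_cancel h5⟩

theorem exists_nf {g : G} (hg : g ∉ R.B) :
    ∃ u ∈ R.U, ∃ h ∈ R.H, ∃ v ∈ R.U, g = u * R.t * h * v := by
  obtain ⟨a, ha, b, hb, e⟩ := R.hBruhat _ hg
  obtain ⟨h, hh, v, hv, rfl⟩ := R.hB b hb
  exact ⟨a, ha, h, hh, v, hv, by rw [e]; group⟩

theorem nf_notMem {u h v : G} (hu : u ∈ R.U) (hh : h ∈ R.H) (hv : v ∈ R.U) :
    u * R.t * h * v ∉ R.B := by
  intro h1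
  apply R.htB
  have h2 : R.t = u⁻¹ * (u * R.t * h * v) * (h * v)⁻¹ := by group
  rw [h2]
  exact mul_mem (mul_mem (inv_mem (R.hUB hu)) h1) (inv_mem (mul_mem (R.hHB hh) (R.hUB hv)))

open scoped Classical in
/-- The function `τ`: zero on `B`, and `τ (u t h v) = ε h`. -/
noncomputable def tau (ε : G → ℤ) (g : G) : ℤ :=
  if h : ∃ x : G × G × G, x.1 ∈ R.U ∧ x.2.1 ∈ R.H ∧ x.2.2 ∈ R.U ∧ g = x.1 * R.t * x.2.1 * x.2.2
  then ε h.choose.2.1 else 0

theorem tau_nf (ε : G → ℤ) {u h v : G} (hu : u ∈ R.U) (hh : h ∈ R.H) (hv : v ∈ R.U) :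
    R.tau ε (u * R.t * h * v) = ε h := by
  have hex : ∃ x : G × G × G, x.1 ∈ R.U ∧ x.2.1 ∈ R.H ∧ x.2.2 ∈ R.U ∧
      u * R.t * h * v = x.1 * R.t * x.2.1 * x.2.2 := ⟨(u, h, v), hu, hh, hv, rfl⟩
  rw [tau, dif_pos hex]
  obtain ⟨h1, h2, h3, h4⟩ := hex.choose_spec
  rw [← (R.uniq hu hh hv h1 h2 h3 h4).2.1]

theorem tau_B (ε : G → ℤ) {g : G} (hg : g ∈ R.B) : R.tau ε g = 0 := by
  rw [tau, dif_neg]
  rintro ⟨⟨u, h, v⟩, hu, hh, hv, rfl⟩
  exact R.nf_notMem hu hh hv hg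

variable {R} {ε : G → ℤ}

theorem eps_one (E : Sgn R ε) : ε 1 = 1 := E.U 1 (one_mem _)

theorem eps_inv (E : Sgn R ε) {b : G} (hb : b ∈ R.B) : ε b⁻¹ = ε b := by
  have h1 : ε b⁻¹ * ε b = 1 := by
    rw [← E.mul _ (inv_mem hb) _ hb, inv_mul_cancel, eps_one E]
  have h2 := E.sq b hb
  calc ε b⁻¹ = ε b⁻¹ * (ε b * ε b) := by rw [h2, mul_one]
    _ = (ε b⁻¹ * ε b) * ε b := by ring
    _ = ε b := by rw [h1, one_mul]

theorem tau_mul_left (E : Sgn R ε) {b : G} (hb : b ∈ R.B) (g : G) :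
    R.tau ε (b * g) = ε b * R.tau ε g := by
  by_cases hg : g ∈ R.B
  · rw [R.tau_B ε hg, R.tau_B ε (mul_mem hb hg), mul_zero]
  · obtain ⟨u, hu, h, hh, v, hv, rfl⟩ := R.exists_nf hg
    obtain ⟨k, hk, w, hw, rfl⟩ := R.hB b hb
    have e : k * w * (u * R.t * h * v) = (k * (w * u) * k⁻¹) * R.t * (k⁻¹ * h) * v := by
      calc k * w * (u * R.t * h * v) = (k * (w * u) * k⁻¹) * (k * R.t) * h * v := by group
        _ = _ := by rw [R.ht hk]; group
    rw [e, R.tau_nf ε (R.hUn k (R.hHB hk) _ (mul_mem hw hu)) (mul_mem (inv_mem hk) hh) hv,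
      R.tau_nf ε hu hh hv, E.mul _ (inv_mem (R.hHB hk)) _ (R.hHB hh), eps_inv E (R.hHB hk),
      E.mul _ (R.hHB hk) _ (R.hUB hw), E.U w hw, mul_one]

theorem tau_mul_right (E : Sgn R ε) {b : G} (hb : b ∈ R.B) (g : G) :
    R.tau ε (g * b) = R.tau ε g * ε b := by
  by_cases hg : g ∈ R.B
  · rw [R.tau_B ε hg, R.tau_B ε (mul_mem hg hb), zero_mul]
  · obtain ⟨u, hu, h, hh, v, hv, rfl⟩ := R.exists_nf hg
    obtain ⟨k, hk, w, hw, rfl⟩ := R.hB b hb
    have e : u * R.t * h * v * (k * w) = u * R.t * (h * k) * ((k⁻¹ * v * k) * w) := by group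
    have hv' : k⁻¹ * v * k ∈ R.U := by
      have := R.hUn k⁻¹ (inv_mem (R.hHB hk)) v hv
      rwa [inv_inv] at this
    rw [e, R.tau_nf ε hu (mul_mem hh hk) (mul_mem hv' hw), R.tau_nf ε hu hh hv,
      E.mul _ (R.hHB hh) _ (R.hHB hk), E.mul _ (R.hHB hk) _ (R.hUB hw), E.U w hw, mul_one]

theorem tau_inv (ε : G → ℤ) (g : G) : R.tau ε g⁻¹ = R.tau ε g := by
  by_cases hg : g ∈ R.B
  · rw [R.tau_B ε hg, R.tau_B ε (inv_mem hg)]
  · obtain ⟨u, hu, h, hh, v, hv, rfl⟩ := R.exists_nf hg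
    have e : (u * R.t * h * v)⁻¹ = v⁻¹ * R.t * h * u⁻¹ := by
      calc (u * R.t * h * v)⁻¹ = v⁻¹ * (h⁻¹ * R.t⁻¹) * u⁻¹ := by group
        _ = v⁻¹ * (R.t * h) * u⁻¹ := by rw [R.tinv, ← R.htH h hh]
        _ = _ := by group
    rw [e, R.tau_nf ε (inv_mem hv) hh (inv_mem hu), R.tau_nf ε hu hh hv]

theorem tau_t (E : Sgn R ε) : R.tau ε R.t = 1 := by
  have := R.tau_nf ε (one_mem R.U) (one_mem R.H) (one_mem R.U)
  rw [one_mul, mul_one, mul_one] at this
  rw [this, eps_one E]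

theorem tau_sq (E : Sgn R ε) {g : G} (hg : g ∉ R.B) : R.tau ε g * R.tau ε g = 1 := by
  obtain ⟨u, hu, h, hh, v, hv, rfl⟩ := R.exists_nf hg
  rw [R.tau_nf ε hu hh hv]
  exact E.sq h (R.hHB hh)

variable (R) in
/-- The parametrisation of `G` by `B ⊔ U × B`. -/
def param : R.B ⊕ (R.U × R.B) → G
  | Sum.inl b => b
  | Sum.inr p => p.1 * R.t * p.2

variable (R) in
theorem param_bijective : Function.Bijective R.param := by
  constructor
  · rintro (b | ⟨u, b⟩) (b' | ⟨u', b'⟩) e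
    · exact congrArg Sum.inl (Subtype.ext e)
    · exfalso
      have e' : (b : G) = u' * R.t * b' := e
      apply R.htB
      have : R.t = (u' : G)⁻¹ * b * (b' : G)⁻¹ := by rw [e']; group
      rw [this]
      exact mul_mem (mul_mem (inv_mem (R.hUB u'.2)) b.2) (inv_mem b'.2)
    · exfalso
      have e' : (u : G) * R.t * b = b' := e
      apply R.htB
      have : R.t = (u : G)⁻¹ * b' * (b : G)⁻¹ := by rw [← e']; group
      rw [this]
      exact mul_mem (mul_mem (inv_mem (R.hUB u.2)) b'.2) (inv_mem b.2)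
    · have e' : (u : G) * R.t * b = u' * R.t * b' := e
      obtain ⟨h, hh, v, hv, hb⟩ := R.hB b b.2
      obtain ⟨h', hh', v', hv', hb'⟩ := R.hB b' b'.2
      have e2 : (u : G) * R.t * h * v = u' * R.t * h' * v' := by
        rw [hb, hb'] at e'
        simpa only [mul_assoc] using e'
      obtain ⟨h1, h2, h3⟩ := R.uniq u.2 hh hv u'.2 hh' hv' e2
      have h4 : b = b' := Subtype.ext (by rw [hb, hb', h2, h3])
      rw [Subtype.ext h1, h4]
  · intro g
    by_cases hg : g ∈ R.B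
    · exact ⟨Sum.inl ⟨g, hg⟩, rfl⟩
    · obtain ⟨u, hu, b, hb, rfl⟩ := R.hBruhat g hg
      exact ⟨Sum.inr (⟨u, hu⟩, ⟨b, hb⟩), rfl⟩

open scoped Classical in
variable (R) in
theorem sum_split [Fintype G] {M : Type*} [AddCommMonoid M] (F : G → M) :
    ∑ g, F g = ∑ b : R.B, F b + ∑ u : R.U, ∑ b : R.B, F (u * R.t * b) := by
  have h := R.param_bijective.sum_comp F
  rw [← h, Fintype.sum_sum_type, Fintype.sum_prod_type]
  rfl

variable (R) in
/-- `f u = ε (h u)` where `t u t = a t h b`. -/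
noncomputable def f (ε : G → ℤ) (u : G) : ℤ := R.tau ε (R.t * u * R.t)

theorem f_one : R.f ε 1 = 0 := by
  rw [f, mul_one, R.htt]; exact R.tau_B ε (one_mem _)

theorem f_inv (u : G) : R.f ε u⁻¹ = R.f ε u := by
  rw [f, f, ← tau_inv ε (R.t * u * R.t)]
  congr 1
  rw [mul_inv_rev, mul_inv_rev, R.tinv, mul_assoc]

theorem f_sq (E : Sgn R ε) {u : G} (hu : u ∈ R.U) (hu1 : u ≠ 1) : R.f ε u * R.f ε u = 1 := by
  apply tau_sq E
  intro h
  exact hu1 (R.hUH u hu (R.hBt u (R.hUB hu) h))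

/-- `f` is invariant under `H`. -/
theorem f_conj (E : Sgn R ε) {h : G} (hh : h ∈ R.H) (u : G) : R.f ε (h * u * h⁻¹) = R.f ε u := by
  have e : R.t * (h * u * h⁻¹) * R.t = h⁻¹ * (R.t * u * R.t) * h := by
    calc R.t * (h * u * h⁻¹) * R.t = (R.t * h) * u * (h⁻¹ * R.t) := by group
      _ = (h⁻¹ * R.t) * u * (R.t * h) := by rw [R.htH h hh, R.ht (inv_mem hh), inv_inv]
      _ = _ := by group
  rw [f, e, tau_mul_right E (R.hHB hh), tau_mul_left E (inv_mem (R.hHB hh)),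
    eps_inv E (R.hHB hh), f]
  have := E.sq h (R.hHB hh)
  calc ε h * R.tau ε (R.t * u * R.t) * ε h = (ε h * ε h) * R.tau ε (R.t * u * R.t) := by ring
    _ = _ := by rw [this, one_mul]

section Sums

variable [Fintype G]

open scoped Classical

variable (R) in
/-- The number `c = ∑ f u`. -/
noncomputable def c (ε : G → ℤ) : ℤ := ∑ u : R.U, R.f ε u

/-- Self-convolution of `τ`. -/
theorem conv (E : Sgn R ε) (g : G) : ∑ x, R.tau ε x * R.tau ε (x⁻¹ * g) =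
    Fintype.card R.B * ((Fintype.card R.U) * (if g ∈ R.B then ε g else 0) + R.c ε * R.tau ε g) := by
  -- values at `1` and `t`
  have h1 : ∑ x, R.tau ε x * R.tau ε (x⁻¹ * 1) = Fintype.card R.U * Fintype.card R.B := by
    rw [R.sum_split]
    have e1 : ∑ b : R.B, R.tau ε b * R.tau ε ((b : G)⁻¹ * 1) = 0 :=
      Finset.sum_eq_zero fun b _ => by rw [R.tau_B ε b.2, zero_mul]
    have e2 : ∀ u : R.U, ∀ b : R.B,
        R.tau ε (u * R.t * b) * R.tau ε (((u : G) * R.t * b)⁻¹ * 1) = 1 := by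
      intro u b
      rw [mul_one, tau_inv]
      apply tau_sq E
      intro h
      apply R.htB
      have : R.t = (u : G)⁻¹ * (u * R.t * b) * (b : G)⁻¹ := by group
      rw [this]
      exact mul_mem (mul_mem (inv_mem (R.hUB u.2)) h) (inv_mem b.2)
    rw [e1, zero_add, Finset.sum_congr rfl fun u _ => Finset.sum_congr rfl fun b _ => e2 u b]
    simp only [Finset.sum_const, Finset.card_univ, mul_one, nsmul_eq_mul]
  have ht : ∑ x, R.tau ε x * R.tau ε (x⁻¹ * R.t) = Fintype.card R.B * R.c ε := by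
    rw [R.sum_split]
    have e1 : ∑ b : R.B, R.tau ε b * R.tau ε ((b : G)⁻¹ * R.t) = 0 :=
      Finset.sum_eq_zero fun b _ => by rw [R.tau_B ε b.2, zero_mul]
    have e2 : ∀ u : R.U, ∀ b : R.B,
        R.tau ε (u * R.t * b) * R.tau ε (((u : G) * R.t * b)⁻¹ * R.t) = R.f ε u := by
      intro u b
      have h3 : ((u : G) * R.t * b)⁻¹ * R.t = (b : G)⁻¹ * (R.t * (u : G)⁻¹ * R.t) := by
        calc ((u : G) * R.t * b)⁻¹ * R.t = (b : G)⁻¹ * (R.t⁻¹ * (u : G)⁻¹ * R.t) := by group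
          _ = _ := by rw [R.tinv]
      rw [h3, tau_mul_left E (inv_mem b.2), tau_mul_right E b.2, tau_mul_left E (R.hUB u.2),
        E.U u u.2, tau_t E, eps_inv E b.2]
      have h4 : R.tau ε (R.t * (u : G)⁻¹ * R.t) = R.f ε u := by
        rw [← f_inv]; rfl
      rw [h4]
      have := E.sq b b.2
      calc 1 * 1 * ε b * (ε b * R.f ε u) = (ε b * ε b) * R.f ε u := by ring
        _ = _ := by rw [this, one_mul]
    rw [e1, zero_add]
    simp only [e2, Finset.sum_const, Finset.card_univ, nsmul_eq_mul]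
    rw [← Finset.mul_sum]; rfl
  -- bi-equivariance
  have hl : ∀ b ∈ R.B, ∀ g, ∑ x, R.tau ε x * R.tau ε (x⁻¹ * (b * g)) =
      ε b * ∑ x, R.tau ε x * R.tau ε (x⁻¹ * g) := by
    intro b hb g
    rw [Finset.mul_sum]
    symm
    refine Fintype.sum_equiv (Equiv.mulLeft b) _ _ fun x => ?_
    simp only [Equiv.coe_mulLeft]
    rw [tau_mul_left E hb, mul_assoc]
    congr 3
    group
  have hr : ∀ b ∈ R.B, ∀ g, ∑ x, R.tau ε x * R.tau ε (x⁻¹ * (g * b)) =
      (∑ x, R.tau ε x * R.tau ε (x⁻¹ * g)) * ε b := by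
    intro b hb g
    rw [Finset.sum_mul]
    refine Finset.sum_congr rfl fun x _ => ?_
    rw [← mul_assoc x⁻¹, tau_mul_right E hb, mul_assoc]
  by_cases hg : g ∈ R.B
  · rw [if_pos hg, R.tau_B ε hg]
    have := hl g hg 1
    rw [mul_one] at this
    rw [this, h1]; ring
  · rw [if_neg hg]
    obtain ⟨u, hu, b, hb, rfl⟩ := R.hBruhat g hg
    rw [hr b hb, hl u (R.hUB hu), ht, tau_mul_right E hb, tau_mul_left E (R.hUB hu), E.U u hu,
      tau_t E]
    ring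

/-- Convolutions with the sign character of `B`. -/
theorem conv_eps_left (E : Sgn R ε) (F : G → ℤ) (hF : ∀ b ∈ R.B, ∀ g, F (b * g) = ε b * F g)
    (g : G) : ∑ x, (if x ∈ R.B then ε x else 0) * F (x⁻¹ * g) = Fintype.card R.B * F g := by
  rw [R.sum_split]
  have e1 : ∀ b : R.B, (if (b : G) ∈ R.B then ε b else 0) * F ((b : G)⁻¹ * g) = F g := by
    intro b
    rw [if_pos b.2, hF _ (inv_mem b.2), eps_inv E b.2, ← mul_assoc, E.sq b b.2, one_mul]
  have e2 : ∀ u : R.U, ∀ b : R.B, (if (u * R.t * b : G) ∈ R.B then ε (u * R.t * b) else 0) *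
      F (((u : G) * R.t * b)⁻¹ * g) = 0 := by
    intro u b
    rw [if_neg, zero_mul]
    intro h
    apply R.htB
    have : R.t = (u : G)⁻¹ * (u * R.t * b) * (b : G)⁻¹ := by group
    rw [this]
    exact mul_mem (mul_mem (inv_mem (R.hUB u.2)) h) (inv_mem b.2)
  simp only [e1, e2, Finset.sum_const_zero, add_zero, Finset.sum_const, Finset.card_univ,
    nsmul_eq_mul]

theorem conv_eps_right (E : Sgn R ε) (F : G → ℤ) (hF : ∀ b ∈ R.B, ∀ g, F (g * b) = F g * ε b)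
    (g : G) : ∑ x, F x * (if x⁻¹ * g ∈ R.B then ε (x⁻¹ * g) else 0) = Fintype.card R.B * F g := by
  have h1 : ∑ x, F x * (if x⁻¹ * g ∈ R.B then ε (x⁻¹ * g) else 0) =
      ∑ y, F (g * y⁻¹) * (if y ∈ R.B then ε y else 0) := by
    refine Fintype.sum_equiv ((Equiv.inv G).trans (Equiv.mulRight g)) _ _ fun x => ?_
    simp only [Equiv.trans_apply, Equiv.inv_apply, Equiv.coe_mulRight]
    rw [mul_inv_rev, inv_inv, mul_inv_cancel_left]
  rw [h1, R.sum_split]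
  have e1 : ∀ b : R.B, F (g * (b : G)⁻¹) * (if (b : G) ∈ R.B then ε b else 0) = F g := by
    intro b
    rw [if_pos b.2, hF _ (inv_mem b.2), eps_inv E b.2, mul_assoc, E.sq b b.2, mul_one]
  have e2 : ∀ u : R.U, ∀ b : R.B, F (g * ((u : G) * R.t * b)⁻¹) *
      (if (u * R.t * b : G) ∈ R.B then ε (u * R.t * b) else 0) = 0 := by
    intro u b
    rw [if_neg, mul_zero]
    intro h
    apply R.htB
    have : R.t = (u : G)⁻¹ * (u * R.t * b) * (b : G)⁻¹ := by group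
    rw [this]
    exact mul_mem (mul_mem (inv_mem (R.hUB u.2)) h) (inv_mem b.2)
  simp only [e1, e2, Finset.sum_const_zero, add_zero, Finset.sum_const, Finset.card_univ,
    nsmul_eq_mul]

/-- **Integrality theorem**: `ρ, ρ'` are the roots of `X² - c X - |U|`, `u ∈ U`, `u ≠ 1`, `u³ = 1`;
then `(ρ - ρ') ∣ ρ - ∑ v : U, f (v⁻¹ u v)`. -/
theorem integrality (E : Sgn R ε) {ρ ρ' : ℤ} (h1 : ρ + ρ' = R.c ε)
    (h2 : ρ * ρ' = - Fintype.card R.U) (hne : ρ ≠ ρ') {u : G} (hu : u ∈ R.U)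
    (hu3 : u ^ 3 = 1) (hTI : ∀ x, x⁻¹ * u * x ∈ R.B → x ∈ R.B) :
    (ρ - ρ') ∣ ρ - ∑ v : R.U, R.f ε ((v : G)⁻¹ * u * v) := by
  set α : G → ℤ := fun g => ρ * (if g ∈ R.B then ε g else 0) - R.tau ε g with hα
  have hBpos : (Fintype.card R.B : ℤ) ≠ 0 := by exact_mod_cast Fintype.card_ne_zero
  have hεl : ∀ b ∈ R.B, ∀ g, (if b * g ∈ R.B then ε (b * g) else 0) =
      ε b * (if g ∈ R.B then ε g else 0) := by
    intro b hb g
    by_cases hg : g ∈ R.B
    · rw [if_pos hg, if_pos (mul_mem hb hg), E.mul b hb g hg]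
    · rw [if_neg hg, if_neg, mul_zero]
      intro h
      apply hg
      have := mul_mem (inv_mem hb) h
      rwa [inv_mul_cancel_left] at this
  have hconv : ∀ g, ∑ x, α x * α (x⁻¹ * g) = (Fintype.card R.B * (ρ - ρ')) * α g := by
    intro g
    have e1 := conv_eps_left E (fun g => if g ∈ R.B then ε g else 0) hεl g
    have e2 := conv_eps_left E (R.tau ε) (fun b hb g => tau_mul_left E hb g) g
    have e3 := conv_eps_right E (R.tau ε) (fun b hb g => tau_mul_right E hb g) g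
    have e4 := conv E g
    have e5 : ∑ x, α x * α (x⁻¹ * g) =
        ρ * ρ * (∑ x, (if x ∈ R.B then ε x else 0) * (if x⁻¹ * g ∈ R.B then ε (x⁻¹ * g) else 0))
        - ρ * (∑ x, (if x ∈ R.B then ε x else 0) * R.tau ε (x⁻¹ * g))
        - ρ * (∑ x, R.tau ε x * (if x⁻¹ * g ∈ R.B then ε (x⁻¹ * g) else 0))
        + ∑ x, R.tau ε x * R.tau ε (x⁻¹ * g) := by
      rw [Finset.mul_sum, Finset.mul_sum, Finset.mul_sum, ← Finset.sum_sub_distrib,
        ← Finset.sum_sub_distrib, ← Finset.sum_add_distrib]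
      refine Finset.sum_congr rfl fun x _ => ?_
      simp only [hα]; ring
    rw [e5, e1, e2, e3, e4, hα]
    have h3 : (Fintype.card R.U : ℤ) = - (ρ * ρ') := by rw [h2]; ring
    rw [h3, ← h1]
    ring
  have hN : (Fintype.card R.B * (ρ - ρ') : ℤ) ≠ 0 :=
    mul_ne_zero hBpos (sub_ne_zero.2 hne)
  have hdvd := dvd_sum α _ hN hconv u hu3
  -- compute the sum
  have hsum : ∑ x, α (x⁻¹ * u * x) =
      Fintype.card R.B * (ρ - ∑ v : R.U, R.f ε ((v : G)⁻¹ * u * v)) := by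
    rw [R.sum_split]
    have e1 : ∀ b : R.B, α ((b : G)⁻¹ * u * b) = ρ := by
      intro b
      have hb : (b : G)⁻¹ * u * b ∈ R.U := by
        have := R.hUn (b : G)⁻¹ (inv_mem b.2) u hu
        rwa [inv_inv] at this
      simp only [hα]
      rw [if_pos (R.hUB hb), E.U _ hb, R.tau_B ε (R.hUB hb)]; ring
    have e2 : ∀ v : R.U, ∀ b : R.B, α (((v : G) * R.t * b)⁻¹ * u * (v * R.t * b)) =
        - R.f ε ((v : G)⁻¹ * u * v) := by
      intro v b
      have hn : ((v : G) * R.t * b)⁻¹ * u * (v * R.t * b) ∉ R.B := by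
        intro h
        have h3 := hTI _ h
        apply R.htB
        have : R.t = (v : G)⁻¹ * (v * R.t * b) * (b : G)⁻¹ := by group
        rw [this]
        exact mul_mem (mul_mem (inv_mem (R.hUB v.2)) h3) (inv_mem b.2)
      simp only [hα]
      rw [if_neg hn]
      have e3 : ((v : G) * R.t * b)⁻¹ * u * (v * R.t * b) =
          (b : G)⁻¹ * (R.t * ((v : G)⁻¹ * u * v) * R.t) * b := by
        calc ((v : G) * R.t * b)⁻¹ * u * (v * R.t * b) =
            (b : G)⁻¹ * (R.t⁻¹ * ((v : G)⁻¹ * u * v) * R.t) * b := by group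
          _ = _ := by rw [R.tinv]
      rw [e3, tau_mul_right E b.2, tau_mul_left E (inv_mem b.2), eps_inv E b.2]
      have := E.sq b b.2
      rw [f]
      linear_combination (- R.tau ε (R.t * ((v : G)⁻¹ * u * v) * R.t)) * this
    simp only [e1, e2, Finset.sum_const, Finset.card_univ, nsmul_eq_mul]
    rw [← Finset.mul_sum, Finset.sum_neg_distrib]
    ring
  rw [hsum] at hdvd
  exact (mul_dvd_mul_iff_left hBpos).1 hdvd

end Sums

end Rank1

end Cfsg.Agent.ReeUniq.TwoGraph
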